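import Cfsg.Agent.Lib.Fusion.RankThree.Endgame
import Cfsg.Agent.Lib.Critical.Basic
import Cfsg.Agent.Lib.HSub.Fusion
import Cfsg.Prelude.Def_CaseTheorems

/-!
Group-theoretic lemmas for the gluing.
-/

set_option autoImplicit false
set_option linter.style.haveILetI false
set_option linter.unusedSectionVars false

namespace CfsgLib.RankThree

open scoped commutatorElement

variable {Y : Type*} [Group Y]

/-- An automorphism descends along a surjection whose kernel it preserves. -/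
theorem exists_desc {A B : Type*} [Group A] [Finite A] [Group B] {φ : A →* B}
    (hφ : Function.Surjective φ) {α : MulAut A} (h : ∀ x, φ x = 1 → φ (α x) = 1) :
    ∃ β : MulAut B, ∀ x, β (φ x) = φ (α x) := by
  haveI : Finite B := Finite.of_surjective φ hφ
  obtain ⟨g, hg⟩ : ∃ g : B →* B, ∀ x, g (φ x) = φ (α x) := by
    refine ⟨φ.liftOfSurjective hφ ⟨φ.comp α.toMonoidHom, fun x hx => ?_⟩, fun x => ?_⟩
    · exact MonoidHom.mem_ker.2 (h x (MonoidHom.mem_ker.1 hx))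
    · exact φ.liftOfRightInverse_comp_apply _ _ _ x
  have hs : Function.Surjective g := fun b => by
    obtain ⟨a, rfl⟩ := hφ b
    exact ⟨φ (α.symm a), by rw [hg, α.apply_symm_apply]⟩
  exact ⟨MulEquiv.ofBijective g (Finite.surjective_iff_bijective.1 hs), hg⟩

theorem le_powComm_of_frattini {p : ℕ} [Fact p.Prime] {E : Subgroup Y} [Finite E] {e : E}
    (he : e ∈ frattini E) : (e : Y) ∈ powComm p E := by
  obtain ⟨R, hR⟩ : ∃ R, R = (powComm p E).subgroupOf E := ⟨_, rfl⟩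
  have hn : R.Normal := by
    refine ⟨fun z hz g => ?_⟩
    rw [hR, Subgroup.mem_subgroupOf] at hz ⊢
    exact conj_mem_powComm (fun e he => E.mul_mem (E.mul_mem g.2 he) (E.inv_mem g.2)) _ hz
  have h1 := CfsgLib.Critical.frattini_le_of_elementary (p := p) R
    (by
      rw [commutator_def, Subgroup.commutator_le]
      intro a _ b _
      rw [hR, Subgroup.mem_subgroupOf]
      exact Subgroup.subset_closure (Or.inr ⟨a, a.2, b, b.2, by
        simp [commutatorElement_def]⟩))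
    (fun x => by
      rw [hR, Subgroup.mem_subgroupOf]
      exact Subgroup.subset_closure (Or.inl ⟨x, x.2, by simp⟩)) he
  rwa [hR, Subgroup.mem_subgroupOf] at h1

theorem frattini_of_mem_powComm {p : ℕ} [Fact p.Prime] {E : Subgroup Y} [Finite E]
    (hE : IsPGroup p E) {z : Y} (hz : z ∈ powComm p E) :
    ∃ e : E, (e : Y) = z ∧ e ∈ frattini E := by
  suffices z ∈ (frattini E).map E.subtype by
    obtain ⟨e, he, h⟩ := this
    exact ⟨e, h, he⟩
  refine (Subgroup.closure_le _).2 ?_ hz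
  rintro z (⟨e, he, rfl⟩ | ⟨e, he, f, hf, rfl⟩)
  · exact ⟨⟨e, he⟩ ^ p, CfsgLib.OddOmega.pow_mem_frattini hE _, by simp⟩
  · exact ⟨⁅⟨e, he⟩, ⟨f, hf⟩⁆, CfsgLib.HSub.commutator_le_frattini hE
      (Subgroup.commutator_mem_commutator (Subgroup.mem_top _) (Subgroup.mem_top _)),
      by simp [commutatorElement_def]⟩

theorem powComm_map_le {Z : Type*} [Group Z] (π : Y →* Z) (p : ℕ) (E : Subgroup Y) :
    powComm p (E.map π) ≤ (powComm p E).map π := by
  refine (Subgroup.closure_le _).2 ?_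
  rintro z (⟨_, ⟨e, he, rfl⟩, rfl⟩ | ⟨_, ⟨e, he, rfl⟩, _, ⟨f, hf, rfl⟩, rfl⟩)
  · exact ⟨e ^ p, Subgroup.subset_closure (Or.inl ⟨e, he, rfl⟩), map_pow π e p⟩
  · exact ⟨⁅e, f⁆, Subgroup.subset_closure (Or.inr ⟨e, he, f, hf, rfl⟩),
      map_commutatorElement π e f⟩

/-- Sectional rank bounds the elementary abelian subgroups of every section. -/
theorem rank_of_section {p k : ℕ} {G : Type*} [Group G] (h : Cfsg.SectionalPRankLE p k G)
    {H : Subgroup G} {φ : H →* Y} (hφ : Function.Surjective φ) (A : Subgroup Y)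
    (hc : ∀ a ∈ A, ∀ b ∈ A, a * b = b * a) (hp : ∀ a ∈ A, a ^ p = 1) : Nat.card A ≤ p ^ k := by
  obtain ⟨e, -⟩ : ∃ e : (H ⧸ φ.ker) ≃* Y, True :=
    ⟨QuotientGroup.quotientKerEquivOfSurjective φ hφ, trivial⟩
  have h1 := h H φ.ker (A.map e.symm.toMonoidHom) ⟨⟨fun a b => Subtype.ext ?_⟩⟩ ?_
  · rwa [Subgroup.card_map_of_injective e.symm.injective] at h1
  · obtain ⟨x, hx, hxa⟩ := a.2
    obtain ⟨y, hy, hyb⟩ := b.2
    show (a : H ⧸ φ.ker) * b = b * a
    rw [← hxa, ← hyb, ← map_mul, ← map_mul, hc x hx y hy]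
  · rintro _ ⟨x, hx, rfl⟩
    rw [← map_pow, hp x hx, map_one]

variable [Finite Y] {p : ℕ} [hp : Fact p.Prime]

/-- The middle subgroup, and the subgroups conjugate to `V`. -/
theorem frame (hY : IsPGroup p Y) {N V J : Subgroup Y} (hN : N.Normal) (hNi : N.index = p)
    (hNc : Nat.card N = p ^ 4) (hVN : V ≤ N) (hV : Nat.card V = p ^ 3) (hJV : J ≤ V)
    (hJ : Nat.card J = p ^ 2) (hJn : J.Normal) (hexp : ∀ n ∈ N, n ^ p = 1) {x : Y} (hx : x ∉ N)
    (hVn : ∀ g, g ∉ N → ∃ v ∈ V, g * v * g⁻¹ ∉ V) :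
    (J ⊔ ⁅N, (⊤ : Subgroup Y)⁆).Normal ∧ J ⊔ ⁅N, (⊤ : Subgroup Y)⁆ ≤ N ∧
      Nat.card (J ⊔ ⁅N, (⊤ : Subgroup Y)⁆ : Subgroup Y) = p ^ 3 ∧
      (∀ y ∈ J ⊔ ⁅N, (⊤ : Subgroup Y)⁆, y ∈ V → y ∈ J) ∧
      ∀ W : Subgroup Y, W ≤ N → J ≤ W → Nat.card W = p ^ 3 → W ≠ J ⊔ ⁅N, (⊤ : Subgroup Y)⁆ →
        ∃ k : ℕ, ∀ v ∈ V, x ^ k * v * (x ^ k)⁻¹ ∈ W := by
  classical
  haveI := hN
  haveI := hJn
  have hpp := hp.out
  obtain ⟨M, hM⟩ : ∃ M : Subgroup Y, M = J ⊔ ⁅N, (⊤ : Subgroup Y)⁆ := ⟨_, rfl⟩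
  rw [← hM]
  haveI hMn : M.Normal := by rw [hM]; infer_instance
  have hMN : M ≤ N := hM ▸ sup_le (hJV.trans hVN) (Subgroup.commutator_le_left N ⊤)
  have hJM : J ≤ M := hM ▸ le_sup_left
  have hrel : ∀ {A B : Subgroup Y} {i : ℕ}, A ≤ B → Nat.card A = p ^ i → Nat.card B = p ^ (i + 1) →
      A.relIndex B = p := by
    intro A B i hAB hA hB
    have := (A.subgroupOf B).index_mul_card
    rw [Nat.card_congr (Subgroup.subgroupOfEquivOfLe hAB).toEquiv, hA, hB, pow_succ'] at this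
    exact Nat.eq_of_mul_eq_mul_right (pow_pos hpp.pos i) this
  have gen : ∀ {H : Subgroup Y} {w : Y}, J ≤ H → Nat.card H = p ^ 3 → w ∈ H → w ∉ J →
      ∀ h ∈ H, ∃ j ∈ J, ∃ i : ℤ, h = j * w ^ i := by
    intro H w hJH hH hw hwJ h hh
    obtain ⟨e, he, z, hz, rfl⟩ := exists_decomp_of_prime hJH (hrel hJH hJ hH)
      (le_normalizer_of_conj fun n _ e he => hJn.conj_mem e he n) hw hwJ
      (W := Subgroup.zpowers w) (Subgroup.zpowers_le.2 hw) (Subgroup.mem_zpowers w) h hh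
    obtain ⟨i, rfl⟩ := Subgroup.mem_zpowers_iff.1 hz
    exact ⟨e, he, i, rfl⟩
  have hcle : ∀ {A B : Subgroup Y} {i j : ℕ}, Nat.card A = p ^ i → Nat.card B = p ^ j → A ≤ B →
      i ≤ j := fun {A B i j} hA hB hAB =>
    (Nat.pow_le_pow_iff_right hpp.one_lt).1 (hA ▸ hB ▸ Subgroup.card_le_of_le hAB)
  obtain ⟨a, haV, haJ⟩ : ∃ a ∈ V, a ∉ J := by
    by_contra h
    push Not at h
    have := hcle hV hJ fun x hx => h x hx
    omega
  have haN : a ∈ N := hVN haV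
  obtain ⟨v, hv⟩ : ∃ v, v = ⁅x, a⁆ := ⟨_, rfl⟩
  have hva : x * a * x⁻¹ = v * a := by rw [hv, commutatorElement_def, inv_mul_cancel_right]
  have hvM : v ∈ M := by
    rw [hv, ← commutatorElement_inv a x]
    exact M.inv_mem (hM ▸ Subgroup.mem_sup_right
      (Subgroup.commutator_mem_commutator haN (Subgroup.mem_top x)))
  have hvV : v ∉ V := by
    intro h
    obtain ⟨y, hy, hy'⟩ := hVn x hx
    obtain ⟨j, hj, i, rfl⟩ := gen hJV hV haV haJ y hy
    refine hy' ?_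
    rw [← conj_mul, ← conj_zpow, hva]
    exact V.mul_mem (hJV (hJn.conj_mem j hj x)) (V.zpow_mem (V.mul_mem h haV) i)
  have hMlt : M ≠ N := by
    intro e
    haveI := (hY.to_quotient J).isNilpotent
    obtain ⟨π, hπ⟩ : ∃ π : Y →* Y ⧸ J, π = QuotientGroup.mk' J := ⟨_, rfl⟩
    have hpt : π.range = ⊤ := by
      rw [hπ]; exact MonoidHom.range_eq_top.2 (QuotientGroup.mk'_surjective J)
    have hself : N.map π = ⁅N.map π, (⊤ : Subgroup (Y ⧸ J))⁆ := by
      conv_lhs => rw [← e, hM]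
      rw [Subgroup.map_sup, (Subgroup.map_eq_bot_iff (f := π) J).2
        (by rw [hπ, QuotientGroup.ker_mk']), bot_sup_eq, Subgroup.map_commutator,
        Subgroup.map_top_of_surjective π (MonoidHom.range_eq_top.1 hpt)]
    have hle : ∀ k, N.map π ≤ (⊤ : Subgroup (Y ⧸ J)).lowerCentralSeries k := by
      intro k
      induction k with
      | zero => rw [Subgroup.lowerCentralSeries_zero]; exact le_top
      | succ k ih =>
        rw [hself, Subgroup.lowerCentralSeries_succ]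
        exact Subgroup.commutator_mono ih le_top
    obtain ⟨k, hk⟩ := (Subgroup.nilpotent_iff_lowerCentralSeries (G := Y ⧸ J)).1 inferInstance
    have h1 := hle k
    rw [hk, le_bot_iff, Subgroup.map_eq_bot_iff, hπ, QuotientGroup.ker_mk'] at h1
    exact haJ (h1 haN)
  obtain ⟨m, hm⟩ := (hY.to_subgroup M).exists_card_eq
  have hm3 : m = 3 := by
    have h1 := hcle hJ hm hJM
    have h2 := hcle hm hNc hMN
    have h3 : m ≠ 2 := fun e => hvV (hJV
      ((Subgroup.eq_of_le_of_card_ge hJM (by rw [hm, e, hJ])).ge hvM))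
    have h4 : m ≠ 4 := fun e => hMlt (Subgroup.eq_of_le_of_card_ge hMN (by rw [hm, e, hNc]))
    omega
  rw [hm3] at hm
  refine ⟨inferInstance, hMN, hm, fun y hy hyV => ?_, fun W hWN hJW hW hWM => ?_⟩
  · by_contra hyJ
    obtain ⟨j, hj, i, he⟩ := gen hJM hm hy hyJ v hvM
    exact hvV (he ▸ V.mul_mem (hJV hj) (V.zpow_mem hyV i))
  have haM : a ∉ M := by
    intro h
    obtain ⟨j, hj, i, he⟩ := gen hJM hm h haJ v hvM
    exact hvV (he ▸ V.mul_mem (hJV hj) (V.zpow_mem haV i))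
  obtain ⟨w0, hw0, hw0M⟩ : ∃ w ∈ W, w ∉ M := by
    by_contra h
    push Not at h
    exact hWM (Subgroup.eq_of_le_of_card_ge h (by rw [hm, hW]))
  obtain ⟨m0, hm0, z, hz, he⟩ := exists_decomp_of_prime hMN (hrel hMN hm hNc)
    (le_normalizer_of_conj fun n _ e he => hMn.conj_mem e he n) haN haM
    (W := Subgroup.zpowers a) (Subgroup.zpowers_le.2 haN) (Subgroup.mem_zpowers a) w0 (hWN hw0)
  obtain ⟨i, rfl⟩ := Subgroup.mem_zpowers_iff.1 hz
  have hi : ((i : ℤ) : ZMod p) ≠ 0 := by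
    intro h
    obtain ⟨d, rfl⟩ := (ZMod.intCast_zmod_eq_zero_iff_dvd i p).1 h
    rw [zpow_mul, zpow_natCast, hexp a haN, one_zpow, mul_one] at he
    exact hw0M (he ▸ hm0)
  obtain ⟨i', hi'⟩ := ZMod.intCast_surjective ((i : ZMod p)⁻¹)
  obtain ⟨d, hd⟩ : (p : ℤ) ∣ i * i' - 1 := by
    rw [← ZMod.intCast_zmod_eq_zero_iff_dvd]
    push_cast
    rw [hi', mul_inv_cancel₀ hi, sub_self]
  have hw1 : w0 ^ i' * a⁻¹ ∈ M := by
    rw [← QuotientGroup.eq_one_iff (N := M), ← QuotientGroup.mk'_apply, map_mul, map_zpow, he,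
      map_mul, show QuotientGroup.mk' M m0 = 1 from (QuotientGroup.eq_one_iff m0).2 hm0, one_mul,
      map_zpow, ← zpow_mul, show i * i' = 1 + (p : ℤ) * d by omega, zpow_add, zpow_mul,
      zpow_natCast, ← map_pow, hexp a haN, map_one, one_zpow, mul_one, zpow_one, map_inv,
      mul_inv_cancel]
  obtain ⟨j, hj, k0, hk0⟩ := gen hJM hm hvM (fun h => hvV (hJV h)) _ hw1
  obtain ⟨k, hk⟩ : ∃ k : ℕ, v ^ k0 = v ^ k := by
    have hp0 : (p : ℤ) ≠ 0 := by exact_mod_cast hpp.ne_zero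
    refine ⟨(k0 % p).toNat, ?_⟩
    rw [← zpow_natCast, Int.toNat_of_nonneg (Int.emod_nonneg _ hp0)]
    conv_lhs => rw [← Int.emod_add_mul_ediv k0 p, zpow_add, zpow_mul, zpow_natCast,
      hexp v (hMN hvM), one_zpow, mul_one]
  have hvk : v ^ k * a ∈ W := by
    rw [← hk, show v ^ k0 * a = j⁻¹ * (w0 ^ i' * a⁻¹) * a by rw [hk0]; group,
      mul_assoc, inv_mul_cancel_right]
    exact W.mul_mem (W.inv_mem (hJW hj)) (W.zpow_mem hw0 _)
  refine ⟨k, ?_⟩
  obtain ⟨ψ, hψ⟩ : ∃ ψ : Y →* Y ⧸ J, ψ = QuotientGroup.mk' J := ⟨_, rfl⟩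
  have hxv : Commute (ψ v) (ψ x) := by
    rw [← commutatorElement_eq_one_iff_commute, ← map_commutatorElement, hψ,
      QuotientGroup.mk'_apply, QuotientGroup.eq_one_iff]
    exact comm_mem_of_step hY hJM (hrel hJM hJ hm) v hvM x
  have hind : ∀ k : ℕ, ψ (x ^ k * a * (x ^ k)⁻¹) = ψ (v ^ k * a) := by
    intro k
    induction k with
    | zero => simp
    | succ k ih =>
      rw [show x ^ (k + 1) * a * (x ^ (k + 1))⁻¹ = x * (x ^ k * a * (x ^ k)⁻¹) * x⁻¹ by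
        rw [pow_succ']; group, map_mul, map_mul, ih, map_mul ψ (v ^ k) a, map_pow, map_inv,
        ← mul_assoc, ← (hxv.pow_left k).eq,
        show ψ v ^ k * ψ x * ψ a * (ψ x)⁻¹ = ψ v ^ k * ψ (x * a * x⁻¹) by
          rw [map_mul, map_mul, map_inv]; group,
        hva, map_mul ψ v a, ← mul_assoc, ← pow_succ, map_mul, map_pow]
  have hconj : x ^ k * a * (x ^ k)⁻¹ ∈ W := by
    have h1 : x ^ k * a * (x ^ k)⁻¹ * (v ^ k * a)⁻¹ ∈ J := by
      rw [← QuotientGroup.eq_one_iff (N := J), ← QuotientGroup.mk'_apply, ← hψ, map_mul, map_inv,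
        hind, mul_inv_cancel]
    have := W.mul_mem (hJW h1) hvk
    rwa [inv_mul_cancel_right] at this
  intro y hy
  obtain ⟨j', hj', i2, rfl⟩ := gen hJV hV haV haJ y hy
  rw [← conj_mul, ← conj_zpow]
  exact W.mul_mem (hJW (hJn.conj_mem j' hj' _)) (W.zpow_mem hconj i2)

end CfsgLib.RankThree
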