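import Cfsg.Agent.Lib.Fusion.RankThree.Ess
import Cfsg.Agent.Lib.Fusion.RankThree.Frame
import Cfsg.Agent.Lib.Fusion.Ext

/-!
The amalgam step: the element inducing the outer automorphisms on an essential subgroup is a
transvection with a torus.
-/

set_option autoImplicit false
set_option linter.style.haveILetI false
set_option linter.unusedSectionVars false

namespace CfsgLib.RankThree

open Cfsg Cfsg.FusionSystem CfsgLib.Fusion CfsgLib.Fusion.Transvections

universe u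

section Quot

variable {Ω : Type u} [Group Ω] {X K : Subgroup Ω}

theorem normal_subgroupOf {H : Subgroup Ω} (h : ∀ g ∈ X, ∀ z ∈ H, g * z * g⁻¹ ∈ H) :
    (H.subgroupOf X).Normal :=
  ⟨fun z hz g => h g g.2 z hz⟩

theorem mem_map_iff [(K.subgroupOf X).Normal] {R : Subgroup Ω} (hKR : K ≤ R) (g : X) :
    QuotientGroup.mk' (K.subgroupOf X) g ∈
      (R.subgroupOf X).map (QuotientGroup.mk' (K.subgroupOf X)) ↔ (g : Ω) ∈ R := by
  refine ⟨fun ⟨r, hr, he⟩ => ?_, fun h => ⟨g, h, rfl⟩⟩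
  rw [QuotientGroup.mk'_apply, QuotientGroup.mk'_apply, QuotientGroup.eq] at he
  have h1 : ((r⁻¹ * g : X) : Ω) ∈ R := hKR he
  have h2 : (r : Ω) * ((r⁻¹ * g : X) : Ω) ∈ R := R.mul_mem hr h1
  rwa [Subgroup.coe_mul, Subgroup.coe_inv, mul_inv_cancel_left] at h2

theorem index_of_generated {p : ℕ} [Fact p.Prime] {N : Subgroup Ω} {x : Ω}
    (hx : x ∈ Subgroup.normalizer (N : Set Ω)) (hxN : x ∉ N) (hxp : x ^ p ∈ N) :
    (N.subgroupOf (N ⊔ Subgroup.zpowers x)).Normal ∧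
      (N.subgroupOf (N ⊔ Subgroup.zpowers x)).index = p := by
  have hle : N ⊔ Subgroup.zpowers x ≤ Subgroup.normalizer (N : Set Ω) :=
    sup_le Subgroup.le_normalizer (Subgroup.zpowers_le.2 hx)
  haveI hn : (N.subgroupOf (N ⊔ Subgroup.zpowers x)).Normal :=
    normal_subgroupOf fun g hg z hz => (Subgroup.mem_normalizer_iff.1 (hle hg) z).1 hz
  refine ⟨hn, ?_⟩
  obtain ⟨π, hπ⟩ : ∃ π : ↥(N ⊔ Subgroup.zpowers x) →* _,
      π = QuotientGroup.mk' (N.subgroupOf (N ⊔ Subgroup.zpowers x)) := ⟨_, rfl⟩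
  obtain ⟨x', hx'⟩ : ∃ x' : ↥(N ⊔ Subgroup.zpowers x), (x' : Ω) = x :=
    ⟨⟨x, Subgroup.mem_sup_right (Subgroup.mem_zpowers x)⟩, rfl⟩
  have htop : Subgroup.zpowers (π x') = ⊤ := by
    have h1 := Subgroup.subgroupOf_sup (A := N) (A' := Subgroup.zpowers x)
      (B := N ⊔ Subgroup.zpowers x) le_sup_left le_sup_right
    rw [Subgroup.subgroupOf_self] at h1
    have h2 := congrArg (Subgroup.map π) h1
    rw [Subgroup.map_top_of_surjective π (hπ ▸ QuotientGroup.mk'_surjective _),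
      Subgroup.map_sup, (Subgroup.map_eq_bot_iff (f := π) _).2
        (by rw [hπ, QuotientGroup.ker_mk']), bot_sup_eq] at h2
    refine eq_top_iff.2 (h2.le.trans ?_)
    rintro _ ⟨z, hz, rfl⟩
    obtain ⟨i, hi⟩ := Subgroup.mem_zpowers_iff.1 hz
    refine ⟨i, ?_⟩
    show π x' ^ i = π z
    rw [← map_zpow]
    congr 1
    exact Subtype.ext (by rw [SubgroupClass.coe_zpow, hx']; exact hi)
  have h1 : π x' ≠ 1 := by
    rw [hπ, QuotientGroup.mk'_apply, Ne, QuotientGroup.eq_one_iff, Subgroup.mem_subgroupOf, hx']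
    exact hxN
  have h2 : π x' ^ p = 1 := by
    rw [← map_pow, hπ, QuotientGroup.mk'_apply, QuotientGroup.eq_one_iff, Subgroup.mem_subgroupOf,
      SubgroupClass.coe_pow, hx']
    exact hxp
  rw [Subgroup.index_eq_card, ← Subgroup.card_top, ← htop, Nat.card_zpowers,
    orderOf_eq_prime h2 h1]

end Quot

variable {Ω : Type u} [Group Ω] {S : Subgroup Ω} [Finite S] {F : FusionSystem S} {p : ℕ}
  [hp : Fact p.Prime] {E : Subgroup Ω} {V : Type u} [CommGroup V] [Finite V]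
  {q : E →* V} {ρ : MulAut E →* MulAut V}

/-- The outcome of the amalgam step. -/
structure Amalgam (F : FusionSystem S) (p : ℕ) (E : Subgroup Ω) (q : E →* V)
    (ρ : MulAut E →* MulAut V) (x u : Ω) (K : Subgroup Ω) (L P c : Subgroup V) (t : MulAut V) :
    Prop where
  hu : u ∈ normalizerIn S E
  huE : u ∉ E
  hup : u ^ p ∈ K
  Kle : K ≤ E
  Kn : ∀ g ∈ normalizerIn S E ⊔ Subgroup.zpowers x, ∀ z ∈ K, g * z * g⁻¹ ∈ K
  Kker : ∀ e : E, q e = 1 → (e : Ω) ∈ K
  KL : ∀ e : E, (e : Ω) ∈ K → q e ∈ L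
  LP : L ≤ P
  Lcard : Nat.card L = p
  teq : ρ (conjAut E hu.2) = t
  tr : TransvectionCube.Tr p t c P
  cL : c ⊓ L = ⊥
  torus : ∀ r s : ℤ, ((r * s : ℤ) : ZMod p) = 1 → ∃ h ∈ (F.autGroup E).map ρ,
    h * t * h⁻¹ ∈ Subgroup.zpowers t ∧ (∀ l ∈ L, h l = l) ∧ (∀ y ∈ c, h y = y ^ s) ∧
      ∀ y, (y ^ r)⁻¹ * h y ∈ P

/-- The configuration handed to the linear algebra. -/
theorem Ess.torus_data (h : Ess F p E q ρ) (hp2 : p ≠ 2) {P Kb : Subgroup V}
    (hPi : P.index = p) (hKP : Kb ≤ P) (hKc : Nat.card Kb ≤ p)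
    (hKinv : ∀ g ∈ (F.autGroup E).map ρ, ∀ y ∈ Kb, g y ∈ Kb) {t : MulAut V}
    (hT : (autInducedBy S E).map ρ = Subgroup.zpowers t)
    (hd : ∀ y ∈ P, y⁻¹ * t y ∈ Kb) :
    ∃ L c : Subgroup V, Kb ≤ L ∧ L ≤ P ∧ Nat.card L = p ∧ TransvectionCube.Tr p t c P ∧ c ⊓ L = ⊥ ∧
      ∀ r s : ℤ, ((r * s : ℤ) : ZMod p) = 1 → ∃ k ∈ (F.autGroup E).map ρ,
        k * t * k⁻¹ ∈ Subgroup.zpowers t ∧ (∀ l ∈ L, k l = l) ∧ (∀ y ∈ c, k y = y ^ s) ∧
          ∀ y, (y ^ r)⁻¹ * k y ∈ P := by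
  classical
  haveI := TransvectionCube.finite_aut (V := V)
  have hpp := hp.out
  have htT : t ∈ (autInducedBy S E).map ρ := hT.ge (Subgroup.mem_zpowers t)
  have htG := h.T_le htT
  have hVcard : Nat.card V ≤ p * Nat.card P := by
    have := P.index_mul_card
    rw [hPi] at this
    exact this.ge
  have hPt : ∀ y ∈ P, t y ∈ P := fun y hy => by
    have := P.mul_mem hy (hKP (hd y hy))
    rwa [mul_inv_cancel_left] at this
  have hVP : ∀ y : V, y⁻¹ * t y ∈ P := fun y =>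
    h.step le_top (C := ⊤) (by rwa [Subgroup.card_top]) htT hPt
      (fun y _ => Subgroup.mem_top _) y (Subgroup.mem_top y)
  have hKfix : ∀ y ∈ Kb, t y = y := h.fix_small hKinv hKc htT
  have hUp : ∀ {D : Subgroup V} (hD : D ≤ P), IsPGroup p
      ((F.autGroup E).map ρ ⊓ seriesStab D P hD : Subgroup (MulAut V)) := fun hD =>
    (isPGroup_seriesStab h.pV _ _ hD).to_le inf_le_right
  have hTU : ∀ {D : Subgroup V} (hD : D ≤ P), t ∈ seriesStab D P hD →
      (autInducedBy S E).map ρ ≤ (F.autGroup E).map ρ ⊓ seriesStab D P hD := fun hD ht => by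
    rw [hT, Subgroup.zpowers_le]
    exact ⟨htG, ht⟩
  rcases eq_or_ne Kb ⊥ with hK0 | hK0
  · -- transvection
    subst hK0
    have hfix : ∀ y ∈ P, t y = y := fun y hy =>
      (inv_mul_eq_one.1 (Subgroup.mem_bot.1 (hd y hy))).symm
    have hts : t ∈ seriesStab ⊥ P bot_le := mem_seriesStab.2 ⟨hKfix, hd, hVP⟩
    obtain ⟨g, hg, u', hu', hgu⟩ := h.exists_conj_notMem inf_le_left (hUp bot_le) (hTU bot_le hts)
    have ht1 : t ≠ 1 := fun e => by
      rw [hT, e, Subgroup.zpowers_one_eq_bot] at hu'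
      rw [Subgroup.mem_bot.1 hu', mul_one, mul_inv_cancel] at hgu
      exact hgu (Subgroup.one_mem _)
    obtain ⟨v, hv⟩ : ∃ v, v ∉ P := by
      by_contra hc
      push Not at hc
      exact ht1 (MulEquiv.ext fun y => hfix y (hc y))
    have hv1 : v⁻¹ * t v ≠ 1 := fun e => ht1 (MulEquiv.ext fun y => by
      obtain ⟨i, a, ha, rfl⟩ := TransvectionCube.exists_decomp hPi hv y
      rw [map_mul, map_zpow, hfix a ha, (inv_mul_eq_one.1 e).symm, MulAut.one_apply])
    obtain ⟨c, hc⟩ : ∃ c, c = Subgroup.zpowers (v⁻¹ * t v) := ⟨_, rfl⟩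
    have htr : TransvectionCube.Tr p t c P := by
      refine ⟨hc ▸ Subgroup.zpowers_le.2 (hVP v),
        by rw [hc, Nat.card_zpowers, orderOf_eq_prime (h.exp _) hv1], hPi,
        fun y => ⟨fun hy => ?_, hfix y⟩,
        TransvectionCube.diff_mem hPi hv hfix (hc ▸ Subgroup.mem_zpowers _)⟩
      by_contra hyP
      refine ht1 (MulEquiv.ext fun z => ?_)
      obtain ⟨i, a, ha, rfl⟩ := TransvectionCube.exists_decomp hPi hyP z
      rw [map_mul, map_zpow, hfix a ha, hy, MulAut.one_apply]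
    have hgt : g * t * g⁻¹ ∉ (F.autGroup E).map ρ ⊓ seriesStab ⊥ P bot_le := fun hm => by
      rw [hT] at hu'
      obtain ⟨i, rfl⟩ := Subgroup.mem_zpowers_iff.1 hu'
      exact hgu (by rw [← conj_zpow]; exact Subgroup.zpow_mem _ hm i)
    have hgG : g * t * g⁻¹ ∈ (F.autGroup E).map ρ :=
      Subgroup.mul_mem _ (Subgroup.mul_mem _ hg htG) (Subgroup.inv_mem _ hg)
    have hQ : ∀ Q : Subgroup (MulAut V), Q ≤ (F.autGroup E).map ρ → IsPGroup p Q → t ∈ Q →
        g * t * g⁻¹ ∈ Q → False := fun Q hQ hQp htQ htQ' => by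
      have := h.eq_T hQ hQp (by rw [hT, Subgroup.zpowers_le]; exact htQ)
      exact hgt (hTU bot_le hts (this.le htQ'))
    obtain ⟨P', hP'⟩ : ∃ P', P' = P.map g.toMonoidHom := ⟨_, rfl⟩
    obtain ⟨d, hd'⟩ : ∃ d, d = c.map g.toMonoidHom := ⟨_, rfl⟩
    have htr' : TransvectionCube.Tr p (g * t * g⁻¹) d P' := hd' ▸ hP' ▸ htr.map g
    have hdP : ¬ d ≤ P := fun hle => by
      obtain ⟨Q, hQ1, hQ2, hQ3, hQ4⟩ := TransvectionCube.pair_pgroup h.pV htr htr' htG hgG hle
      exact hQ Q hQ1 hQ2 hQ3 hQ4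
    have hcP : ¬ c ≤ P' := fun hle => by
      obtain ⟨Q, hQ1, hQ2, hQ3, hQ4⟩ := TransvectionCube.pair_pgroup h.pV htr' htr hgG htG hle
      exact hQ Q hQ1 hQ2 hQ4 hQ3
    have hne : P ≠ P' := fun e => hdP (htr'.le.trans e.ge)
    have hPc : ∀ {Q : Subgroup V}, Q.index = p → Nat.card Q = p ^ 2 := by
      intro Q hQ
      have h1 := Q.index_mul_card
      rw [hQ, h.card, pow_succ'] at h1
      exact Nat.eq_of_mul_eq_mul_left hpp.pos h1
    have hL : Nat.card (P ⊓ P' : Subgroup V) = p := by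
      have h1 : (P ⊓ P').index ≤ p * p := by
        refine Subgroup.index_inf_le.trans (le_of_eq ?_)
        rw [hPi, htr'.index]
      have h2 := (P ⊓ P').index_mul_card
      obtain ⟨j, hj⟩ := (h.pV.to_subgroup (P ⊓ P')).exists_card_eq
      have h3 : p ^ 3 ≤ p * p * p ^ j := by
        rw [← h.card, ← h2, hj]
        exact Nat.mul_le_mul_right _ h1
      rw [← pow_two, ← pow_add] at h3
      have h4 : 1 ≤ j := by
        have := (Nat.pow_le_pow_iff_right hpp.one_lt).1 h3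
        omega
      have h5 : j < 2 := by
        by_contra h5
        have hle : ∀ {Q : Subgroup V}, Q.index = p → P ⊓ P' ≤ Q → P ⊓ P' = Q := fun {Q} hQ hle =>
          Subgroup.eq_of_le_of_card_ge hle (by
            rw [hj, hPc hQ]; exact Nat.pow_le_pow_right hpp.pos (by omega))
        exact hne ((hle hPi inf_le_left).symm.trans (hle htr'.index inf_le_right))
      rw [hj, show j = 1 by omega, pow_one]
    obtain ⟨c', htr2, hcL, htor⟩ := torus h.pV h.card h.exp hp2 _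
      (fun U hU hUp => h.sylow hU hUp) hL inf_le_left inf_le_right hPi htr'.index hne
      htG hgG
      (mem_seriesStab.2 ⟨fun y hy => hfix y hy.1, fun y hy => by
        rw [hfix y hy, inv_mul_cancel]; exact Subgroup.one_mem _, hVP⟩)
      (mem_seriesStab.2 ⟨fun y hy => (htr'.fix y).2 hy.2, fun y hy => by
        rw [(htr'.fix y).2 hy, inv_mul_cancel]; exact Subgroup.one_mem _,
        fun y => htr'.le (htr'.diff y)⟩)
      (fun hall => hcP (by
        rw [hc, Subgroup.zpowers_le]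
        exact (hall v).2))
      (fun hall => by
        obtain ⟨w, hw⟩ : ∃ w, w ∉ P' := by
          by_contra hc'
          push Not at hc'
          exact htr'.ne_top (eq_top_iff.2 fun y _ => hc' y)
        have hgen := TransvectionCube.zpowers_eq htr'.cardc (htr'.diff w) (htr'.diff_ne hw)
        refine hdP ?_
        rw [← hgen, Subgroup.zpowers_le]
        exact (hall w).1)
    exact ⟨P ⊓ P', c', bot_le, inf_le_left, hL, htr2, hcL, htor⟩
  · -- a fixed line
    have hKp : Nat.card Kb = p := by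
      obtain ⟨j, hj⟩ := (h.pV.to_subgroup Kb).exists_card_eq
      rcases Nat.eq_zero_or_pos j with rfl | hj0
      · exact absurd (Subgroup.card_eq_one.1 hj) hK0
      · exact le_antisymm hKc (hj ▸ Nat.le_self_pow hj0.ne' p)
    have hts : t ∈ seriesStab Kb P hKP := mem_seriesStab.2 ⟨hKfix, hd, hVP⟩
    have htn : ¬ ∀ y, y⁻¹ * t y ∈ Kb := fun hall => h.flag le_rfl hKinv hKinv (by
      intro u' hu'
      rw [hT] at hu'
      exact Subgroup.zpowers_le.2 (mem_seriesStab.2 ⟨hKfix, fun y hy => by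
        rw [hKfix y hy, inv_mul_cancel]; exact Subgroup.one_mem _, hall⟩) hu')
    obtain ⟨g, hg, u', hu', hgu⟩ := h.exists_conj_notMem inf_le_left (hUp hKP) (hTU hKP hts)
    have hgG : g * t * g⁻¹ ∈ (F.autGroup E).map ρ :=
      Subgroup.mul_mem _ (Subgroup.mul_mem _ hg htG) (Subgroup.inv_mem _ hg)
    have hgi : ∀ y ∈ Kb, g⁻¹ y ∈ Kb := hKinv _ (Subgroup.inv_mem _ hg)
    have hdiff : ∀ y, y⁻¹ * (g * t * g⁻¹) y = g ((g⁻¹ y)⁻¹ * t (g⁻¹ y)) := fun y => by
      rw [MulAut.mul_apply, MulAut.mul_apply, map_mul g, map_inv g, MulAut.apply_inv_self]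
    obtain ⟨P', hP'⟩ : ∃ P', P' = P.map g.toMonoidHom := ⟨_, rfl⟩
    have hmemP' : ∀ y, y ∈ P' ↔ g⁻¹ y ∈ P := fun y => by
      rw [hP']
      refine ⟨?_, fun hy => ⟨g⁻¹ y, hy, MulAut.apply_inv_self _ g y⟩⟩
      rintro ⟨z, hz, rfl⟩
      show g⁻¹ (g z) ∈ P
      rwa [MulAut.inv_apply_self]
    have hKP' : Kb ≤ P' := fun y hy => (hmemP' y).2 (hKP (hgi y hy))
    have hts' : g * t * g⁻¹ ∈ seriesStab Kb P' hKP' := mem_seriesStab.2
      ⟨fun y hy => by
        show g (t (g⁻¹ y)) = y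
        rw [hKfix _ (hgi y hy), MulAut.apply_inv_self],
      fun y hy => by
        rw [hdiff]
        exact hKinv g hg _ (hd _ ((hmemP' y).1 hy)),
      fun y => by
        rw [hdiff, hP']
        exact ⟨_, hVP _, rfl⟩⟩
    have hne : P ≠ P' := fun e => by
      subst e
      rw [hT] at hu'
      obtain ⟨i, rfl⟩ := Subgroup.mem_zpowers_iff.1 hu'
      exact hgu (by rw [← conj_zpow]; exact Subgroup.zpow_mem _ (Subgroup.mem_inf.2 ⟨hgG, hts'⟩) i)
    have hP'i : P'.index = p := by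
      rw [hP']; exact (Subgroup.index_map_equiv (H := P) g).trans hPi
    obtain ⟨c', htr2, hcL, htor⟩ := torus h.pV h.card h.exp hp2 _
      (fun U hU hUp => h.sylow hU hUp) hKp hKP hKP' hPi hP'i hne
      htG hgG hts hts' htn
      (fun hall => htn fun y => by
        have := hgi _ (hall (g y))
        rwa [hdiff, MulAut.inv_apply_self, MulAut.inv_apply_self] at this)
    exact ⟨Kb, c', le_rfl, hKP, hKp, htr2, hcL, htor⟩

theorem Ess.amalgam (h : Ess F p E q ρ) (hp2 : p ≠ 2) (hsr : Cfsg.SectionalPRankLE p 3 S) {x : Ω}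
    (hx : x ∈ normalizerIn S (normalizerIn S E)) (hxN : x ∉ normalizerIn S E)
    (hxp : x ^ p ∈ normalizerIn S E) :
    ∃ u K L P c t, Amalgam F p E q ρ x u K L P c t := by
  classical
  haveI := TransvectionCube.finite_aut (V := V)
  haveI := finite_of_le h.le
  haveI := finite_mulAut E
  have hpp := hp.out
  obtain ⟨N, hN⟩ : ∃ N, N = normalizerIn S E := ⟨_, rfl⟩
  rw [← hN] at hx hxN hxp
  obtain ⟨X, hX⟩ : ∃ X, X = N ⊔ Subgroup.zpowers x := ⟨_, rfl⟩
  have hEN : E ≤ N := hN ▸ le_normalizerIn h.le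
  have hNX : N ≤ X := hX ▸ le_sup_left
  have hEX : E ≤ X := hEN.trans hNX
  have hNS : N ≤ S := hN ▸ inf_le_left
  have hXS : X ≤ S := hX ▸ sup_le hNS (Subgroup.zpowers_le.2 hx.1)
  haveI : Finite X := finite_of_le hXS
  have hNid := index_of_generated hx.2 hxN hxp
  rw [← hX] at hNid
  haveI hNn := hNid.1
  have hNi := hNid.2
  -- images in `V`
  obtain ⟨im, him⟩ : ∃ im : Subgroup Ω → Subgroup V, ∀ R, im R = (R.subgroupOf E).map q :=
    ⟨_, fun _ => rfl⟩
  have hmem : ∀ {R : Subgroup Ω} {e : E}, (e : Ω) ∈ R → q e ∈ im R := fun {R e} he => by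
    rw [him]; exact ⟨e, he, rfl⟩
  let Inv : Subgroup Ω → Prop := fun R =>
    ∀ α ∈ F.autGroup E, ∀ e : E, (e : Ω) ∈ R → ((α e : E) : Ω) ∈ R
  have himG : ∀ {R : Subgroup Ω}, Inv R →
      ∀ g ∈ (F.autGroup E).map ρ, ∀ y ∈ im R, g y ∈ im R := by
    intro R hR g hg y hy
    obtain ⟨α, hα, rfl⟩ := hg
    rw [him] at hy
    obtain ⟨e, he, rfl⟩ := hy
    rw [h.nat]
    exact hmem (hR α hα e he)
  let Fam : Subgroup Ω → Prop := fun R =>
    R ≤ E ∧ (∀ g ∈ X, ∀ z ∈ R, g * z * g⁻¹ ∈ R) ∧ Inv R ∧ Nat.card (im R) ≤ p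
  have hconj : ∀ {n : Ω} (hn : n ∈ N) (e : E),
      ρ (conjAut E (hN ▸ hn : n ∈ normalizerIn S E).2) (q e) =
        q (conjAut E (hN ▸ hn : n ∈ normalizerIn S E).2 e) := fun hn e => h.nat _ e
  have hbig : ∀ {C : Subgroup V}, ¬ Nat.card C ≤ p → Nat.card V ≤ p * Nat.card C := by
    intro C hC
    obtain ⟨j, hj⟩ := (h.pV.to_subgroup C).exists_card_eq
    rw [hj] at hC ⊢
    rw [h.card, ← pow_succ']
    refine Nat.pow_le_pow_right hpp.pos ?_
    by_contra hj2
    exact hC ((Nat.pow_le_pow_right hpp.pos (show j ≤ 1 by omega)).trans (pow_one p).le)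
  have hstepTop : ∀ {C : Subgroup V}, ¬ Nat.card C ≤ p →
      (∀ g ∈ (F.autGroup E).map ρ, ∀ y ∈ C, g y ∈ C) →
      ∀ u ∈ (autInducedBy S E).map ρ, ∀ y, y⁻¹ * u y ∈ C := fun hC hCi u hu y =>
    h.step le_top (C := ⊤) (by rw [Subgroup.card_top]; exact hbig hC) hu
      (h.inv_T hCi hu) (fun y _ => Subgroup.mem_top _) y (Subgroup.mem_top y)
  have hsup : ∀ R R', Fam R → Fam R' → Fam (R ⊔ R') := by
    rintro R R' ⟨hR1, hR2, hR3, hR4⟩ ⟨hR'1, hR'2, hR'3, hR'4⟩
    have hsub : (R ⊔ R').subgroupOf E = R.subgroupOf E ⊔ R'.subgroupOf E :=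
      Subgroup.subgroupOf_sup hR1 hR'1
    have hi : Inv (R ⊔ R') := by
      intro α hα e he
      have h1 : e ∈ R.subgroupOf E ⊔ R'.subgroupOf E := by
        rw [← hsub]; exact he
      have h2 : (R.subgroupOf E ⊔ R'.subgroupOf E).map α.toMonoidHom ≤
          R.subgroupOf E ⊔ R'.subgroupOf E := by
        rw [Subgroup.map_sup]
        refine sup_le_sup ?_ ?_
        · rintro _ ⟨z, hz, rfl⟩; exact hR3 α hα z hz
        · rintro _ ⟨z, hz, rfl⟩; exact hR'3 α hα z hz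
      have h3 := h2 ⟨e, h1, rfl⟩
      rw [← hsub] at h3
      exact h3
    refine ⟨sup_le hR1 hR'1, fun g hg z hz => ?_, hi, ?_⟩
    · have h2 : (R ⊔ R').map (MulAut.conj g).toMonoidHom ≤ R ⊔ R' := by
        rw [Subgroup.map_sup]
        refine sup_le_sup ?_ ?_
        · rintro _ ⟨z, hz, rfl⟩; exact hR2 g hg z hz
        · rintro _ ⟨z, hz, rfl⟩; exact hR'2 g hg z hz
      exact h2 ⟨z, hz, rfl⟩
    · by_contra hbigc
      have hsupim : im (R ⊔ R') = im R ⊔ im R' := by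
        rw [him, him, him, hsub, Subgroup.map_sup]
      have hle : im R ≤ im (R ⊔ R') := hsupim ▸ le_sup_left
      refine h.flag hle (himG hR3) (himG hi) fun u hu => mem_seriesStab.2
        ⟨h.fix_small (himG hR3) hR4 hu, fun y hy => ?_, hstepTop hbigc (himG hi) u hu⟩
      have hfix : im (R ⊔ R') ≤ u.toMonoidHom.eqLocus (MonoidHom.id V) := by
        rw [hsupim]
        exact sup_le (h.fix_small (himG hR3) hR4 hu) (h.fix_small (himG hR'3) hR'4 hu)
      rw [show u y = y from hfix hy, inv_mul_cancel]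
      exact Subgroup.one_mem _
  have hbot : Fam ⊥ := by
    refine ⟨bot_le, fun g _ z hz => ?_, fun α _ e he => ?_, ?_⟩
    · rw [Subgroup.mem_bot.1 hz, mul_one, mul_inv_cancel]
      exact Subgroup.one_mem _
    · rw [Subgroup.mem_bot] at he ⊢
      rw [show e = 1 from Subtype.ext he, map_one]
      rfl
    · rw [him, Subgroup.bot_subgroupOf, Subgroup.map_bot, Subgroup.card_bot]
      exact hpp.one_lt.le
  obtain ⟨K, hKF, hKmax⟩ := Set.exists_max_image {R | Fam R} (fun R => Nat.card R)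
    (finite_subgroups_le _ fun R hR => hR.1.trans h.le) ⟨⊥, hbot⟩
  have hKmax' : ∀ R, Fam R → R ≤ K := fun R hR => by
    have h1 := hsup K R hKF hR
    haveI : Finite ↥(K ⊔ R : Subgroup Ω) := finite_of_le (h1.1.trans h.le)
    exact le_sup_right.trans (Subgroup.eq_of_le_of_card_ge le_sup_left (hKmax _ h1)).ge
  obtain ⟨hKE, hKn, hKinv, hKc⟩ := hKF
  haveI hKXn : (K.subgroupOf X).Normal := normal_subgroupOf hKn
  obtain ⟨π, hπ⟩ : ∃ π : X →* X ⧸ K.subgroupOf X, π = QuotientGroup.mk' (K.subgroupOf X) :=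
    ⟨_, rfl⟩
  have hπs : Function.Surjective π := hπ ▸ QuotientGroup.mk'_surjective _
  have hπ1 : ∀ g : X, π g = 1 ↔ (g : Ω) ∈ K := fun g => hπ ▸ QuotientGroup.eq_one_iff g
  have hπeq : ∀ {a b : X}, π a = π b ↔ ((a : Ω)⁻¹ * b) ∈ K := fun {a b} => by
    rw [hπ]; exact QuotientGroup.eq
  obtain ⟨Eb, hEb⟩ : ∃ Eb, Eb = (E.subgroupOf X).map π := ⟨_, rfl⟩
  obtain ⟨Nb, hNb⟩ : ∃ Nb, Nb = (N.subgroupOf X).map π := ⟨_, rfl⟩
  have hmE : ∀ g : X, π g ∈ Eb ↔ (g : Ω) ∈ E := fun g => by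
    rw [hEb, hπ]; exact mem_map_iff hKE g
  have hmN : ∀ g : X, π g ∈ Nb ↔ (g : Ω) ∈ N := fun g => by
    rw [hNb, hπ]; exact mem_map_iff (hKE.trans hEN) g
  obtain ⟨φ, hφ⟩ : ∃ φ : E →* Eb, ∀ e : E, ((φ e : Eb) : X ⧸ K.subgroupOf X) = π ⟨e, hEX e.2⟩ :=
    ⟨(π.comp (Subgroup.inclusion hEX)).codRestrict Eb fun e => (hmE _).2 e.2, fun _ => rfl⟩
  have hφs : Function.Surjective φ := by
    rintro ⟨z, hz⟩
    obtain ⟨g, rfl⟩ := hπs z
    exact ⟨⟨g, (hmE g).1 hz⟩, Subtype.ext (hφ _)⟩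
  have hφ1 : ∀ e : E, φ e = 1 ↔ (e : Ω) ∈ K := fun e => by
    rw [Subtype.ext_iff, hφ, Subgroup.coe_one, hπ1]
  obtain ⟨𝒜, h𝒜⟩ : ∃ 𝒜 : Subgroup (MulAut Eb),
      ∀ b, b ∈ 𝒜 ↔ ∃ α ∈ F.autGroup E, ∀ e, b (φ e) = φ (α e) :=
    ⟨{ carrier := {b | ∃ α ∈ F.autGroup E, ∀ e, b (φ e) = φ (α e)}
       one_mem' := ⟨1, Subgroup.one_mem _, fun e => rfl⟩
       mul_mem' := fun {a b} ⟨α, hα, ha⟩ ⟨β, hβ, hb⟩ => ⟨α * β, Subgroup.mul_mem _ hα hβ,
         fun e => by rw [MulAut.mul_apply, hb, ha, MulAut.mul_apply]⟩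
       inv_mem' := fun {a} ⟨α, hα, ha⟩ => ⟨α⁻¹, Subgroup.inv_mem _ hα, fun e => by
         conv_lhs => rw [← MulAut.apply_inv_self _ α e, ← ha, MulAut.inv_apply_self]⟩ },
      fun b => Iff.rfl⟩
  have hdesc : ∀ α ∈ F.autGroup E, ∃ b ∈ 𝒜, ∀ e, b (φ e) = φ (α e) := fun α hα => by
    obtain ⟨b, hb⟩ := exists_desc hφs (α := α) fun e he => by
      rw [hφ1] at he ⊢
      exact hKinv α hα e he
    exact ⟨b, (h𝒜 b).2 ⟨α, hα, hb⟩, hb⟩
  have hflagK : ∀ {n : Ω} (hn : n ∈ normalizerIn S E), n ∉ E →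
      ¬ ∀ y : V, y⁻¹ * ρ (conjAut E hn.2) y ∈ im K := by
    intro n hn hnE hall
    refine h.flag le_rfl (himG hKinv) (himG hKinv) fun u hu => ?_
    rw [h.T_eq_zpowers hn hnE] at hu
    have hT' : ρ (conjAut E hn.2) ∈ (autInducedBy S E).map ρ :=
      ⟨_, conjAut_mem_autInducedBy hn.2 hn.1, rfl⟩
    exact Subgroup.zpowers_le.2 (mem_seriesStab.2 ⟨h.fix_small (himG hKinv) hKc hT',
      fun y hy => by rw [h.fix_small (himG hKinv) hKc hT' y hy, inv_mul_cancel]; exact one_mem _,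
      hall⟩) hu
  have hdiffmem : ∀ {n : Ω} (hn : n ∈ normalizerIn S E) (hnX : n ∈ X) (e : E),
      Commute (π ⟨n, hnX⟩) (π ⟨e, hEX e.2⟩) → (q e)⁻¹ * ρ (conjAut E hn.2) (q e) ∈ im K := by
    intro n hn hnX e hc
    rw [h.nat, ← map_inv, ← map_mul]
    refine hmem ?_
    rw [Subgroup.coe_mul, Subgroup.coe_inv, conjAut_apply]
    have := hc.eq
    rw [← map_mul, ← map_mul, hπeq, Subgroup.coe_mul, Subgroup.coe_mul] at this
    have h2 := K.inv_mem (hKn n hnX _ this)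
    convert h2 using 1
    group
  have hcore : CoreHyp p Nb Eb 𝒜 := by
    refine
      { pY := (h.pgroup.to_le hXS).to_quotient _
        nN := hNb ▸ Subgroup.Normal.map inferInstance _ hπs
        iN := ?_
        le := fun z hz => ?_
        rel := ?_
        nor := ?_
        cen := ?_
        conj := ?_
        inv := ?_
        rank := fun A hA1 hA2 => ?_ }
    · rw [hNb, Subgroup.index_map_eq _ hπs ?_, hNi]
      rw [hπ, QuotientGroup.ker_mk']
      exact fun g hg => hEN (hKE hg)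
    · obtain ⟨g, rfl⟩ := hπs z
      exact (hmN g).2 (hEN ((hmE g).1 hz))
    · rw [hEb, hNb, Subgroup.relIndex_map_map, hπ, QuotientGroup.ker_mk', sup_eq_left.2,
        sup_eq_left.2, Subgroup.relIndex_subgroupOf hNX, hN, h.relIndex]
      · exact fun g hg => hEN (hKE hg)
      · exact fun g hg => hKE hg
    · refine le_antisymm (fun z hz => ?_) (le_normalizer_of_conj fun z hz e he => ?_)
      · obtain ⟨g, rfl⟩ := hπs z
        rw [hmN, hN]
        refine ⟨hXS g.2, mem_normalizer_of_conj_mem h.le fun e he => ?_⟩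
        have := (Subgroup.mem_normalizer_iff.1 hz _).1 ((hmE ⟨e, hEX he⟩).2 he)
        rw [← map_inv, ← map_mul, ← map_mul, hmE] at this
        exact this
      · obtain ⟨g, rfl⟩ := hπs z
        obtain ⟨e', rfl⟩ := hπs e
        rw [← map_inv, ← map_mul, ← map_mul, hmE]
        exact conj_mem_of_mem_normalizer (hN ▸ (hmN g).1 hz : (g : Ω) ∈ normalizerIn S E).2
          ((hmE e').1 he)
    · intro z hz hc
      obtain ⟨g, rfl⟩ := hπs z
      rw [hmE]
      by_contra hgE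
      have hgN : (g : Ω) ∈ normalizerIn S E := hN ▸ (hmN g).1 hz
      refine hflagK hgN hgE fun y => ?_
      obtain ⟨e, rfl⟩ := h.surj y
      exact hdiffmem hgN g.2 e (hc _ ((hmE _).2 e.2))
    · intro z hz
      obtain ⟨g, rfl⟩ := hπs z
      have hgN : (g : Ω) ∈ normalizerIn S E := hN ▸ (hmN g).1 hz
      obtain ⟨b, hb, hbv⟩ := hdesc _
        (autInducedBy_le_autGroup h.le (conjAut_mem_autInducedBy hgN.2 hgN.1))
      refine ⟨b, hb, fun e' => ?_⟩
      obtain ⟨e, rfl⟩ := hφs e'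
      rw [hbv, hφ, hφ, ← map_inv, ← map_mul, ← map_mul]
      congr 1
    · intro C hCE hCn hCinv hCor
      obtain ⟨C', hC'⟩ : ∃ C', C' = (C.comap π).map X.subtype := ⟨_, rfl⟩
      have hmC : ∀ g : X, (g : Ω) ∈ C' ↔ π g ∈ C := fun g => by
        rw [hC']
        exact ⟨fun ⟨g', hg', he⟩ => (Subtype.ext he : g' = g) ▸ hg', fun hg => ⟨g, hg, rfl⟩⟩
      have hC'E : C' ≤ E := by
        rw [hC']
        rintro _ ⟨g, hg, rfl⟩
        exact (hmE g).1 (hCE hg)
      have hC'i : Inv C' := by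
        intro α hα e he
        obtain ⟨b, hb, hbv⟩ := hdesc α hα
        have h1 := hCinv b hb (φ e) (by rw [hφ]; exact (hmC ⟨e, hEX e.2⟩).1 he)
        rw [hbv, hφ] at h1
        exact (hmC ⟨_, hEX (α e).2⟩).2 h1
      have hC'n : ∀ g ∈ X, ∀ z ∈ C', g * z * g⁻¹ ∈ C' := by
        intro g hg z hz
        have h1 := hCn.conj_mem _ ((hmC ⟨z, hEX (hC'E hz)⟩).1 hz) (π ⟨g, hg⟩)
        rw [← map_inv, ← map_mul, ← map_mul] at h1
        exact (hmC _).2 h1
      have hsmall : Nat.card (im C') ≤ p := by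
        rcases hCor with hcen | hpc
        · by_contra hbigc
          have hKC' : K ≤ C' := fun z hz => (hmC ⟨z, hEX (hKE hz)⟩).2 (by
            rw [(hπ1 _).2 hz]; exact C.one_mem)
          have hle : im K ≤ im C' := by
            rw [him, him]; exact Subgroup.map_mono fun e he => hKC' he
          refine h.flag hle (himG hKinv) (himG hC'i) fun u hu => mem_seriesStab.2
            ⟨h.fix_small (himG hKinv) hKc hu, fun y hy => ?_, hstepTop hbigc (himG hC'i) u hu⟩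
          rw [him] at hy
          obtain ⟨e, he, rfl⟩ := hy
          obtain ⟨α, hα, rfl⟩ := hu
          obtain ⟨n, hn, hv⟩ := (mem_autInducedBy_iff S E α).1 hα
          have hnN := mem_normalizerIn_of_induces h.le hn hv
          rw [show α = conjAut E hnN.2 from MulEquiv.ext fun w => Subtype.ext (by
            rw [hv, conjAut_apply])]
          exact hdiffmem hnN (hNX (hN ▸ hnN)) e
            (hcen _ ((hmC ⟨e, hEX e.2⟩).1 he) _ ((hmN _).2 (hN ▸ hnN)))
        · refine le_trans (Subgroup.card_le_of_le ?_) hKc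
          intro y hy
          rw [him] at hy
          obtain ⟨e, he, rfl⟩ := hy
          have h1 := hpc ((hmC ⟨e, hEX e.2⟩).1 he)
          rw [hEb] at h1
          obtain ⟨w, hw, hwe⟩ := powComm_map_le π p (E.subgroupOf X) h1
          have hw' : (w : Ω) ∈ powComm p E := by
            refine (show powComm p (E.subgroupOf X) ≤ (powComm p E).comap X.subtype from
              (Subgroup.closure_le _).2 ?_) hw
            rintro z (⟨a, ha, rfl⟩ | ⟨a, ha, b, hb, rfl⟩)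
            · exact Subgroup.subset_closure (Or.inl ⟨a, ha, rfl⟩)
            · exact Subgroup.subset_closure (Or.inr ⟨a, ha, b, hb, by
                simp [commutatorElement_def]⟩)
          obtain ⟨w', hw'e, hw'f⟩ := frattini_of_mem_powComm h.pE hw'
          rw [hπeq, ← hw'e] at hwe
          have h2 : q (w'⁻¹ * e) ∈ im K := hmem (by simpa using hwe)
          rwa [map_mul, map_inv, (h.ker w').2 hw'f, inv_one, one_mul] at h2
      have hC'K := hKmax' C' ⟨hC'E, hC'n, hC'i, hsmall⟩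
      rw [Subgroup.eq_bot_iff_forall]
      intro z hz
      obtain ⟨g, rfl⟩ := hπs z
      exact (hπ1 g).2 (hC'K ((hmC g).2 hz))
    · obtain ⟨e, -⟩ : ∃ e : X.subgroupOf S ≃* X, True :=
        ⟨Subgroup.subgroupOfEquivOfLe hXS, trivial⟩
      exact rank_of_section hsr (φ := π.comp e.toMonoidHom) (hπs.comp e.surjective) A hA1 hA2
  obtain ⟨hab, hexpE, ⟨I, hIE, hIi, hIc⟩, ub, hub, hubE, hubp⟩ := hcore.main
  obtain ⟨u, rfl⟩ := hπs ub
  have huN : (u : Ω) ∈ normalizerIn S E := hN ▸ (hmN u).1 hub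
  have huE : (u : Ω) ∉ E := fun hh => hubE ((hmE u).2 hh)
  have hup : (u : Ω) ^ p ∈ K := by
    rw [← map_pow, hπ1] at hubp
    simpa using hubp
  have hker : ∀ e : E, q e = 1 → (e : Ω) ∈ K := by
    intro e he
    have hn : (K.subgroupOf E).Normal := normal_subgroupOf fun g hg z hz => hKn g (hEX hg) z hz
    refine CfsgLib.Critical.frattini_le_of_elementary (p := p) (K.subgroupOf E) ?_ (fun y => ?_)
      ((h.ker e).1 he)
    · rw [commutator_def, Subgroup.commutator_le]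
      intro a _ b _
      rw [Subgroup.mem_subgroupOf, ← hφ1, map_commutatorElement,
        commutatorElement_eq_one_iff_mul_comm]
      exact Subtype.ext (hab _ (φ a).2 _ (φ b).2)
    · rw [Subgroup.mem_subgroupOf, ← hφ1, map_pow]
      exact Subtype.ext (by simpa using hexpE _ (φ y).2)
  obtain ⟨I', hI'⟩ : ∃ I', I' = (I.comap π).map X.subtype := ⟨_, rfl⟩
  have hKI : K ≤ I' := fun z hz => hI' ▸ ⟨⟨z, hEX (hKE hz)⟩, by
    show π _ ∈ I
    rw [(hπ1 _).2 hz]
    exact I.one_mem, rfl⟩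
  have hI'rel : I'.relIndex E = p := by
    have hIeq : (I.comap π).map π = I := Subgroup.map_comap_eq_self_of_surjective hπs I
    have h1 := Subgroup.relIndex_map_map π (I.comap π) (E.subgroupOf X)
    rw [hIeq, ← hEb, hIi, sup_eq_left.2 (Subgroup.ker_le_comap π I), sup_eq_left.2
      (show π.ker ≤ E.subgroupOf X by
        rw [hπ, QuotientGroup.ker_mk']; exact fun g hg => hKE hg)] at h1
    rw [hI', ← Subgroup.map_subgroupOf_eq_of_le hEX,
      Subgroup.relIndex_map_map_of_injective _ _ X.subtype_injective, ← h1]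
  obtain ⟨P, hP⟩ : ∃ P, P = im I' := ⟨_, rfl⟩
  have hPi : P.index = p := by
    rw [hP, him, Subgroup.index_map_eq _ h.surj]
    · exact hI'rel
    · exact fun e he => hKI (hker e (MonoidHom.mem_ker.1 he))
  have hKP : im K ≤ P := by
    rw [hP, him, him]; exact Subgroup.map_mono fun e he => hKI he
  have hd : ∀ y ∈ P, y⁻¹ * ρ (conjAut E huN.2) y ∈ im K := by
    intro y hy
    rw [hP, him] at hy
    obtain ⟨e, he, rfl⟩ := hy
    refine hdiffmem huN u.2 e ?_
    replace he : (e : Ω) ∈ I' := he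
    rw [hI'] at he
    obtain ⟨g, hg, hge⟩ := he
    have hge' : g = ⟨e, hEX e.2⟩ := Subtype.ext hge
    exact hIc _ (hge' ▸ hg) _ hub
  obtain ⟨L, c, hKL, hLP, hLc, htr, hcL, htor⟩ :=
    h.torus_data hp2 hPi hKP hKc (himG hKinv) (h.T_eq_zpowers huN huE) hd
  exact ⟨u, K, L, P, c, _, huN, huE, hup, hKE, fun g hg => hKn g (hX ▸ hN ▸ hg),
    hker, fun e he => hKL (hmem he), hLP, hLc, rfl, htr, hcL, htor⟩

end CfsgLib.RankThree
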