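import Mathlib

/-!
The amalgam step for an essential subgroup in sectional rank three: a `p`-group with a subgroup `E`
whose normalizer `N` has index `p`, such that no nontrivial normal subgroup which is invariant under
the automizer of `E` is central in `N` or lies in the Frattini subgroup of `E`, has `E` elementary
abelian with a hyperplane centralized by `N`.
-/

set_option autoImplicit false
set_option linter.style.haveILetI false

namespace CfsgLib.RankThree

open scoped commutatorElement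

variable {Y : Type*} [Group Y] {p : ℕ}

/-- The subgroup generated by the `p`-th powers and commutators of `E`. -/
def powComm (p : ℕ) (E : Subgroup Y) : Subgroup Y :=
  Subgroup.closure ({z | ∃ e ∈ E, z = e ^ p} ∪ {z | ∃ e ∈ E, ∃ f ∈ E, z = ⁅e, f⁆})

theorem powComm_le (p : ℕ) (E : Subgroup Y) : powComm p E ≤ E := by
  rw [powComm, Subgroup.closure_le]
  rintro z (⟨e, he, rfl⟩ | ⟨e, he, f, hf, rfl⟩)
  · exact E.pow_mem he p
  · rw [SetLike.mem_coe, commutatorElement_def]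
    exact E.mul_mem (E.mul_mem (E.mul_mem he hf) (E.inv_mem he)) (E.inv_mem hf)

theorem powComm_mono (p : ℕ) {E F : Subgroup Y} (h : E ≤ F) : powComm p E ≤ powComm p F := by
  refine Subgroup.closure_mono ?_
  rintro z (⟨e, he, rfl⟩ | ⟨e, he, f, hf, rfl⟩)
  · exact Or.inl ⟨e, h he, rfl⟩
  · exact Or.inr ⟨e, h he, f, h hf, rfl⟩

theorem conj_mem_powComm {E F : Subgroup Y} {g : Y} (h : ∀ e ∈ E, g * e * g⁻¹ ∈ F) :
    ∀ z ∈ powComm p E, g * z * g⁻¹ ∈ powComm p F := by
  intro z hz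
  refine Subgroup.closure_induction (p := fun z _ => g * z * g⁻¹ ∈ powComm p F) ?_ ?_ ?_ ?_ hz
  · rintro _ (⟨e, he, rfl⟩ | ⟨e, he, f, hf, rfl⟩)
    · exact Subgroup.subset_closure (Or.inl ⟨_, h e he, (conj_pow).symm⟩)
    · refine Subgroup.subset_closure (Or.inr ⟨_, h e he, _, h f hf, ?_⟩)
      simp only [commutatorElement_def]
      group
  · simpa using (powComm p F).one_mem
  · intro a b _ _ ha hb
    simpa [mul_assoc] using (powComm p F).mul_mem ha hb
  · intro a _ ha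
    simpa [mul_assoc] using (powComm p F).inv_mem ha

/-- A subgroup generated by a subgroup and commuting elements of exponent `p`. -/
theorem powComm_sup_central {E I W : Subgroup Y}
    (hE : ∀ e ∈ E, ∃ i ∈ I, ∃ w ∈ W, e = i * w)
    (hW : ∀ w ∈ W, w ^ p = 1) (hIW : ∀ i ∈ I, ∀ w ∈ W, i * w = w * i)
    (hWW : ∀ v ∈ W, ∀ w ∈ W, v * w = w * v) : powComm p E ≤ powComm p I := by
  rw [powComm, Subgroup.closure_le]
  rintro z (⟨e, he, rfl⟩ | ⟨e, he, f, hf, rfl⟩)
  · obtain ⟨i, hi, w, hw, rfl⟩ := hE e he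
    rw [Commute.mul_pow (hIW i hi w hw), hW w hw, mul_one]
    exact Subgroup.subset_closure (Or.inl ⟨i, hi, rfl⟩)
  · obtain ⟨i, hi, w, hw, rfl⟩ := hE e he
    obtain ⟨j, hj, v, hv, rfl⟩ := hE f hf
    refine Subgroup.subset_closure (Or.inr ⟨i, hi, j, hj, ?_⟩)
    have c1 : Commute i w := hIW i hi w hw
    have c2 : Commute j v := hIW j hj v hv
    have c3 : Commute i v := hIW i hi v hv
    have c4 : Commute j w := hIW j hj w hw
    have c5 : Commute w v := hWW w hw v hv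
    simp only [commutatorElement_def, mul_inv_rev]
    calc i * w * (j * v) * (w⁻¹ * i⁻¹) * (v⁻¹ * j⁻¹)
        = i * (w * j) * (v * w⁻¹) * (i⁻¹ * v⁻¹) * j⁻¹ := by group
      _ = i * (j * w) * (w⁻¹ * v) * (v⁻¹ * i⁻¹) * j⁻¹ := by
          rw [← c4.eq, (c5.inv_left.eq).symm, (c3.inv_inv.eq)]
      _ = i * j * i⁻¹ * j⁻¹ := by group

theorem le_normalizer_of_conj [Finite Y] {N E : Subgroup Y}
    (h : ∀ n ∈ N, ∀ e ∈ E, n * e * n⁻¹ ∈ E) : N ≤ Subgroup.normalizer (E : Set Y) := by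
  intro n hn
  refine Subgroup.mem_normalizer_fintype ?_
  exact fun e he => h n hn e he

theorem closure_comm {s : Set Y} (hs : ∀ x ∈ s, ∀ y ∈ s, x * y = y * x) {a b : Y}
    (ha : a ∈ Subgroup.closure s) (hb : b ∈ Subgroup.closure s) : a * b = b * a := by
  have h1 : Subgroup.closure s ≤ Subgroup.centralizer s := (Subgroup.closure_le _).2
    fun x hx => Subgroup.mem_centralizer_iff.2 fun y hy => hs y hy x hx
  have h2 : s ⊆ Subgroup.centralizer (Subgroup.closure s : Set Y) := fun x hx =>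
    Subgroup.mem_centralizer_iff.2 fun y hy =>
      (Subgroup.mem_centralizer_iff.1 (h1 hy) x hx).symm
  exact (Subgroup.mem_centralizer_iff.1 ((Subgroup.closure_le _).2 h2 hb) a ha)

/-- The hypotheses of the amalgam step. -/
structure CoreHyp (p : ℕ) (N E : Subgroup Y) (𝒜 : Subgroup (MulAut E)) : Prop where
  pY : IsPGroup p Y
  nN : N.Normal
  iN : N.index = p
  le : E ≤ N
  rel : E.relIndex N = p
  nor : Subgroup.normalizer (E : Set Y) = N
  cen : ∀ n ∈ N, (∀ e ∈ E, n * e = e * n) → n ∈ E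
  conj : ∀ n ∈ N, ∃ a ∈ 𝒜, ∀ e : E, (a e : Y) = n * (e : Y) * n⁻¹
  inv : ∀ C : Subgroup Y, C ≤ E → C.Normal →
    (∀ a ∈ 𝒜, ∀ e : E, (e : Y) ∈ C → (a e : Y) ∈ C) →
    ((∀ c ∈ C, ∀ n ∈ N, n * c = c * n) ∨ C ≤ powComm p E) → C = ⊥
  rank : ∀ A : Subgroup Y, (∀ a ∈ A, ∀ b ∈ A, a * b = b * a) → (∀ a ∈ A, a ^ p = 1) →
    Nat.card A ≤ p ^ 3

theorem eq_of_prime_index [Fact p.Prime] {N H : Subgroup Y} (hi : N.index = p) (hle : N ≤ H)
    {g : Y} (hg : g ∈ H) (hgN : g ∉ N) : H = ⊤ := by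
  rcases (Nat.dvd_prime (Fact.out : p.Prime)).1 (hi ▸ Subgroup.index_dvd_of_le hle) with e | e
  · exact Subgroup.index_eq_one.1 e
  · exfalso
    have h2 := Subgroup.relIndex_mul_index hle
    rw [e, hi] at h2
    exact hgN (Subgroup.relIndex_eq_one.1
      ((mul_eq_right₀ (Fact.out : p.Prime).ne_zero).1 h2) hg)

theorem exists_decomp_of_prime [Finite Y] [Fact p.Prime] {N E : Subgroup Y}
    (hle : E ≤ N) (hrel : E.relIndex N = p) (hnor : N ≤ Subgroup.normalizer (E : Set Y)) {w : Y}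
    (hw : w ∈ N) (hwE : w ∉ E) {W : Subgroup Y} (hWN : W ≤ N) (hwW : w ∈ W) :
    ∀ n ∈ N, ∃ e ∈ E, ∃ v ∈ W, n = e * v := by
  have hK : E ⊔ W = N := by
    refine le_antisymm (sup_le hle hWN) ?_
    have h1 : E.relIndex (E ⊔ W) ∣ p := ⟨_, (hrel.symm.trans
      (Subgroup.relIndex_mul_relIndex E (E ⊔ W) N le_sup_left (sup_le hle hWN)).symm)⟩
    rcases (Nat.dvd_prime (Fact.out : p.Prime)).1 h1 with e | e
    · exact absurd (Subgroup.relIndex_eq_one.1 e (Subgroup.mem_sup_right hwW)) hwE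
    · refine Subgroup.relIndex_eq_one.1 ?_
      have h2 := Subgroup.relIndex_mul_relIndex E (E ⊔ W) N le_sup_left (sup_le hle hWN)
      rw [e, hrel] at h2
      exact (mul_eq_left₀ (Fact.out : p.Prime).ne_zero).1 h2
  intro n hn
  rw [← hK] at hn
  have hmem : n ∈ ((E ⊔ W : Subgroup Y) : Set Y) := hn
  rw [Subgroup.coe_mul_of_right_le_normalizer_left _ _ (hWN.trans hnor)] at hmem
  obtain ⟨e, he, v, hv, rfl⟩ := hmem
  exact ⟨e, he, v, hv, rfl⟩

/-- Commutators of a normal subgroup of order `p` with a `p`-group are trivial modulo it. -/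
theorem comm_mem_of_card_sq [Finite Y] [hp : Fact p.Prime] (hY : IsPGroup p Y) {N W Z : Subgroup Y}
    (hN : ∀ n ∈ N, ∀ w ∈ W, n * w * n⁻¹ ∈ W) (hZW : Z ≤ W) (hW : Nat.card W = p ^ 2)
    (hZ : Nat.card Z = p) (hZc : ∀ n ∈ N, ∀ z ∈ Z, n * z = z * n) :
    ∀ n ∈ N, ∀ w ∈ W, n * w * n⁻¹ * w⁻¹ ∈ Z := by
  classical
  have hWN : N ≤ Subgroup.normalizer (W : Set Y) := le_normalizer_of_conj hN
  have hcomm : ∀ a ∈ W, ∀ b ∈ W, a * b = b * a := by
    intro a ha b hb
    haveI : IsMulCommutative W := ⟨⟨(IsPGroup.commGroupOfCardEqPrimeSq hW).mul_comm⟩⟩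
    exact congrArg Subtype.val (IsMulCommutative.is_comm.comm (⟨a, ha⟩ : W) ⟨b, hb⟩)
  intro n hn
  let φ : W →* W := MonoidHom.mk' (fun w => ⟨n * w * n⁻¹ * (w : Y)⁻¹,
      W.mul_mem (hN n hn w w.2) (W.inv_mem w.2)⟩) fun a b => by
    ext
    show n * ((a : Y) * b) * n⁻¹ * ((a : Y) * b)⁻¹
      = n * a * n⁻¹ * (a : Y)⁻¹ * (n * b * n⁻¹ * (b : Y)⁻¹)
    calc _ = n * a * n⁻¹ * ((n * b * n⁻¹ * (b : Y)⁻¹) * (a : Y)⁻¹) := by group
      _ = n * a * n⁻¹ * ((a : Y)⁻¹ * (n * b * n⁻¹ * (b : Y)⁻¹)) := by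
          rw [hcomm _ (W.mul_mem (hN n hn b b.2) (W.inv_mem b.2)) _ (W.inv_mem a.2)]
      _ = _ := by group
  let ψ : MulAut W :=
    { toFun := fun w => ⟨n * w * n⁻¹, hN n hn w w.2⟩
      invFun := fun w => ⟨n⁻¹ * w * n⁻¹⁻¹, hN n⁻¹ (N.inv_mem hn) w w.2⟩
      left_inv := fun w => Subtype.ext (by simp [mul_assoc])
      right_inv := fun w => Subtype.ext (by simp [mul_assoc])
      map_mul' := fun a b => Subtype.ext (by simp [mul_assoc]) }
  intro w hw
  -- the image of `φ` is a proper subgroup containing no complement to `Z`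
  have hpow : ∀ k : ℕ, ∀ v : W, ((ψ ^ k) v : Y) = n ^ k * v * (n ^ k)⁻¹ := by
    intro k
    induction k with
    | zero => simp
    | succ k ih =>
      intro v
      rw [pow_succ', MulAut.mul_apply]
      show n * ((ψ ^ k) v : Y) * n⁻¹ = _
      rw [ih, pow_succ' n]
      group
  by_cases hwZ : w ∈ Z
  · rw [hZc n hn w hwZ, mul_inv_cancel_right, mul_inv_cancel]
    exact Z.one_mem
  by_contra hcon
  -- `w` and `φ w` generate `W`, so `φ` has image in `Z`
  have hker : Z.subgroupOf W ≤ φ.ker := by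
    intro z hz
    refine Subtype.ext ?_
    show n * (z : Y) * n⁻¹ * (z : Y)⁻¹ = 1
    rw [hZc n hn z hz, mul_inv_cancel_right, mul_inv_cancel]
  have hZi : (Z.subgroupOf W).index = p := by
    have h1 := (Z.subgroupOf W).index_mul_card
    rw [Nat.card_congr (Subgroup.subgroupOfEquivOfLe hZW).toEquiv, hZ, hW, sq] at h1
    exact Nat.eq_of_mul_eq_mul_right hp.out.pos h1
  have hr : Nat.card φ.range ∣ p := by
    rw [← Subgroup.index_ker, ← hZi]
    exact Subgroup.index_dvd_of_le hker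
  have hmem : (φ ⟨w, hw⟩ : W) ∈ φ.range := ⟨_, rfl⟩
  have hne : φ ⟨w, hw⟩ ∉ Z.subgroupOf W := hcon
  have hrp : Nat.card φ.range = p := by
    rcases (Nat.dvd_prime hp.out).1 hr with e | e
    · rw [Subgroup.card_eq_one] at e
      rw [e, Subgroup.mem_bot] at hmem
      exact absurd (hmem ▸ (Z.subgroupOf W).one_mem) hne
    · exact e
  have hdisj : ∀ v ∈ φ.range, v ∈ Z.subgroupOf W → v = 1 := by
    intro v hv hvZ
    by_contra hv1
    have h1 : Subgroup.zpowers v = φ.range := Subgroup.eq_of_le_of_card_ge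
      (Subgroup.zpowers_le.2 hv) (le_of_eq (hrp.trans (Nat.card_zpowers v ▸
        (orderOf_eq_prime (by
          have := pow_card_eq_one' (x := (⟨v, hv⟩ : φ.range))
          rw [hrp] at this
          exact congrArg Subtype.val this) hv1).symm)))
    exact hne ((h1 ▸ Subgroup.zpowers_le.2 hvZ) hmem)
  -- `ψ` is an automorphism of `p`-power order, so it fixes the line `φ.range`
  have hinv : ∀ v ∈ φ.range, ψ v ∈ φ.range := by
    rintro _ ⟨v, rfl⟩
    exact ⟨ψ v, Subtype.ext (by simp [φ, ψ, mul_assoc])⟩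
  obtain ⟨k, hk⟩ := hY n
  let act : φ.range → φ.range := fun v => ⟨ψ v, hinv v v.2⟩
  have hfix : ∀ v ∈ φ.range, ψ v = v := by
    intro v hv
    by_cases hv1 : v = 1
    · rw [hv1, map_one]
    have hgen : Subgroup.zpowers v = φ.range := Subgroup.eq_of_le_of_card_ge
      (Subgroup.zpowers_le.2 hv) (le_of_eq (hrp.trans (Nat.card_zpowers v ▸
        (orderOf_eq_prime (by
          have := pow_card_eq_one' (x := (⟨v, hv⟩ : φ.range))
          rw [hrp] at this
          exact congrArg Subtype.val this) hv1).symm)))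
    obtain ⟨m, hm⟩ := Subgroup.mem_zpowers_iff.1 (hgen.ge (hinv v hv))
    have hord : orderOf v = p := by rw [← Nat.card_zpowers, hgen, hrp]
    have hit : ∀ i : ℕ, (ψ ^ i) v = v ^ (m ^ i) := by
      intro i
      induction i with
      | zero => simp
      | succ i ih => rw [pow_succ', MulAut.mul_apply, ih, map_zpow, ← hm, ← zpow_mul, pow_succ']
    have h2 : v ^ (m ^ p ^ k - 1) = 1 := by
      rw [zpow_sub, zpow_one, ← hit, show (ψ ^ p ^ k) v = v from Subtype.ext (by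
        rw [hpow, hk]; simp), mul_inv_cancel]
    have h3 := orderOf_dvd_iff_zpow_eq_one.2 h2
    rw [hord, ← ZMod.intCast_zmod_eq_zero_iff_dvd, Int.cast_sub, Int.cast_pow,
      ZMod.pow_card_pow, Int.cast_one, sub_eq_zero] at h3
    obtain ⟨d, hd⟩ : (p : ℤ) ∣ m - 1 := by
      rw [← ZMod.intCast_zmod_eq_zero_iff_dvd]
      push_cast
      rw [h3, sub_self]
    rw [← hm, show m = 1 + (p : ℤ) * d by omega, zpow_add, zpow_one, zpow_mul, zpow_natCast,
      ← hord, pow_orderOf_eq_one, one_zpow, mul_one]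
  have hsub : φ.range ≤ φ.ker := by
    intro v hv
    refine Subtype.ext ?_
    show n * (v : Y) * n⁻¹ * (v : Y)⁻¹ = 1
    have := congrArg Subtype.val (hfix v hv)
    change n * (v : Y) * n⁻¹ = v at this
    rw [this, mul_inv_cancel]
  have hkp : Nat.card φ.ker ∣ p := by
    have h := φ.ker.index_mul_card
    rw [Subgroup.index_ker, hrp, hW, sq] at h
    rw [Nat.eq_of_mul_eq_mul_left hp.out.pos h]
  have h4 : φ.ker = Z.subgroupOf W := (Subgroup.eq_of_le_of_card_ge hker (by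
    rw [Nat.card_congr (Subgroup.subgroupOfEquivOfLe hZW).toEquiv, hZ]
    exact Nat.le_of_dvd hp.out.pos hkp)).symm
  exact hne (h4 ▸ hsub hmem)

namespace CoreHyp

variable {N E : Subgroup Y} {𝒜 : Subgroup (MulAut E)}

theorem not_normal [Finite Y] [hp : Fact p.Prime] (h : CoreHyp p N E 𝒜) {g : Y} (hg : g ∉ N) :
    ∃ e ∈ E, g * e * g⁻¹ ∉ E := by
  by_contra hcon
  push Not at hcon
  refine hg ?_
  rw [← h.nor]
  exact Subgroup.mem_normalizer_fintype fun e he => hcon e he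

/-- The amalgam step. -/
theorem main [Finite Y] [hp : Fact p.Prime] (h : CoreHyp p N E 𝒜) :
    (∀ a ∈ E, ∀ b ∈ E, a * b = b * a) ∧ (∀ e ∈ E, e ^ p = 1) ∧
      (∃ I : Subgroup Y, I ≤ E ∧ I.relIndex E = p ∧ ∀ i ∈ I, ∀ n ∈ N, n * i = i * n) ∧
      ∃ u ∈ N, u ∉ E ∧ u ^ p = 1 := by
  classical
  haveI := h.nN
  have hEN : N ≤ Subgroup.normalizer (E : Set Y) := h.nor.ge
  have hNE : ∀ n ∈ N, ∀ e ∈ E, n * e * n⁻¹ ∈ E := fun n hn e he =>
    (Subgroup.mem_normalizer_iff.1 (hEN hn) e).1 he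
  -- the elements of order dividing `p` in the centre of `N`
  obtain ⟨Z, hZmem⟩ : ∃ Z : Subgroup Y, ∀ z, z ∈ Z ↔
      z ∈ N ∧ z ^ p = 1 ∧ ∀ n ∈ N, n * z = z * n :=
    ⟨{ carrier := {z | z ∈ N ∧ z ^ p = 1 ∧ ∀ n ∈ N, n * z = z * n}
       one_mem' := ⟨N.one_mem, one_pow p, fun n _ => by simp⟩
       mul_mem' := fun {a b} ha hb => ⟨N.mul_mem ha.1 hb.1, by
         rw [Commute.mul_pow (hb.2.2 a ha.1), ha.2.1, hb.2.1, mul_one],
         fun n hn => ((Commute.mul_right (ha.2.2 n hn) (hb.2.2 n hn))).eq⟩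
       inv_mem' := fun {a} ha => ⟨N.inv_mem ha.1, by rw [inv_pow, ha.2.1, inv_one],
         fun n hn => (Commute.inv_right (ha.2.2 n hn)).eq⟩ }, fun z => Iff.rfl⟩
  have hZE : Z ≤ E := fun z hz =>
    h.cen z ((hZmem z).1 hz).1 fun e he => (((hZmem z).1 hz).2.2 e (h.le he)).symm
  haveI hZn : Z.Normal := ⟨fun z hz g => by
    obtain ⟨hzN, hzp, hzc⟩ := (hZmem z).1 hz
    refine (hZmem _).2 ⟨h.nN.conj_mem z hzN g, by rw [conj_pow, hzp, mul_one, mul_inv_cancel],
      fun n hn => ?_⟩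
    have := hzc (g⁻¹ * n * g) (by simpa using h.nN.conj_mem n hn g⁻¹)
    calc n * (g * z * g⁻¹) = g * ((g⁻¹ * n * g) * z) * g⁻¹ := by group
      _ = g * (z * (g⁻¹ * n * g)) * g⁻¹ := by rw [this]
      _ = _ := by group⟩
  have hZ1 : Z ≠ ⊥ := by
    have hN1 : Nontrivial N := by
      rw [Subgroup.nontrivial_iff_ne_bot]
      intro e
      have := h.rel
      rw [e, Subgroup.relIndex_bot_right] at this
      exact hp.out.ne_one this.symm
    haveI := hN1
    obtain ⟨k, hk⟩ := (h.pY.to_subgroup N).exists_card_eq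
    haveI := (h.pY.to_subgroup N).center_nontrivial
    have hdvd : p ∣ Nat.card (Subgroup.center N) := by
      obtain ⟨m, hm⟩ := ((h.pY.to_subgroup N).to_subgroup (Subgroup.center N)).exists_card_eq
      rw [hm]
      refine dvd_pow_self p fun e => ?_
      rw [e, pow_zero, Subgroup.card_eq_one] at hm
      exact (Subgroup.nontrivial_iff_ne_bot _).1 inferInstance hm
    obtain ⟨z, hz⟩ := exists_prime_orderOf_dvd_card' p hdvd
    intro e
    have hzZ : ((z : N) : Y) ∈ Z := (hZmem _).2 ⟨(z : N).2, by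
      have h1 := pow_orderOf_eq_one z
      rw [hz] at h1
      exact congrArg Subtype.val (congrArg Subtype.val h1),
      fun n hn => congrArg Subtype.val (Subgroup.mem_center_iff.1 z.2 ⟨n, hn⟩)⟩
    rw [e, Subgroup.mem_bot] at hzZ
    have : z = 1 := Subtype.ext (Subtype.ext hzZ)
    rw [this, orderOf_one] at hz
    exact hp.out.ne_one hz.symm
  -- the module generated by `Z`
  obtain ⟨W, hW⟩ : ∃ W : Subgroup Y,
      W = Subgroup.closure {w | ∃ a ∈ 𝒜, ∃ e : E, (e : Y) ∈ Z ∧ (a e : Y) = w} := ⟨_, rfl⟩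
  have hWgen : ∀ a ∈ 𝒜, ∀ e : E, (e : Y) ∈ Z → (a e : Y) ∈ W := fun a ha e he =>
    hW ▸ Subgroup.subset_closure ⟨a, ha, e, he, rfl⟩
  have hWE : W ≤ E := by
    rw [hW, Subgroup.closure_le]
    rintro _ ⟨a, -, e, -, rfl⟩
    exact (a e).2
  have hWc : ∀ w ∈ W, ∀ e ∈ E, w * e = e * w := by
    intro w hw
    have : W ≤ Subgroup.centralizer (E : Set Y) := by
      rw [hW, Subgroup.closure_le]
      rintro _ ⟨a, -, e, he, rfl⟩
      refine Subgroup.mem_centralizer_iff.2 fun f hf => ?_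
      obtain ⟨f', hf'⟩ := a.surjective ⟨f, hf⟩
      have h1 : f' * e = e * f' := Subtype.ext (((hZmem _).1 he).2.2 f' (h.le f'.2))
      have h2 := congrArg (fun t : E => (t : Y)) (congrArg a h1)
      simp only [map_mul, Subgroup.coe_mul, hf'] at h2
      exact h2
    exact fun e he => (Subgroup.mem_centralizer_iff.1 (this hw) e he).symm
  have hWp : ∀ w ∈ W, w ^ p = 1 := by
    intro w hw
    rw [hW] at hw
    suffices w ∈ W ∧ w ^ p = 1 from this.2
    refine Subgroup.closure_induction (p := fun w _ => w ∈ W ∧ w ^ p = 1) ?_ ?_ ?_ ?_ hw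
    · rintro _ ⟨a, ha, e, he, rfl⟩
      have h1 : e ^ p = 1 := Subtype.ext ((hZmem _).1 he).2.1
      refine ⟨hWgen a ha e he, ?_⟩
      rw [← Subgroup.coe_pow, ← map_pow, h1, map_one]
      rfl
    · exact ⟨W.one_mem, one_pow p⟩
    · rintro a b - - ⟨ha, ha'⟩ ⟨hb, hb'⟩
      exact ⟨W.mul_mem ha hb, by rw [Commute.mul_pow (hWc a ha b (hWE hb)), ha', hb', mul_one]⟩
    · rintro a - ⟨ha, ha'⟩
      exact ⟨W.inv_mem ha, by rw [inv_pow, ha', inv_one]⟩
  have hWinv : ∀ a ∈ 𝒜, ∀ e : E, (e : Y) ∈ W → (a e : Y) ∈ W := by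
    intro a ha e he
    let C : Subgroup E := (W.subgroupOf E).comap (a : MulAut E).toMonoidHom
    have : W ≤ C.map E.subtype := by
      nth_rw 1 [hW]
      rw [Subgroup.closure_le]
      rintro _ ⟨b, hb, z, hz, rfl⟩
      exact ⟨b z, hWgen (a * b) (𝒜.mul_mem ha hb) z hz, rfl⟩
    obtain ⟨f, hf, hfe⟩ := this he
    rw [show e = f from Subtype.ext hfe.symm]
    exact hf
  have hWN : ∀ n ∈ N, ∀ w ∈ W, n * w * n⁻¹ ∈ W := by
    intro n hn w hw
    obtain ⟨a, ha, hae⟩ := h.conj n hn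
    rw [show n * w * n⁻¹ = _ from (hae ⟨w, hWE hw⟩).symm]
    exact hWinv a ha _ hw
  have hWnc : ¬ ∀ w ∈ W, ∀ n ∈ N, n * w = w * n := by
    intro hcon
    have hle : W ≤ Z := fun w hw => (hZmem w).2 ⟨h.le (hWE hw), hWp w hw, hcon w hw⟩
    exact hZ1 (h.inv Z hZE hZn (fun a ha e he => hle (hWgen a ha e he))
      (Or.inl fun c hc n hn => ((hZmem c).1 hc).2.2 n hn))
  have hZW : Z ≤ W := fun z hz => hWgen 1 𝒜.one_mem ⟨z, hZE hz⟩ hz
  by_cases hA : ∃ g : Y, ∃ w ∈ W, g * w * g⁻¹ ∉ E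
  · -- a conjugate of `W` lies outside `E`
    obtain ⟨g, w, hw, hgw⟩ := hA
    have hgN : g ∉ N := fun hg => hgw (hWE (hWN g hg w hw))
    obtain ⟨E1, hE1⟩ : ∃ E1 : Subgroup Y, E1 = E.map (MulAut.conj g).toMonoidHom := ⟨_, rfl⟩
    have hE1mem : ∀ y, y ∈ E1 ↔ g⁻¹ * y * g ∈ E := fun y => by
      rw [hE1]
      constructor
      · rintro ⟨e, he, rfl⟩
        simpa [mul_assoc] using he
      · exact fun hy => ⟨_, hy, by simp [mul_assoc]⟩
    obtain ⟨W1, hW1⟩ : ∃ W1 : Subgroup Y, W1 = W.map (MulAut.conj g).toMonoidHom := ⟨_, rfl⟩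
    have hW1mem : ∀ y, y ∈ W1 ↔ g⁻¹ * y * g ∈ W := fun y => by
      rw [hW1]
      constructor
      · rintro ⟨e, he, rfl⟩
        simpa [mul_assoc] using he
      · exact fun hy => ⟨_, hy, by simp [mul_assoc]⟩
    have hE1N : E1 ≤ N := fun y hy => by
      have := h.nN.conj_mem _ (h.le ((hE1mem y).1 hy)) g
      simpa [mul_assoc] using this
    have hW1E1 : W1 ≤ E1 := fun y hy => (hE1mem y).2 (hWE ((hW1mem y).1 hy))
    have hW1c : ∀ v ∈ W1, ∀ e ∈ E1, v * e = e * v := by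
      intro v hv e he
      have := hWc _ ((hW1mem v).1 hv) _ ((hE1mem e).1 he)
      calc v * e = g * ((g⁻¹ * v * g) * (g⁻¹ * e * g)) * g⁻¹ := by group
        _ = g * ((g⁻¹ * e * g) * (g⁻¹ * v * g)) * g⁻¹ := by rw [this]
        _ = e * v := by group
    have hW1p : ∀ v ∈ W1, v ^ p = 1 := by
      intro v hv
      have h2 := hWp _ ((hW1mem v).1 hv)
      calc v ^ p = (g * (g⁻¹ * v * g) * g⁻¹) ^ p := by congr 1; group
        _ = 1 := by rw [conj_pow, h2, mul_one, mul_inv_cancel]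
    obtain ⟨u, huW1, huE⟩ : ∃ u ∈ W1, u ∉ E :=
      ⟨_, (hW1mem _).2 (by simpa [mul_assoc] using hw), hgw⟩
    have huN : u ∈ N := hE1N (hW1E1 huW1)
    have hNd := exists_decomp_of_prime h.le h.rel hEN huN huE
      (W := W1) (hW1E1.trans hE1N) huW1
    obtain ⟨w0, hw0, hw0E1⟩ : ∃ w0 ∈ W, w0 ∉ E1 := by
      by_contra hcon
      push Not at hcon
      refine hWnc fun x hx n hn => ?_
      obtain ⟨e, he, v, hv, rfl⟩ := hNd n hn
      have c1 : Commute e x := (hWc x hx e he).symm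
      have c2 : Commute v x := hW1c v hv x (hcon x hx)
      exact (c1.mul_left c2).eq
    have hE1E : ¬ E ≤ E1 := fun hle => hw0E1 (hle (hWE hw0))
    obtain ⟨I, hI⟩ : ∃ I : Subgroup Y, I = E ⊓ E1 := ⟨_, rfl⟩
    have hrel1 : E1.relIndex N = p := by
      have hNmap : N.map (MulAut.conj g).toMonoidHom = N := by
        ext y
        constructor
        · rintro ⟨x, hx, rfl⟩; simpa using h.nN.conj_mem x hx g
        · exact fun hy => ⟨g⁻¹ * y * g, by simpa using h.nN.conj_mem y hy g⁻¹, by simp [mul_assoc]⟩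
      rw [← hNmap, hE1, Subgroup.relIndex_map_map_of_injective _ _ (MulAut.conj g).injective]
      exact h.rel
    have hIE : I.relIndex E = p := by
      rw [hI, inf_comm, Subgroup.inf_relIndex_right]
      rw [← hrel1]
      -- `E` meets every coset of `E1` in `N`
      refine Nat.card_congr (Equiv.ofBijective
        (Quotient.map' (fun e : E => (⟨e, h.le e.2⟩ : N)) fun a b hab => ?_) ⟨?_, ?_⟩)
      · rw [QuotientGroup.leftRel_apply] at hab ⊢
        exact hab
      · intro a b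
        induction a using QuotientGroup.induction_on with | _ a => ?_
        induction b using QuotientGroup.induction_on with | _ b => ?_
        intro hab
        have h1 := QuotientGroup.eq.1 hab
        exact QuotientGroup.eq.2 h1
      · intro q
        induction q using QuotientGroup.induction_on with | _ n => ?_
        obtain ⟨e, he, v, hv, hev⟩ := hNd n n.2
        refine ⟨QuotientGroup.mk (⟨e, he⟩ : E), QuotientGroup.eq.2 ?_⟩
        show e⁻¹ * (n : Y) ∈ E1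
        rw [hev, inv_mul_cancel_left]
        exact hW1E1 hv
    have hEI : ∀ e ∈ E, ∃ i ∈ I, ∃ v ∈ W, e = i * v := by
      have hnI : E ≤ Subgroup.normalizer (I : Set Y) := le_normalizer_of_conj fun n hn i hi => by
        rw [hI] at hi ⊢
        refine ⟨E.mul_mem (E.mul_mem hn hi.1) (E.inv_mem hn), (hE1mem _).2 ?_⟩
        have := hNE (g⁻¹ * n * g) (by simpa using h.nN.conj_mem n (h.le hn) g⁻¹) _
          ((hE1mem i).1 hi.2)
        simpa [mul_assoc] using this
      exact exists_decomp_of_prime (hI ▸ inf_le_left) hIE hnI (hWE hw0)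
        (fun hc => hw0E1 (hI ▸ hc : w0 ∈ E ⊓ E1).2) hWE hw0
    have hIW : ∀ i ∈ I, ∀ v ∈ W, i * v = v * i := fun i hi v hv =>
      (hWc v hv i (hI ▸ hi : i ∈ E ⊓ E1).1).symm
    have hWW : ∀ a ∈ W, ∀ b ∈ W, a * b = b * a := fun a ha b hb => hWc a ha b (hWE hb)
    have h1 : powComm p E = powComm p I := le_antisymm (powComm_sup_central hEI hWp hIW hWW)
      (powComm_mono p (hI ▸ inf_le_left))
    have hE1I : ∀ e ∈ E1, ∃ i ∈ I, ∃ v ∈ W1, e = i * v := by
      intro e he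
      obtain ⟨i, hi, v, hv, rfl⟩ := hNd e (hE1N he)
      refine ⟨i, ?_, v, hv, rfl⟩
      rw [hI]
      refine ⟨hi, ?_⟩
      simpa using E1.mul_mem he (E1.inv_mem (hW1E1 hv))
    have h2 : powComm p E1 = powComm p I := le_antisymm
      (powComm_sup_central hE1I hW1p (fun i hi v hv => (hW1c v hv i (hI ▸ hi : i ∈ E ⊓ E1).2).symm)
        (fun a ha b hb => hW1c a ha b (hW1E1 hb)))
      (powComm_mono p (hI ▸ inf_le_right))
    have hgP : ∀ z ∈ powComm p E, g * z * g⁻¹ ∈ powComm p E := by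
      intro z hz
      have := conj_mem_powComm (p := p) (F := E1) (g := g)
        (fun e he => (hE1mem _).2 (by simpa [mul_assoc] using he)) z hz
      rwa [h2, ← h1] at this
    have hDn : (powComm p E).Normal := by
      rw [← Subgroup.normalizer_eq_top_iff]
      exact eq_of_prime_index h.iN
        (le_normalizer_of_conj fun n hn => conj_mem_powComm (hNE n hn))
        (Subgroup.mem_normalizer_fintype hgP) hgN
    have hDbot : powComm p E = ⊥ := by
      refine h.inv _ (powComm_le p E) hDn (fun a _ e he => ?_) (Or.inr le_rfl)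
      have : powComm p E ≤ ((powComm p E).subgroupOf E |>.comap a.toMonoidHom).map E.subtype := by
        nth_rw 1 [powComm]
        rw [Subgroup.closure_le]
        rintro z (⟨x, hx, rfl⟩ | ⟨x, hx, y, hy, rfl⟩)
        · refine ⟨⟨x, hx⟩ ^ p, ?_, by simp⟩
          show (a (⟨x, hx⟩ ^ p) : Y) ∈ powComm p E
          rw [map_pow]
          exact Subgroup.subset_closure (Or.inl ⟨_, (a ⟨x, hx⟩).2, by simp⟩)
        · refine ⟨⁅(⟨x, hx⟩ : E), ⟨y, hy⟩⁆, ?_, by simp [commutatorElement_def]⟩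
          show (a ⁅(⟨x, hx⟩ : E), ⟨y, hy⟩⁆ : Y) ∈ powComm p E
          rw [map_commutatorElement]
          exact Subgroup.subset_closure (Or.inr ⟨_, (a ⟨x, hx⟩).2, _, (a ⟨y, hy⟩).2,
            by simp [commutatorElement_def]⟩)
      obtain ⟨f, hf, hfe⟩ := this he
      rw [show e = f from Subtype.ext hfe.symm]
      exact hf
    refine ⟨fun a ha b hb => ?_, fun e he => ?_, ⟨I, hI ▸ inf_le_left, hIE, fun i hi n hn => ?_⟩,
      ⟨u, huN, huE, hW1p u huW1⟩⟩
    · have : ⁅a, b⁆ ∈ powComm p E := Subgroup.subset_closure (Or.inr ⟨a, ha, b, hb, rfl⟩)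
      rw [hDbot, Subgroup.mem_bot, commutatorElement_eq_one_iff_mul_comm] at this
      exact this
    · have : e ^ p ∈ powComm p E := Subgroup.subset_closure (Or.inl ⟨e, he, rfl⟩)
      rwa [hDbot, Subgroup.mem_bot] at this
    · obtain ⟨e, he, v, hv, rfl⟩ := hNd n hn
      rw [hI] at hi
      have hce : Commute e i := by
        have : ⁅e, i⁆ ∈ powComm p E := Subgroup.subset_closure (Or.inr ⟨e, he, i, hi.1, rfl⟩)
        rw [hDbot, Subgroup.mem_bot, commutatorElement_eq_one_iff_mul_comm] at this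
        exact this
      exact (hce.mul_left (hW1c v hv i hi.2)).eq
  · -- all conjugates of `W` lie in `E`: four dimensions
    exfalso
    push Not at hA
    obtain ⟨g, w, hw, hgw⟩ : ∃ g : Y, ∃ w ∈ W, g * w * g⁻¹ ∉ W := by
      by_contra hcon
      push Not at hcon
      have hWn : W.Normal := ⟨fun w hw g => hcon g w hw⟩
      obtain ⟨C, hC⟩ : ∃ C : Subgroup Y, C = N ⊓ Subgroup.centralizer (W : Set Y) := ⟨_, rfl⟩
      haveI := hWn
      have hCn : C.Normal := by rw [hC]; infer_instance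
      have hEC : E ≤ C := fun e he => hC ▸ Subgroup.mem_inf.2 ⟨h.le he,
        Subgroup.mem_centralizer_iff.2 fun w hw => hWc w hw e he⟩
      have hCE : C = E := by
        refine le_antisymm ?_ hEC
        have h1 : E.relIndex C ∣ p := ⟨_, (h.rel.symm.trans
          (Subgroup.relIndex_mul_relIndex E C N hEC (hC ▸ inf_le_left)).symm)⟩
        rcases (Nat.dvd_prime hp.out).1 h1 with e | e
        · exact Subgroup.relIndex_eq_one.1 e
        · exfalso
          have h2 := Subgroup.relIndex_mul_relIndex E C N hEC (hC ▸ inf_le_left)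
          rw [e, h.rel] at h2
          have h3 := Subgroup.relIndex_eq_one.1 ((mul_eq_left₀ hp.out.ne_zero).1 h2)
          exact hWnc fun w hw n hn =>
            (Subgroup.mem_centralizer_iff.1 (hC ▸ h3 hn : n ∈ N ⊓ _).2 w hw).symm
      have h4 := h.nor
      rw [← hCE, Subgroup.normalizer_eq_top] at h4
      have := h.iN
      rw [← h4, Subgroup.index_top] at this
      exact hp.out.ne_one this.symm
    obtain ⟨W1, hW1⟩ : ∃ W1 : Subgroup Y, W1 = W.map (MulAut.conj g).toMonoidHom := ⟨_, rfl⟩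
    have hW1E : W1 ≤ E := by
      rw [hW1]
      rintro _ ⟨x, hx, rfl⟩
      exact hA g x hx
    have hgN : g ∉ N := fun hg => hgw (hWN g hg w hw)
    have hW1c : ∀ v ∈ W1, ∀ x ∈ W, v * x = x * v := fun v hv x hx => (hWc x hx v (hW1E hv)).symm
    have hW1W1 : ∀ v ∈ W1, ∀ u ∈ W1, v * u = u * v := by
      rw [hW1]
      rintro _ ⟨a, ha, rfl⟩ _ ⟨b, hb, rfl⟩
      rw [← map_mul, ← map_mul, hWc a ha b (hWE hb)]
    have hW1p : ∀ v ∈ W1, v ^ p = 1 := by
      rw [hW1]
      rintro _ ⟨a, ha, rfl⟩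
      rw [← map_pow, hWp a ha, map_one]
    have hgw1 : g * w * g⁻¹ ∈ W1 := hW1 ▸ ⟨w, hw, rfl⟩
    -- some element of `W1` is not central in `E`
    obtain ⟨d, hd, e0, he0, hne⟩ : ∃ d ∈ W1, ∃ e ∈ E, d * e ≠ e * d := by
      by_contra hcon
      push Not at hcon
      obtain ⟨e, he, hge⟩ := h.not_normal hgN
      obtain ⟨C, hC⟩ : ∃ C : Subgroup Y, C = N ⊓ Subgroup.centralizer (W1 : Set Y) := ⟨_, rfl⟩
      have hgeC : g * e * g⁻¹ ∈ C := by
        rw [hC]
        refine ⟨h.nN.conj_mem e (h.le he) g, Subgroup.mem_centralizer_iff.2 ?_⟩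
        rw [hW1]
        rintro _ ⟨x, hx, rfl⟩
        show g * x * g⁻¹ * (g * e * g⁻¹) = g * e * g⁻¹ * (g * x * g⁻¹)
        calc _ = g * (x * e) * g⁻¹ := by group
          _ = g * (e * x) * g⁻¹ := by rw [hWc x hx e he]
          _ = _ := by group
      have hNd := exists_decomp_of_prime h.le h.rel hEN (h.nN.conj_mem e (h.le he) g) hge
        (hC ▸ inf_le_left : C ≤ N) hgeC
      refine hWnc fun x hx n hn => ?_
      obtain ⟨f, hf, v, hv, hfv⟩ := hNd _ (h.nN.conj_mem n hn g)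
      have c1 : Commute f (g * x * g⁻¹) := (hcon _ (hW1 ▸ ⟨x, hx, rfl⟩) f hf).symm
      have c2 : Commute v (g * x * g⁻¹) :=
        (Subgroup.mem_centralizer_iff.1 (hC ▸ hv : v ∈ N ⊓ _).2 _ (hW1 ▸ ⟨x, hx, rfl⟩)).symm
      have c3 := (c1.mul_left c2).eq
      rw [← hfv] at c3
      calc n * x = g⁻¹ * (g * n * g⁻¹ * (g * x * g⁻¹)) * g := by group
        _ = g⁻¹ * (g * x * g⁻¹ * (g * n * g⁻¹)) * g := by rw [c3]
        _ = x * n := by group
    -- orders
    have hpos : ∀ {A B : Subgroup Y}, A < B → Nat.card A * p ≤ Nat.card B := by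
      intro A B hlt
      obtain ⟨a, ha⟩ := (h.pY.to_subgroup A).exists_card_eq
      obtain ⟨b, hb⟩ := (h.pY.to_subgroup B).exists_card_eq
      rw [ha, hb, ← pow_succ]
      refine Nat.pow_le_pow_right hp.out.pos ?_
      have hne : Nat.card A < Nat.card B := lt_of_le_of_ne (Subgroup.card_le_of_le hlt.le)
        fun e => hlt.ne (Subgroup.eq_of_le_of_card_ge hlt.le e.ge)
      rw [ha, hb, Nat.pow_lt_pow_iff_right hp.out.one_lt] at hne
      exact hne
    obtain ⟨D1, hD1⟩ : ∃ D1 : Subgroup Y, D1 = Subgroup.closure ((W : Set Y) ∪ W1) := ⟨_, rfl⟩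
    have hD1c : ∀ a ∈ D1, ∀ b ∈ D1, a * b = b * a := by
      rw [hD1]
      exact fun a ha b hb => closure_comm (by
        rintro x (hx | hx) y (hy | hy)
        exacts [hWc x hx y (hWE hy), (hW1c y hy x hx).symm, hW1c x hx y hy,
          hW1W1 x hx y hy]) ha hb
    have hD1p : ∀ a ∈ D1, a ^ p = 1 := by
      intro a ha
      rw [hD1] at ha hD1c
      induction ha using Subgroup.closure_induction with
      | mem x hx => exact hx.elim (hWp x) (hW1p x)
      | one => exact one_pow p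
      | mul x y hx hy ihx ihy => rw [Commute.mul_pow (hD1c x hx y hy), ihx, ihy, mul_one]
      | inv x _ ihx => rw [inv_pow, ihx, inv_one]
    have hlt1 : W < D1 := lt_of_le_of_ne (hD1 ▸ fun x hx => Subgroup.subset_closure (Or.inl hx))
      fun e => hgw (e ▸ hD1 ▸ Subgroup.subset_closure (Or.inr hgw1))
    have hlt0 : Z < W := lt_of_le_of_ne hZW fun e => hWnc fun x hx n hn =>
      ((hZmem x).1 (e ▸ hx)).2.2 n hn
    have hWcard := hpos hlt1
    have hD1card := h.rank D1 hD1c hD1p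
    have hZcard' := hpos hlt0
    obtain ⟨kz, hkz⟩ := (h.pY.to_subgroup Z).exists_card_eq
    obtain ⟨kw, hkw⟩ := (h.pY.to_subgroup W).exists_card_eq
    have hkz0 : kz ≠ 0 := fun e => hZ1 (Subgroup.eq_bot_of_card_eq _ (by rw [hkz, e, pow_zero]))
    have e1 : kz + 1 ≤ kw := (Nat.pow_le_pow_iff_right hp.out.one_lt).1 (by
      rw [pow_succ, ← hkz, ← hkw]; exact hZcard')
    have e2 : kw + 1 ≤ 3 := (Nat.pow_le_pow_iff_right hp.out.one_lt).1 (by
      rw [pow_succ, ← hkw]; exact hWcard.trans hD1card)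
    have hW2 : Nat.card W = p ^ 2 := by rw [hkw]; congr 1; omega
    have hZp : Nat.card Z = p := by rw [hkz, show kz = 1 by omega, pow_one]
    have hcm := comm_mem_of_card_sq h.pY hWN hZW hW2 hZp
      fun n hn z hz => ((hZmem z).1 hz).2.2 n hn
    have hcm1 : ∀ n ∈ N, ∀ v ∈ W1, n * v * n⁻¹ * v⁻¹ ∈ Z := by
      rw [hW1]
      rintro n hn _ ⟨x, hx, rfl⟩
      have h1 := hZn.conj_mem _ (hcm (g⁻¹ * n * g) (by simpa using h.nN.conj_mem n hn g⁻¹) x hx) g
      show n * (g * x * g⁻¹) * n⁻¹ * (g * x * g⁻¹)⁻¹ ∈ Z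
      convert h1 using 1
      group
    obtain ⟨a, ha, z0, hz0, haz⟩ : ∃ a ∈ 𝒜, ∃ e : E, (e : Y) ∈ Z ∧ (a e : Y) ∉ Z := by
      by_contra hcon
      push Not at hcon
      have hle : W ≤ Z := by
        rw [hW, Subgroup.closure_le]
        rintro _ ⟨a, ha, e, he, rfl⟩
        exact hcon a ha e he
      exact hlt0.not_ge hle
    have hmeet : ∀ e : E, (e : Y) ∈ Z → (a e : Y) ∈ Z → e = 1 := by
      intro e he hae
      by_contra he1
      obtain ⟨Z', hZ'⟩ : ∃ Z' : Subgroup E, Z' = Z.subgroupOf E := ⟨_, rfl⟩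
      have hcard : Nat.card Z' = p := by
        rw [hZ', Nat.card_congr (Subgroup.subgroupOfEquivOfLe hZE).toEquiv, hZp]
      have hord : orderOf e = p := orderOf_eq_prime (Subtype.ext ((hZmem _).1 he).2.1) he1
      have hgen : Subgroup.zpowers e = Z' := Subgroup.eq_of_le_of_card_ge
        (Subgroup.zpowers_le.2 (hZ' ▸ he)) (by rw [hcard, Nat.card_zpowers, hord])
      obtain ⟨m, hm⟩ := Subgroup.mem_zpowers_iff.1
        (hgen.ge (show z0 ∈ Z' by rw [hZ']; exact hz0))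
      refine haz ?_
      rw [← hm, map_zpow, Subgroup.coe_zpow]
      exact Z.zpow_mem hae m
    -- the second conjugate
    obtain ⟨d', hd'⟩ : ∃ d' : E, d' = a ⟨d, hW1E hd⟩ := ⟨_, rfl⟩
    obtain ⟨M, hMmem⟩ : ∃ M : Subgroup Y, ∀ x, x ∈ M ↔ x ∈ E ∧ ∀ e ∈ E, e * x * e⁻¹ * x⁻¹ ∈ Z :=
      ⟨{ carrier := {x | x ∈ E ∧ ∀ e ∈ E, e * x * e⁻¹ * x⁻¹ ∈ Z}
         one_mem' := ⟨E.one_mem, fun e _ => by simp⟩
         mul_mem' := fun {x y} hx hy => ⟨E.mul_mem hx.1 hy.1, fun e he => by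
           rw [show e * (x * y) * e⁻¹ * (x * y)⁻¹
             = e * x * e⁻¹ * x⁻¹ * (x * (e * y * e⁻¹ * y⁻¹) * x⁻¹) by group]
           exact Z.mul_mem (hx.2 e he) (hZn.conj_mem _ (hy.2 e he) x)⟩
         inv_mem' := fun {x} hx => ⟨E.inv_mem hx.1, fun e he => by
           rw [show e * x⁻¹ * e⁻¹ * x⁻¹⁻¹ = x⁻¹ * (e * x * e⁻¹ * x⁻¹)⁻¹ * x⁻¹⁻¹ by group]
           exact hZn.conj_mem _ (Z.inv_mem (hx.2 e he)) _⟩ }, fun x => Iff.rfl⟩
    have hD1M : D1 ≤ M := by
      rw [hD1, Subgroup.closure_le]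
      rintro x (hx | hx)
      · exact (hMmem x).2 ⟨hWE hx, fun e he => hcm e (h.le he) x hx⟩
      · exact (hMmem x).2 ⟨hW1E hx, fun e he => hcm1 e (h.le he) x hx⟩
    have hd'M : (d' : Y) ∉ M := by
      intro hmem
      obtain ⟨e1', he1'⟩ : ∃ e1' : E, e1' = a ⟨e0, he0⟩ := ⟨_, rfl⟩
      have h1 := ((hMmem _).1 hmem).2 e1' e1'.2
      have h2 : e0 * d * e0⁻¹ * d⁻¹ ∈ Z := hcm1 e0 (h.le he0) d hd
      obtain ⟨cz, hcz⟩ : ∃ cz : E, cz = ⟨e0, he0⟩ * ⟨d, hW1E hd⟩ * ⟨e0, he0⟩⁻¹ * ⟨d, hW1E hd⟩⁻¹ :=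
        ⟨_, rfl⟩
      have h3 : cz = 1 := hmeet cz (by rw [hcz]; exact h2) (by
        rw [hcz, map_mul, map_mul, map_mul, map_inv, map_inv, ← hd', ← he1']
        exact h1)
      have h4 := congrArg Subtype.val (hcz.symm.trans h3)
      simp only [Subgroup.coe_mul, Subgroup.coe_inv, OneMemClass.coe_one] at h4
      exact hne (by
        calc d * e0 = (e0 * d * e0⁻¹ * d⁻¹)⁻¹ * (e0 * d) := by group
          _ = e0 * d := by rw [h4, inv_one, one_mul])
    have hdd' : d * d' = d' * d := by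
      obtain ⟨f, hf⟩ := a.surjective ⟨d, hW1E hd⟩
      obtain ⟨cz, hcz⟩ : ∃ cz : E, cz = f * ⟨d, hW1E hd⟩ * f⁻¹ * ⟨d, hW1E hd⟩⁻¹ := ⟨_, rfl⟩
      have h1 : (d : Y) * d' * d⁻¹ * (d' : Y)⁻¹ ∈ Z := by
        have h5 := hcm1 (d' : Y) (h.le d'.2) d hd
        rw [show (d : Y) * d' * d⁻¹ * (d' : Y)⁻¹ = ((d' : Y) * d * (d' : Y)⁻¹ * d⁻¹)⁻¹ by group]
        exact Z.inv_mem h5
      have h3 : cz = 1 := hmeet cz (by rw [hcz]; exact hcm1 (f : Y) (h.le f.2) d hd) (by
        rw [hcz, map_mul, map_mul, map_mul, map_inv, map_inv, ← hd', hf]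
        exact h1)
      have h4 := congrArg a (hcz.symm.trans h3)
      rw [map_mul, map_mul, map_mul, map_inv, map_inv, ← hd', hf, map_one] at h4
      have h6 := congrArg Subtype.val h4
      simp only [Subgroup.coe_mul, Subgroup.coe_inv, OneMemClass.coe_one] at h6
      calc d * (d' : Y) = d * d' * d⁻¹ * (d' : Y)⁻¹ * (d' * d) := by group
        _ = d' * d := by rw [h6, one_mul]
    obtain ⟨D, hD⟩ : ∃ D : Subgroup Y,
        D = Subgroup.closure ((W : Set Y) ∪ {d, (d' : Y)}) := ⟨_, rfl⟩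
    have hDc : ∀ x ∈ D, ∀ y ∈ D, x * y = y * x := by
      rw [hD]
      refine fun x hx y hy => closure_comm ?_ hx hy
      intro x hx y hy
      simp only [Set.mem_union, Set.mem_insert_iff, Set.mem_singleton_iff, SetLike.mem_coe] at hx hy
      rcases hx with hx | hx | hx <;> rcases hy with hy | hy | hy
      exacts [hWc x hx y (hWE hy), hy ▸ hWc x hx _ (hW1E hd), hy ▸ hWc x hx _ d'.2,
        hx ▸ (hWc y hy _ (hW1E hd)).symm, by rw [hx, hy], by rw [hx, hy]; exact hdd',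
        hx ▸ (hWc y hy _ d'.2).symm, by rw [hx, hy]; exact hdd'.symm, by rw [hx, hy]]
    have hd'p : (d' : Y) ^ p = 1 := by
      have h1 : (⟨d, hW1E hd⟩ : E) ^ p = 1 := Subtype.ext (hW1p d hd)
      rw [← Subgroup.coe_pow, hd', ← map_pow, h1, map_one]
      rfl
    have hDp : ∀ x ∈ D, x ^ p = 1 := by
      intro x hx
      rw [hD] at hx hDc
      induction hx using Subgroup.closure_induction with
      | mem x hx =>
        rcases hx with hx | rfl | rfl
        exacts [hWp x hx, hW1p x hd, hd'p]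
      | one => exact one_pow p
      | mul x y hx hy ihx ihy => rw [Commute.mul_pow (hDc x hx y hy), ihx, ihy, mul_one]
      | inv x _ ihx => rw [inv_pow, ihx, inv_one]
    obtain ⟨D0, hD0⟩ : ∃ D0 : Subgroup Y, D0 = W ⊔ Subgroup.zpowers d := ⟨_, rfl⟩
    have hl1 : W < D0 := lt_of_le_of_ne (hD0 ▸ le_sup_left) fun e => hne
      (hWc d (e ▸ hD0 ▸ Subgroup.mem_sup_right (Subgroup.mem_zpowers d)) e0 he0)
    have hD0D1 : D0 ≤ D1 := by
      rw [hD0, hD1]
      refine sup_le (fun x hx => Subgroup.subset_closure (Or.inl hx))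
        (Subgroup.zpowers_le.2 (Subgroup.subset_closure (Or.inr hd)))
    have hl2 : D0 < D := lt_of_le_of_ne (by
      rw [hD0, hD]
      refine sup_le (fun x hx => Subgroup.subset_closure (Or.inl hx))
        (Subgroup.zpowers_le.2 (Subgroup.subset_closure (Or.inr (Or.inl rfl)))))
      fun e => hd'M (hD1M (hD0D1 (e ▸ hD ▸ Subgroup.subset_closure (Or.inr (Or.inr rfl)))))
    have h5 := h.rank D hDc hDp
    have h6 := (Nat.mul_le_mul_right p (hpos hl1)).trans ((hpos hl2).trans h5)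
    rw [hW2, mul_assoc, ← sq, ← pow_add] at h6
    have := (Nat.pow_le_pow_iff_right hp.out.one_lt).1 h6
    omega

end CoreHyp

end CfsgLib.RankThree
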