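import Cfsg.Agent.Lib.Fusion.TransvectionCube

/-!
Automorphism groups of an elementary abelian group of order `p ^ 3`: with a strongly `p`-embedded
subgroup the `p`-subgroups have order at most `p`; two unipotent elements with a common fixed line
and different planes give transvections and a torus.
-/

set_option autoImplicit false
set_option linter.style.haveILetI false

namespace CfsgLib.RankThree

open CfsgLib.TransvectionCube CfsgLib.Fusion.Transvections

variable {V : Type*} [CommGroup V] [Finite V] {p : ℕ} [hp : Fact p.Prime]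

/-- A `p`-group of automorphisms fixes a point of order `p` of a nontrivial abelian `p`-group. -/
theorem exists_fixed {T Q : Type*} [Group T] [Group Q] [Finite Q] (ρ : T →* MulAut Q)
    (hT : IsPGroup p T) (hQ : IsPGroup p Q) (hne : Nontrivial Q) :
    ∃ x : Q, x ≠ 1 ∧ x ^ p = 1 ∧ ∀ t, ρ t x = x := by
  classical
  obtain ⟨k, hk⟩ := hQ.exists_card_eq
  have hk0 : k ≠ 0 := fun e => by
    rw [e, pow_zero, Nat.card_eq_one_iff_unique] at hk
    exact (not_subsingleton Q) hk.1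
  letI : MulAction T Q :=
    { smul := fun t x => ρ t x
      one_smul := fun x => by show ρ 1 x = x; rw [map_one]; rfl
      mul_smul := fun s t x => by show ρ (s * t) x = ρ s (ρ t x); rw [map_mul]; rfl }
  obtain ⟨x, hx, hx1⟩ := hT.exists_fixed_point_of_prime_dvd_card_of_fixed_point Q
    (hk ▸ dvd_pow_self p hk0) (a := 1) (fun t => map_one (ρ t))
  obtain ⟨j, hj⟩ := hQ x
  classical
  have hex : ∃ j : ℕ, x ^ p ^ j = 1 := ⟨j, hj⟩
  obtain ⟨i, hi⟩ : ∃ i, Nat.find hex = i + 1 := by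
    refine ⟨Nat.find hex - 1, (Nat.sub_add_cancel ?_).symm⟩
    rw [Nat.one_le_iff_ne_zero]
    intro e
    have := Nat.find_spec hex
    rw [e, pow_zero, pow_one] at this
    exact hx1 this.symm
  refine ⟨x ^ p ^ i, ?_, ?_, fun t => by rw [map_pow, show ρ t x = x from hx t]⟩
  · exact Nat.find_min hex (by omega)
  · rw [← pow_mul, ← pow_succ, ← hi]
    exact Nat.find_spec hex

/-- With a strongly `p`-embedded subgroup the `p`-subgroups have order at most `p`. -/
theorem card_le_of_strong (hV : IsPGroup p V) (hcard : Nat.card V = p ^ 3)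
    (G : Subgroup (MulAut V)) (hG : ∃ H : Subgroup G, Cfsg.IsStronglyPEmbedded p H)
    (T : Subgroup (MulAut V)) (hTG : T ≤ G) (hT : IsPGroup p T) : Nat.card T ≤ p := by
  classical
  haveI := finite_aut (V := V)
  have hpp := hp.out
  have hone : 1 < Nat.card V := by rw [hcard]; exact Nat.one_lt_pow (by norm_num) hpp.one_lt
  haveI : Nontrivial V := Finite.one_lt_card_iff_nontrivial.1 hone
  obtain ⟨z, hz1, hzp, hzf⟩ := exists_fixed T.subtype hT hV inferInstance
  obtain ⟨c, hc⟩ : ∃ c : Subgroup V, c = Subgroup.zpowers z := ⟨_, rfl⟩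
  have hcc : Nat.card c = p := by rw [hc, Nat.card_zpowers, orderOf_eq_prime hzp hz1]
  have hcfix : ∀ t ∈ T, ∀ x ∈ c, t x = x := by
    intro t ht x hx
    rw [hc] at hx
    obtain ⟨i, rfl⟩ := Subgroup.mem_zpowers_iff.1 hx
    rw [map_zpow, show t z = z from hzf ⟨t, ht⟩]
  have hcmap : ∀ t : T, c.map ((t : MulAut V)).toMonoidHom = c := fun t => by
    ext y
    constructor
    · rintro ⟨x, hx, rfl⟩
      show (t : MulAut V) x ∈ c
      rw [hcfix t t.2 x hx]
      exact hx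
    · exact fun hy => ⟨y, hy, hcfix t t.2 y hy⟩
  let ρ : T →* MulAut (V ⧸ c) :=
    { toFun := fun t => QuotientGroup.congr c c (t : MulAut V) (hcmap t)
      map_one' := by
        ext x
        induction x using QuotientGroup.induction_on with | _ x => rfl
      map_mul' := fun s t => by
        ext x
        induction x using QuotientGroup.induction_on with | _ x => rfl }
  have hqc : Nat.card (V ⧸ c) = p ^ 2 := by
    have := c.card_eq_card_quotient_mul_card_subgroup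
    rw [hcard, hcc, pow_succ] at this
    exact (Nat.eq_of_mul_eq_mul_right hpp.pos this).symm
  have hqn : Nontrivial (V ⧸ c) := Finite.one_lt_card_iff_nontrivial.1
    (by rw [hqc]; exact Nat.one_lt_pow (by norm_num) hpp.one_lt)
  obtain ⟨ā, hā1, hāp, hāf⟩ := exists_fixed ρ hT (hV.to_quotient c) hqn
  obtain ⟨A, hA⟩ : ∃ A : Subgroup V,
      A = (Subgroup.zpowers ā).comap (QuotientGroup.mk' c) := ⟨_, rfl⟩
  have hcA : c ≤ A := fun x hx => by
    rw [hA, Subgroup.mem_comap, QuotientGroup.mk'_apply, (QuotientGroup.eq_one_iff x).2 hx]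
    exact Subgroup.one_mem _
  have hAi : A.index = p := by
    rw [hA, Subgroup.index_comap_of_surjective _ (QuotientGroup.mk'_surjective c)]
    have h := (Subgroup.zpowers ā).index_mul_card
    rw [hqc, Nat.card_zpowers, orderOf_eq_prime hāp hā1, sq] at h
    exact Nat.eq_of_mul_eq_mul_right hpp.pos h
  have hAd : ∀ t ∈ T, ∀ x ∈ A, x⁻¹ * t x ∈ c := by
    intro t ht x hx
    rw [hA, Subgroup.mem_comap] at hx
    obtain ⟨i, hi⟩ := Subgroup.mem_zpowers_iff.1 hx
    refine QuotientGroup.eq.1 ?_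
    show (QuotientGroup.mk' c x) = ρ ⟨t, ht⟩ (QuotientGroup.mk' c x)
    rw [← hi, map_zpow, hāf]
  obtain ⟨v, hv⟩ : ∃ v, v ∉ A := by
    by_contra hcon
    push Not at hcon
    have : A = ⊤ := eq_top_iff.2 fun x _ => hcon x
    rw [this, Subgroup.index_top] at hAi
    exact hpp.one_lt.ne hAi
  have hAv : ∀ t ∈ T, v⁻¹ * t v ∈ A := by
    -- `T` fixes the image of `v` in the quotient of order `p`
    intro t ht
    have hTA : ∀ x ∈ A, t x ∈ A := fun x hx => by
      have := A.mul_mem hx (hcA (hAd t ht x hx))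
      rwa [mul_inv_cancel_left] at this
    obtain ⟨n, hn⟩ := hT ⟨t, ht⟩
    obtain ⟨i, a, ha, hi⟩ := exists_decomp hAi hv (t v)
    have hit : ∀ k : ℕ, ∃ a ∈ A, (t ^ k) v = v ^ (i ^ k) * a := by
      intro k
      induction k with
      | zero => exact ⟨1, A.one_mem, by simp⟩
      | succ k ih =>
        obtain ⟨b, hb, hbv⟩ := ih
        refine ⟨a ^ (i ^ k) * t b, A.mul_mem (A.zpow_mem ha _) (hTA b hb), ?_⟩
        rw [pow_succ', MulAut.mul_apply, hbv, map_mul, map_zpow, hi, mul_zpow, ← zpow_mul,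
          ← pow_succ', mul_assoc]
    obtain ⟨b, hb, hbv⟩ := hit (p ^ n)
    have htn : t ^ p ^ n = 1 := congrArg Subtype.val hn
    rw [htn, MulAut.one_apply] at hbv
    have hvA : v ^ (i ^ p ^ n - 1) ∈ A := by
      rw [zpow_sub, zpow_one]
      have : v ^ (i ^ p ^ n) = v * b⁻¹ := eq_mul_inv_of_mul_eq hbv.symm
      rw [this, mul_comm v, mul_inv_cancel_right]
      exact A.inv_mem hb
    obtain ⟨d, hd⟩ : (p : ℤ) ∣ i - 1 := by
      by_contra hnd
      have h1 : ¬ (p : ℤ) ∣ i ^ p ^ n - 1 := by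
        intro h
        apply hnd
        rw [← ZMod.intCast_zmod_eq_zero_iff_dvd] at h ⊢
        push_cast at h ⊢
        rwa [ZMod.pow_card_pow] at h
      have h2 : Int.gcd (i ^ p ^ n - 1) p = 1 := by
        rw [Int.gcd_comm]
        exact Int.isCoprime_iff_gcd_eq_one.1
          ((Prime.coprime_iff_not_dvd (Nat.prime_iff_prime_int.1 hpp)).2 h1)
      have hvp : v ^ (p : ℤ) ∈ A := by
        rw [zpow_natCast, ← hAi]
        exact Subgroup.pow_index_mem A v
      obtain ⟨x, y, hxy⟩ := Int.isCoprime_iff_gcd_eq_one.2 h2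
      refine hv ?_
      have := A.mul_mem (A.zpow_mem hvA x) (A.zpow_mem hvp y)
      rw [← zpow_mul, ← zpow_mul, ← zpow_add, show (i ^ p ^ n - 1) * x + (p : ℤ) * y = 1 by
        linear_combination hxy, zpow_one] at this
      exact this
    rw [hi, show i = 1 + (p : ℤ) * d by omega, zpow_add, zpow_one, mul_assoc, inv_mul_cancel_left,
      zpow_mul, zpow_natCast]
    refine A.mul_mem (A.zpow_mem ?_ d) ha
    rw [← hAi]
    exact Subgroup.pow_index_mem A v
  by_contra hlt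
  push Not at hlt
  -- a transvection in `T`
  obtain ⟨s, hs, hs1, hsA, hsd⟩ :
      ∃ s ∈ T, s ≠ 1 ∧ (∀ x ∈ A, s x = x) ∧ v⁻¹ * s v ∈ c := by
    by_contra hcon
    push Not at hcon
    obtain ⟨a₀, ha₀A, ha₀c⟩ : ∃ a₀ ∈ A, a₀ ∉ c := by
      by_contra h
      push Not at h
      have h1 := Subgroup.card_le_of_le (fun x hx => h x hx : A ≤ c)
      have h2 := A.index_mul_card
      rw [hAi, hcard, pow_succ'] at h2
      rw [Nat.eq_of_mul_eq_mul_left hpp.pos h2, hcc] at h1
      exact absurd h1 (not_le.2 (by nth_rw 1 [← pow_one p]; exact Nat.pow_lt_pow_right hpp.one_lt (by norm_num)))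
    have hAgen : ∀ x ∈ A, ∃ i : ℤ, ∃ y ∈ c, x = a₀ ^ i * y := by
      intro x hx
      have hā0 : (a₀ : V ⧸ c) ≠ 1 := fun e => ha₀c ((QuotientGroup.eq_one_iff a₀).1 e)
      rw [hA, Subgroup.mem_comap] at hx ha₀A
      have hgen : Subgroup.zpowers (a₀ : V ⧸ c) = Subgroup.zpowers ā :=
        Subgroup.eq_of_le_of_card_ge (Subgroup.zpowers_le.2 ha₀A) (by
          rw [Nat.card_zpowers, Nat.card_zpowers, orderOf_eq_prime hāp hā1]
          have hp1 : (a₀ : V ⧸ c) ^ p = 1 := by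
            obtain ⟨j, hj⟩ := Subgroup.mem_zpowers_iff.1 ha₀A
            rw [show (a₀ : V ⧸ c) = ā ^ j from hj.symm, ← zpow_natCast, ← zpow_mul,
              mul_comm, zpow_mul, zpow_natCast, hāp, one_zpow]
          rw [orderOf_eq_prime hp1 hā0])
      obtain ⟨i, hi⟩ := Subgroup.mem_zpowers_iff.1 (hgen.ge hx)
      refine ⟨i, (a₀ ^ i)⁻¹ * x, ?_, (mul_inv_cancel_left _ _).symm⟩
      refine QuotientGroup.eq.1 ?_
      rw [QuotientGroup.mk_zpow]
      exact hi
    have hfixA : ∀ t ∈ T, t a₀ = a₀ → ∀ x ∈ A, t x = x := by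
      intro t ht e x hx
      obtain ⟨i, y, hy, rfl⟩ := hAgen x hx
      rw [map_mul, map_zpow, e, hcfix t ht y hy]
    -- the pointwise stabilizer of `A`
    obtain ⟨T₀, hT₀⟩ : ∃ T₀ : Subgroup T, ∀ t, t ∈ T₀ ↔ (t : MulAut V) a₀ = a₀ :=
      ⟨{ carrier := {t | (t : MulAut V) a₀ = a₀}
         one_mem' := rfl
         mul_mem' := fun {x y} hx hy => by
           show (x : MulAut V) ((y : MulAut V) a₀) = a₀
           rw [show (y : MulAut V) a₀ = a₀ from hy, show (x : MulAut V) a₀ = a₀ from hx]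
         inv_mem' := fun {x} hx => by
           show (x : MulAut V)⁻¹ a₀ = a₀
           conv_lhs => rw [← (show (x : MulAut V) a₀ = a₀ from hx)]
           exact MulAut.inv_apply_self _ _ _ }, fun t => Iff.rfl⟩
    -- two injections give the order
    have hf1 : Function.Injective fun t : T₀ =>
        (QuotientGroup.mk (v⁻¹ * ((t : T) : MulAut V) v) : V ⧸ c) := by
      intro x y hxy
      have hx := hfixA _ (x : T).2 ((hT₀ _).1 x.2)
      have hy := hfixA _ (y : T).2 ((hT₀ _).1 y.2)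
      have hd := QuotientGroup.eq.1 hxy
      have key : ((x : T) : MulAut V)⁻¹ * ((y : T) : MulAut V) = 1 := by
        by_contra hne
        refine hcon _ (T.mul_mem (T.inv_mem (x : T).2) (y : T).2) hne (fun z hz => ?_) ?_
        · rw [MulAut.mul_apply, hy z hz]
          conv_lhs => rw [← hx z hz]
          exact MulAut.inv_apply_self _ _ _
        · rw [MulAut.mul_apply]
          obtain ⟨δ, hδ, hy'⟩ : ∃ δ ∈ c, ((y : T) : MulAut V) v = ((x : T) : MulAut V) v * δ :=
            ⟨_, hd, by rw [mul_inv_rev, inv_inv]; group⟩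
          rw [hy', map_mul, MulAut.inv_apply_self, inv_mul_cancel_left]
          have h5 : ((x : T) : MulAut V)⁻¹ δ = δ := by
            conv_lhs => rw [← hcfix _ (x : T).2 δ hδ]
            exact MulAut.inv_apply_self _ _ _
          rw [h5]
          exact hδ
      exact Subtype.ext (Subtype.ext (inv_mul_eq_one.1 key))
    have hr1 : Nat.card T₀ ≤ p := by
      have : ∀ t : T₀, (QuotientGroup.mk (v⁻¹ * ((t : T) : MulAut V) v) : V ⧸ c)
          ∈ Subgroup.zpowers ā := fun t => by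
        have := hAv _ (t : T).2
        rwa [hA, Subgroup.mem_comap] at this
      refine (Nat.card_le_card_of_injective (fun t : T₀ => (⟨_, this t⟩ : Subgroup.zpowers ā))
        fun x y h => hf1 (congrArg Subtype.val h)).trans_eq ?_
      rw [Nat.card_zpowers, orderOf_eq_prime hāp hā1]
    have hr2 : T₀.index ≤ p := by
      rw [← hcc]
      refine Nat.card_le_card_of_injective (Quotient.lift (fun t : T =>
        (⟨a₀⁻¹ * (t : MulAut V) a₀, hAd _ t.2 a₀ ha₀A⟩ : c)) fun x y hxy => ?_) ?_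
      · rw [← Quotient.eq_iff_equiv] at hxy
        have h := (hT₀ _).1 (QuotientGroup.eq.1 hxy)
        refine Subtype.ext ?_
        have h6 := congrArg (x : MulAut V) h
        rw [Subgroup.coe_mul, Subgroup.coe_inv, MulAut.mul_apply, MulAut.apply_inv_self] at h6
        show a₀⁻¹ * _ = a₀⁻¹ * _
        rw [h6]
      · intro a b
        induction a using Quotient.inductionOn with | _ x => ?_
        induction b using Quotient.inductionOn with | _ y => ?_
        intro h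
        have h7 : (x : MulAut V) a₀ = (y : MulAut V) a₀ :=
          mul_left_cancel (congrArg Subtype.val h)
        refine QuotientGroup.eq.2 ((hT₀ _).2 ?_)
        rw [Subgroup.coe_mul, Subgroup.coe_inv, MulAut.mul_apply, ← h7, MulAut.inv_apply_self]
    have hTc : p * p ≤ Nat.card T := by
      obtain ⟨k, hk⟩ := hT.exists_card_eq
      rw [hk] at hlt ⊢
      rw [← sq]
      refine Nat.pow_le_pow_right hpp.pos ?_
      by_contra h
      interval_cases k <;> simp_all [hpp.one_lt.le]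
    have hT₀1 : 1 < Nat.card T₀ := by
      have h := T₀.index_mul_card
      by_contra h1
      have : T₀.index * Nat.card T₀ ≤ p * 1 := Nat.mul_le_mul hr2 (by omega)
      rw [h, mul_one] at this
      exact absurd (hTc.trans this) (not_le.2 (lt_mul_of_one_lt_left hpp.pos hpp.one_lt))
    have hTi : 1 < T₀.index := by
      have h := T₀.index_mul_card
      by_contra h1
      have : T₀.index * Nat.card T₀ ≤ 1 * p := Nat.mul_le_mul (by omega) hr1
      rw [h, one_mul] at this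
      exact absurd (hTc.trans this) (not_le.2 (lt_mul_of_one_lt_left hpp.pos hpp.one_lt))
    -- an element of `T₀` central in `T`
    haveI : Nontrivial T₀ := Finite.one_lt_card_iff_nontrivial.1 hT₀1
    have hT₀n : T₀.Normal := by
      haveI := hT.isNilpotent
      rcases Nat.lt_or_ge T₀.index p with h | h
      · exfalso
        obtain ⟨k, hk⟩ := hT.index T₀
        rw [hk] at h hTi
        rcases k with _ | k
        · simp at hTi
        · exact absurd h (not_lt.2 (Nat.le_self_pow (Nat.succ_ne_zero k) p))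
      · refine Subgroup.normal_of_index_eq_minFac_card ?_
        rw [le_antisymm hr2 h]
        obtain ⟨k, hk⟩ := hT.exists_card_eq
        rw [hk, hpp.pow_minFac]
        rintro rfl
        rw [pow_zero] at hk
        rw [hk] at hTc
        nlinarith [hpp.one_lt]
    obtain ⟨q, hq, hq1⟩ : ∃ q ∈ T₀ ⊓ Subgroup.center T, q ≠ (1 : T) := by
      haveI := hT₀n
      obtain ⟨x, hx1, -, hxf⟩ := exists_fixed (MulAut.conjNormal : T →* MulAut T₀) hT
        (hT.to_subgroup T₀) inferInstance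
      refine ⟨(x : T), Subgroup.mem_inf.2 ⟨x.2, Subgroup.mem_center_iff.2 fun g => ?_⟩,
        fun e => hx1 (Subtype.ext e)⟩
      have h1 := congrArg Subtype.val (hxf g)
      rw [MulAut.conjNormal_apply] at h1
      exact mul_inv_eq_iff_eq_mul.1 h1
    obtain ⟨s, hs⟩ : ∃ s : T, s ∉ T₀ := by
      by_contra h
      push Not at h
      rw [(eq_top_iff.2 fun x _ => h x : T₀ = ⊤), Subgroup.index_top] at hTi
      omega
    -- `q v = v a'` with `a'` moved by `s`
    obtain ⟨hqT, hqc⟩ := Subgroup.mem_inf.1 hq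
    obtain ⟨a', ha'⟩ : ∃ a', a' = v⁻¹ * (q : MulAut V) v := ⟨_, rfl⟩
    have ha'A : a' ∈ A := ha' ▸ hAv _ q.2
    have hqA := hfixA _ q.2 ((hT₀ _).1 hqT)
    have ha'c : a' ∉ c := fun h => hcon _ q.2 (fun e => hq1 (Subtype.ext e)) hqA (ha' ▸ h)
    have hqv : (q : MulAut V) v = v * a' := by rw [ha', mul_inv_cancel_left]
    obtain ⟨δ, hδ⟩ : ∃ δ, δ = v⁻¹ * (s : MulAut V) v := ⟨_, rfl⟩
    have hsv : (s : MulAut V) v = v * δ := by rw [hδ, mul_inv_cancel_left]
    have hc1 : (q : MulAut V) * s = (s : MulAut V) * q :=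
      congrArg Subtype.val (Subgroup.mem_center_iff.1 hqc s).symm
    have h8 := DFunLike.congr_fun hc1 v
    rw [MulAut.mul_apply, MulAut.mul_apply, hsv, hqv, map_mul, map_mul, hqv, hsv,
      hqA δ (hδ ▸ hAv _ s.2), mul_assoc, mul_assoc] at h8
    have h9 := mul_left_cancel h8
    rw [mul_comm a' δ] at h9
    have h10 : (s : MulAut V) a' = a' := (mul_left_cancel h9).symm
    -- so `s` fixes `a'` and then `a₀`
    obtain ⟨i, y, hy, hiy⟩ := hAgen a' ha'A
    have hsa := hAd _ s.2 a₀ ha₀A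
    rw [hiy, map_mul, map_zpow, hcfix _ s.2 y hy, mul_left_inj] at h10
    obtain ⟨η, hη⟩ : ∃ η, η = a₀⁻¹ * (s : MulAut V) a₀ := ⟨_, rfl⟩
    have hη1 : η ^ i = 1 := by
      rw [hη, mul_zpow, h10, inv_zpow, inv_mul_cancel]
    have hηp : η ^ (p : ℤ) = 1 := by
      rw [zpow_natCast]
      exact pow_eq_one_of_card hcc (hη ▸ hsa)
    refine hs ((hT₀ s).2 ?_)
    rcases em ((p : ℤ) ∣ i) with ⟨k, hk⟩ | hk
    · refine absurd ?_ ha'c
      rw [hiy]
      refine c.mul_mem ?_ hy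
      rw [hk, zpow_mul, zpow_natCast]
      refine c.zpow_mem ?_ k
      have : ((a₀ : V ⧸ c)) ^ p = 1 := by
        obtain ⟨j, hj⟩ := Subgroup.mem_zpowers_iff.1 (by
          have := ha₀A
          rwa [hA, Subgroup.mem_comap] at this)
        rw [show (a₀ : V ⧸ c) = ā ^ j from hj.symm, ← zpow_natCast, ← zpow_mul, mul_comm,
          zpow_mul, zpow_natCast, hāp, one_zpow]
      rw [← QuotientGroup.mk_pow] at this
      exact (QuotientGroup.eq_one_iff _).1 this
    · obtain ⟨x, y', hxy⟩ := (Prime.coprime_iff_not_dvd (Nat.prime_iff_prime_int.1 hpp)).2 hk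
      have : η = 1 := by
        rw [← zpow_one η, ← hxy, zpow_add, mul_comm x, zpow_mul, hηp, mul_comm y', zpow_mul, hη1,
          one_zpow, one_zpow, mul_one]
      rw [hη, inv_mul_eq_one] at this
      exact this.symm
  -- every element of `T` is then a transvection with the same centre and axis
  have hd : ∀ x, x⁻¹ * s x ∈ c := diff_mem hAi hv hsA hsd
  obtain ⟨B, hB⟩ := exists_tr hs1 hcc (fun x hx => hsA x (hcA hx)) hd
  obtain ⟨h1, -⟩ := main hV hcard G hG hB (hTG hs)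
  obtain ⟨w, hw⟩ : ∃ w, w ∉ B := by
    by_contra hcon
    push Not at hcon
    exact hB.ne_top (eq_top_iff.2 fun x _ => hcon x)
  refine absurd ((Nat.card_le_card_of_injective
    (fun t : T => (⟨w⁻¹ * (t : MulAut V) w, (h1 T hTG hT hs t t.2).2 w⟩ : c)) ?_).trans_eq hcc)
    (not_le.2 hlt)
  intro x y hxy
  have h2 := mul_left_cancel (congrArg Subtype.val hxy)
  refine Subtype.ext (MulEquiv.ext fun z => ?_)
  obtain ⟨i, b, hb, rfl⟩ := exists_decomp hB.index hw z
  rw [map_mul, map_mul, map_zpow, map_zpow, h2, (h1 T hTG hT hs x x.2).1 b hb,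
    (h1 T hTG hT hs y y.2).1 b hb]

/-- The torus and the transvection. -/
theorem torus (hV : IsPGroup p V) (hcard : Nat.card V = p ^ 3) (hexp : ∀ x : V, x ^ p = 1)
    (hp2 : p ≠ 2) (G : Subgroup (MulAut V))
    (hsyl : ∀ T : Subgroup (MulAut V), T ≤ G → IsPGroup p T → Nat.card T ≤ p)
    {L P P' : Subgroup V} (hL : Nat.card L = p) (hLP : L ≤ P) (hLP' : L ≤ P') (hPi : P.index = p)
    (hP'i : P'.index = p) (hPP' : P ≠ P') {t t' : MulAut V} (htG : t ∈ G) (ht'G : t' ∈ G)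
    (ht : t ∈ seriesStab L P hLP) (ht' : t' ∈ seriesStab L P' hLP')
    (htn : ¬ ∀ x, x⁻¹ * t x ∈ L) (ht'n : ¬ ∀ x, x⁻¹ * t' x ∈ L) :
    ∃ c : Subgroup V, Tr p t c P ∧ c ⊓ L = ⊥ ∧ ∀ r s : ℤ, ((r * s : ℤ) : ZMod p) = 1 →
      ∃ h ∈ G, h * t * h⁻¹ ∈ Subgroup.zpowers t ∧ (∀ l ∈ L, h l = l) ∧
        (∀ x ∈ c, h x = x ^ s) ∧ ∀ x, (x ^ r)⁻¹ * h x ∈ P := by
  classical
  haveI := finite_aut (V := V)
  have hpp := hp.out
  obtain ⟨htL, htP, htd⟩ := mem_seriesStab.1 ht
  obtain ⟨ht'L, ht'P, ht'd⟩ := mem_seriesStab.1 ht'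
  have hcP : ∀ {Q : Subgroup V}, Q.index = p → Nat.card Q = p ^ 2 := by
    intro Q hQ
    have h := Q.index_mul_card
    rw [hQ, hcard, pow_succ'] at h
    exact Nat.eq_of_mul_eq_mul_left hpp.pos h
  have hPle : ¬ P' ≤ P := fun h => hPP' (Subgroup.eq_of_le_of_card_ge h
    (by rw [hcP hPi, hcP hP'i])).symm
  obtain ⟨q, hqP', hqP⟩ := SetLike.not_le_iff_exists.1 hPle
  have hqL : q ∉ L := fun h => hqP (hLP h)
  -- modulo `L`
  obtain ⟨π, hπ⟩ : ∃ π : V →* V ⧸ L, π = QuotientGroup.mk' L := ⟨_, rfl⟩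
  have hπ1 : ∀ x, π x = 1 ↔ x ∈ L := fun x => hπ ▸ QuotientGroup.eq_one_iff x
  have hπeq : ∀ {x y}, π x = π y ↔ x⁻¹ * y ∈ L := by
    intro x y
    rw [hπ]
    exact QuotientGroup.eq
  obtain ⟨p1, hp1⟩ : ∃ p1, p1 = q⁻¹ * t q := ⟨_, rfl⟩
  have hp1P : p1 ∈ P := hp1 ▸ htd q
  have hdec : ∀ {Q : Subgroup V}, Q.index = p → ∀ {w}, w ∉ Q → ∀ x, ∃ i : ℤ, ∃ a ∈ Q, x = w ^ i * a :=
    fun hQ _ hw x => exists_decomp hQ hw x
  have hp1L : p1 ∉ L := by
    intro h
    refine htn fun x => ?_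
    obtain ⟨i, a, ha, rfl⟩ := hdec hPi hqP x
    rw [← hπeq]
    rw [map_mul, map_zpow, map_mul t, map_zpow t, map_mul, map_zpow,
      (hπeq (x := a) (y := t a)).2 (htP a ha), (hπeq (x := q) (y := t q)).2 (hp1 ▸ h)]
  have hgenQ : ∀ {Q : Subgroup V}, Q.index = p → L ≤ Q → ∀ {w}, w ∈ Q → w ∉ L → ∀ x ∈ Q,
      ∃ i : ℤ, π x = π w ^ i := by
    intro Q hQ hLQ w hwQ hwL x hx
    have hmap : Nat.card (Q.map π) = p := by
      have h := (Q.map π).index_mul_card
      rw [hπ, Subgroup.index_map_eq _ (QuotientGroup.mk'_surjective L)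
        (by rw [QuotientGroup.ker_mk']; exact hLQ), hQ, ← hπ] at h
      have h2 := L.card_eq_card_quotient_mul_card_subgroup
      rw [hcard, hL, pow_succ] at h2
      rw [← Nat.eq_of_mul_eq_mul_right hpp.pos h2, sq] at h
      exact Nat.eq_of_mul_eq_mul_left hpp.pos h
    have hord : orderOf (π w) = p := orderOf_eq_prime (by rw [← map_pow, hexp, map_one])
      fun e => hwL ((hπ1 w).1 e)
    have hgen : Subgroup.zpowers (π w) = Q.map π := Subgroup.eq_of_le_of_card_ge
      (Subgroup.zpowers_le.2 ⟨w, hwQ, rfl⟩) (by rw [hmap, Nat.card_zpowers, hord])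
    obtain ⟨i, hi⟩ := Subgroup.mem_zpowers_iff.1 (hgen.ge ⟨x, hx, rfl⟩)
    exact ⟨i, hi.symm⟩
  have hzc : ∀ {y : V ⧸ L} {m n : ℤ}, (m : ZMod p) = n → y ^ m = y ^ n := by
    intro y m n hmn
    obtain ⟨y, rfl⟩ := QuotientGroup.mk'_surjective L y
    obtain ⟨d, hd⟩ := (ZMod.intCast_eq_intCast_iff_dvd_sub m n p).1 hmn
    rw [show n = m + p * d by omega, zpow_add, zpow_mul, zpow_natCast, ← map_pow, hexp, map_one,
      one_zpow, mul_one]
  -- matrices of automorphisms fixing `L`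
  let Acts : MulAut V → ℤ → ℤ → ℤ → ℤ → Prop := fun f a b c d =>
    (∀ l ∈ L, f l = l) ∧ π (f q) = π q ^ a * π p1 ^ b ∧ π (f p1) = π q ^ c * π p1 ^ d
  have hπf : ∀ {f : MulAut V}, (∀ l ∈ L, f l = l) → ∀ {x y}, π x = π y → π (f x) = π (f y) := by
    intro f hf x y h
    rw [hπeq] at h ⊢
    rw [← map_inv, ← map_mul, hf _ h]
    exact h
  have hcomp : ∀ {f g : MulAut V} {a b c d a' b' c' d' : ℤ}, Acts f a b c d → Acts g a' b' c' d' →
      Acts (f * g) (a' * a + b' * c) (a' * b + b' * d) (c' * a + d' * c) (c' * b + d' * d) := by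
    rintro f g a b c d a' b' c' d' ⟨hf, hfq, hfp⟩ ⟨hg, hgq, hgp⟩
    refine ⟨fun l hl => by rw [MulAut.mul_apply, hg l hl, hf l hl], ?_, ?_⟩
    · rw [MulAut.mul_apply, hπf hf (y := q ^ a' * p1 ^ b') (by rw [hgq, map_mul, map_zpow, map_zpow]),
        map_mul f, map_zpow f, map_zpow f, map_mul, map_zpow, map_zpow, hfq, hfp, mul_zpow,
        mul_zpow, ← zpow_mul, ← zpow_mul, ← zpow_mul, ← zpow_mul, mul_mul_mul_comm, ← zpow_add,
        ← zpow_add, mul_comm a a', mul_comm c b', mul_comm b a', mul_comm d b']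
    · rw [MulAut.mul_apply, hπf hf (y := q ^ c' * p1 ^ d') (by rw [hgp, map_mul, map_zpow, map_zpow]),
        map_mul f, map_zpow f, map_zpow f, map_mul, map_zpow, map_zpow, hfq, hfp, mul_zpow,
        mul_zpow, ← zpow_mul, ← zpow_mul, ← zpow_mul, ← zpow_mul, mul_mul_mul_comm, ← zpow_add,
        ← zpow_add, mul_comm a c', mul_comm c d', mul_comm b c', mul_comm d d']
  have hA1 : Acts 1 1 0 0 1 := ⟨fun _ _ => rfl, by simp, by simp⟩
  have hAt : Acts t 1 1 0 1 := by
    refine ⟨htL, ?_, ?_⟩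
    · rw [zpow_one, zpow_one, ← map_mul, hp1, mul_inv_cancel_left]
    · rw [zpow_zero, one_mul, zpow_one, ← hπeq.2 (htP p1 hp1P)]
  obtain ⟨m, hm⟩ := hgenQ hP'i hLP' hqP' hqL _ (ht'd p1)
  have hp1P' : p1 ∉ P' := by
    intro h
    apply hp1L
    obtain ⟨i, hi⟩ := hgenQ hP'i hLP' hqP' hqL p1 h
    by_cases hid : (i : ZMod p) = 0
    · rw [← hπ1, hi, hzc (n := 0) (by rw [hid, Int.cast_zero]), zpow_zero]
    · exfalso
      obtain ⟨j, hj⟩ := ZMod.intCast_surjective ((i : ZMod p)⁻¹)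
      have h2 : π q = π (p1 ^ j) := by
        rw [map_zpow, hi, ← zpow_mul]
        conv_lhs => rw [← zpow_one (π q)]
        exact hzc (by rw [Int.cast_mul, hj, mul_inv_cancel₀ hid, Int.cast_one])
      have h3 := hLP (hπeq.1 h2)
      have h4 := P.mul_mem (P.zpow_mem hp1P j) (P.inv_mem h3)
      rw [mul_inv_rev, inv_inv, mul_inv_cancel_left] at h4
      exact hqP h4
  have hm0 : (m : ZMod p) ≠ 0 := by
    intro e
    refine ht'n fun x => ?_
    rw [← hπeq]
    have h1 : π p1 = π (t' p1) := hπeq.2 ((hπ1 _).1 (by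
      rw [hm, hzc (n := 0) (by rw [e, Int.cast_zero]), zpow_zero]))
    obtain ⟨i, a, ha, rfl⟩ := hdec hP'i hp1P' x
    rw [map_mul t', map_zpow t', map_mul, map_mul, map_zpow, map_zpow,
      (hπeq (x := a) (y := t' a)).2 (ht'P a ha), h1]
  have hAt' : Acts t' 1 0 m 1 := by
    refine ⟨ht'L, ?_, ?_⟩
    · rw [zpow_zero, mul_one, zpow_one]
      exact (hπeq.2 (ht'P q hqP')).symm
    · rw [zpow_one, ← hm, map_mul, map_inv, inv_mul_cancel_comm]
  have hX : ∀ n : ℕ, Acts (t ^ n) 1 n 0 1 := by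
    intro n
    induction n with
    | zero => simpa using hA1
    | succ n ih =>
      have := hcomp hAt ih
      rw [pow_succ']
      simpa [add_comm] using this
  have hY : ∀ n : ℕ, Acts (t' ^ n) 1 0 ((n : ℤ) * m) 1 := by
    intro n
    induction n with
    | zero => simpa using hA1
    | succ n ih =>
      have := hcomp hAt' ih
      rw [pow_succ']
      push_cast
      simpa [add_mul, add_comm] using this
  have hcongr : ∀ {f : MulAut V} {a b c d a' b' c' d' : ℤ}, Acts f a b c d →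
      (a : ZMod p) = a' → (b : ZMod p) = b' → (c : ZMod p) = c' → (d : ZMod p) = d' →
      Acts f a' b' c' d' := by
    rintro f a b c d a' b' c' d' ⟨h1, h2, h3⟩ ea eb ec ed
    exact ⟨h1, by rw [h2, hzc ea, hzc eb], by rw [h3, hzc ec, hzc ed]⟩
  -- the diagonal elements
  have hdiag : ∀ r s : ℤ, ((r * s : ℤ) : ZMod p) = 1 → ∃ h ∈ G, Acts h r 0 0 s ∧
      ∃ k : ℕ, h * t = t ^ k * h ∧ (k : ZMod p) = (s * s : ℤ) := by
    intro r s hrs
    have hL' : ∀ x : ZMod p, ∃ f ∈ G, ∃ z : ℤ, Acts f 1 0 z 1 ∧ (z : ZMod p) = x := fun x =>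
      ⟨t' ^ (x * (m : ZMod p)⁻¹).val, G.pow_mem ht'G _, _, hY _, by
        rw [Int.cast_mul, Int.cast_natCast, ZMod.natCast_val, ZMod.cast_id', id,
          inv_mul_cancel_right₀ hm0]⟩
    have hU : ∀ x : ZMod p, ∃ f ∈ G, ∃ z : ℤ, Acts f 1 z 0 1 ∧ (z : ZMod p) = x := fun x =>
      ⟨t ^ x.val, G.pow_mem htG _, _, hX _, by
        rw [Int.cast_natCast, ZMod.natCast_val, ZMod.cast_id', id]⟩
    obtain ⟨f1, hf1, z1, ha1, e1⟩ := hL' ((s : ZMod p) - 1)
    obtain ⟨f2, hf2, z2, ha2, e2⟩ := hU 1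
    obtain ⟨f3, hf3, z3, ha3, e3⟩ := hL' ((r : ZMod p) - 1)
    obtain ⟨f4, hf4, z4, ha4, e4⟩ := hU (-(s : ZMod p))
    push_cast at hrs
    refine ⟨f4 * (f3 * (f2 * f1)), G.mul_mem hf4 (G.mul_mem hf3 (G.mul_mem hf2 hf1)), ?_⟩
    have hh : Acts (f4 * (f3 * (f2 * f1))) r 0 0 s := by
      refine hcongr (hcomp ha4 (hcomp ha3 (hcomp ha2 ha1))) ?_ ?_ ?_ ?_ <;> push_cast <;>
        simp only [e1, e2, e3, e4]
      · linear_combination (0 : ZMod p)
      · linear_combination (-1 : ZMod p) * hrs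
      · linear_combination hrs
      · linear_combination (-(s : ZMod p)) * hrs
    obtain ⟨h, hh'⟩ : ∃ h, h = f4 * (f3 * (f2 * f1)) := ⟨_, rfl⟩
    have hhG : h ∈ G := hh' ▸ G.mul_mem hf4 (G.mul_mem hf3 (G.mul_mem hf2 hf1))
    rw [← hh'] at hh ⊢
    obtain ⟨k, hk⟩ : ∃ k : ℕ, k = ((s * s : ℤ) : ZMod p).val := ⟨_, rfl⟩
    have hkz : (k : ZMod p) = (s * s : ℤ) := by rw [hk, ZMod.natCast_val, ZMod.cast_id', id]
    refine ⟨hh, k, ?_, hkz⟩
    have e5 := hcongr (hcomp hh hAt) (a' := r) (b' := s) (c' := 0) (d' := s)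
      (by push_cast; ring) (by push_cast; ring) (by push_cast; ring) (by push_cast; ring)
    have e6 := hcongr (hcomp (hX k) hh) (a' := r) (b' := s) (c' := 0) (d' := s)
      (by push_cast; ring) (by
        push_cast
        rw [hkz]
        push_cast
        linear_combination (s : ZMod p) * hrs) (by push_cast; ring) (by push_cast; ring)
    obtain ⟨g, hg⟩ : ∃ g, g = (t ^ k * h)⁻¹ * (h * t) := ⟨_, rfl⟩
    have hgd : ∀ x, x⁻¹ * g x ∈ L := by
      have hall : ∀ x, π ((t ^ k * h) x) = π ((h * t) x) := by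
        intro x
        obtain ⟨i, a, ha, rfl⟩ := hdec hPi hqP x
        obtain ⟨j, hj⟩ := hgenQ hPi hLP hp1P hp1L a ha
        have hj' : π a = π (p1 ^ j) := by rw [hj, map_zpow]
        rw [map_mul (t ^ k * h), map_mul (h * t), map_mul π, map_mul π, map_zpow (t ^ k * h), map_zpow (h * t),
          map_zpow π, map_zpow π, hπf e6.1 hj', hπf e5.1 hj']
        simp only [map_zpow]
        rw [e6.2.1, e6.2.2, e5.2.1, e5.2.2]
      intro x
      rw [← hπeq]
      have hinvL : ∀ l ∈ L, (t ^ k * h)⁻¹ l = l := fun l hl => by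
        conv_lhs => rw [← e6.1 l hl]
        exact MulAut.inv_apply_self _ _ _
      have := hπf (f := (t ^ k * h)⁻¹) hinvL (hall x)
      rwa [MulAut.inv_apply_self, ← MulAut.mul_apply, ← hg] at this
    have hgfix : ∀ l ∈ L, g l = l := fun l hl => by
      rw [hg, MulAut.mul_apply, e5.1 l hl]
      conv_lhs => rw [← e6.1 l hl]
      exact MulAut.inv_apply_self _ _ _
    obtain ⟨T, hT⟩ : ∃ T : Subgroup (MulAut V), T = G ⊓ seriesStab L P hLP := ⟨_, rfl⟩
    have hTc := hsyl T (hT ▸ inf_le_left)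
      (hT ▸ (isPGroup_seriesStab hV L P hLP).to_le inf_le_right)
    have hgT : g ∈ T := hT ▸ ⟨hg ▸ G.mul_mem (G.inv_mem (G.mul_mem (G.pow_mem htG k) hhG))
      (G.mul_mem hhG htG), mem_seriesStab.2 ⟨hgfix, fun x _ => hgd x, fun x => hLP (hgd x)⟩⟩
    have htT : t ∈ T := hT ▸ ⟨htG, ht⟩
    have ht1 : t ≠ 1 := fun e => htn fun x => by simp [e]
    have htord : orderOf t = p := by
      obtain ⟨n, hn⟩ := IsPGroup.iff_orderOf.1 ((isPGroup_seriesStab hV L P hLP)) ⟨t, ht⟩
      rw [Subgroup.orderOf_mk] at hn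
      rcases n with _ | _ | n
      · rw [pow_zero, orderOf_eq_one_iff] at hn; exact absurd hn ht1
      · rw [hn, pow_one]
      · exfalso
        have h1 : orderOf t ≤ Nat.card T := by
          rw [← Nat.card_zpowers]
          exact Subgroup.card_le_of_le (Subgroup.zpowers_le.2 htT)
        rw [hn] at h1
        exact absurd (h1.trans hTc) (not_le.2 (by
          nth_rw 1 [← pow_one p]; exact Nat.pow_lt_pow_right hpp.one_lt (by omega)))
    have hTeq : Subgroup.zpowers t = T := Subgroup.eq_of_le_of_card_ge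
      (Subgroup.zpowers_le.2 htT) (by rw [Nat.card_zpowers, htord]; exact hTc)
    obtain ⟨i, hi⟩ := Subgroup.mem_zpowers_iff.1 (hTeq.ge hgT)
    obtain ⟨n, hn⟩ : ∃ n : ℕ, g = t ^ n := by
      have : g ∈ Submonoid.powers t :=
        (mem_powers_iff_mem_zpowers (x := t)).2 ⟨i, hi⟩
      obtain ⟨n, hn⟩ := this
      exact ⟨n, hn.symm⟩
    have h7 : π (g q) = π q := (hπeq.2 (hgd q)).symm
    rw [hn, (hX n).2.1, zpow_one, mul_eq_left] at h7
    have h8 : orderOf (π p1) = p :=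
      orderOf_eq_prime (by rw [← map_pow, hexp, map_one]) fun e => hp1L ((hπ1 _).1 e)
    rw [zpow_natCast, ← orderOf_dvd_iff_pow_eq_one, h8] at h7
    have hg1 : g = 1 := by
      obtain ⟨d, rfl⟩ := h7
      rw [hn, pow_mul, ← htord, pow_orderOf_eq_one, one_pow]
    rw [hg, inv_mul_eq_one] at hg1
    exact hg1.symm
  -- `t` fixes `P` pointwise
  obtain ⟨l₀, hl₀⟩ : ∃ l, l = p1⁻¹ * t p1 := ⟨_, rfl⟩
  have hl₀L : l₀ ∈ L := hl₀ ▸ htP p1 hp1P
  have htp1 : t p1 = p1 * l₀ := by rw [hl₀, mul_inv_cancel_left]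
  have htn' : ∀ n : ℕ, (t ^ n) p1 = p1 * l₀ ^ n := by
    intro n
    induction n with
    | zero => simp
    | succ n ih => rw [pow_succ', MulAut.mul_apply, ih, map_mul, map_pow, htL _ hl₀L, htp1,
        pow_succ', mul_assoc]
  have hl₀1 : l₀ = 1 := by
    obtain ⟨h, -, hAh, k, hcomm, hk⟩ := hdiag (-1) (-1) (by norm_num)
    obtain ⟨l₁, hl₁, hhp⟩ : ∃ l₁ ∈ L, h p1 = p1⁻¹ * l₁ := by
      refine ⟨p1 * h p1, ?_, by rw [inv_mul_cancel_left]⟩
      rw [← hπ1, map_mul, hAh.2.2, zpow_zero, one_mul, zpow_neg, zpow_one, mul_inv_cancel]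
    have h1 := DFunLike.congr_fun hcomm p1
    rw [MulAut.mul_apply, MulAut.mul_apply, htp1, map_mul, hAh.1 _ hl₀L, hhp, map_mul, map_inv,
      htn', (hX k).1 l₁ hl₁] at h1
    have hk1 : l₀ ^ k = l₀ := by
      have : (k : ZMod p) = 1 := by rw [hk]; norm_num
      rw [← Nat.cast_one, ZMod.natCast_eq_natCast_iff'] at this
      rw [pow_eq_pow_mod k (hexp l₀), this, Nat.mod_eq_of_lt hpp.one_lt, pow_one]
    rw [hk1, mul_inv_rev, mul_comm l₀⁻¹] at h1
    have h2 : l₀ ^ 2 = 1 := by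
      have h4 : l₀ = l₀⁻¹ := mul_left_cancel (a := p1⁻¹ * l₁) (by rw [h1, mul_right_comm])
      rw [sq]
      nth_rw 2 [h4]
      exact mul_inv_cancel l₀
    have h3 := orderOf_dvd_of_pow_eq_one h2
    by_contra hne
    rw [orderOf_eq_prime (hexp l₀) hne] at h3
    exact hp2 ((Nat.prime_dvd_prime_iff_eq hpp Nat.prime_two).1 h3)
  have htPfix : ∀ a ∈ P, t a = a := by
    intro a ha
    obtain ⟨j, hj⟩ := hgenQ hPi hLP hp1P hp1L a ha
    have hl : (p1 ^ j)⁻¹ * a ∈ L := by rw [← hπeq, map_zpow, hj]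
    calc t a = t (p1 ^ j * ((p1 ^ j)⁻¹ * a)) := by rw [mul_inv_cancel_left]
      _ = _ := by rw [map_mul, map_zpow, htp1, hl₀1, mul_one, htL _ hl, mul_inv_cancel_left]
  obtain ⟨c, hc⟩ : ∃ c : Subgroup V, c = Subgroup.zpowers p1 := ⟨_, rfl⟩
  have hp11 : p1 ≠ 1 := fun e => hp1L (e ▸ L.one_mem)
  have hcc : Nat.card c = p := by rw [hc, Nat.card_zpowers, orderOf_eq_prime (hexp p1) hp11]
  have hcP' : c ≤ P := hc ▸ Subgroup.zpowers_le.2 hp1P
  have htr : Tr p t c P := by
    refine ⟨hcP', hcc, hPi, fun x => ⟨fun hx => ?_, htPfix x⟩,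
      diff_mem hPi hqP htPfix (by rw [hc, hp1]; exact Subgroup.mem_zpowers _)⟩
    obtain ⟨i, a, ha, rfl⟩ := hdec hPi hqP x
    rw [map_mul, map_zpow, htPfix a ha, mul_left_inj,
      show t q = q * p1 by rw [hp1, mul_inv_cancel_left], mul_zpow, mul_eq_left] at hx
    have hd := orderOf_dvd_iff_zpow_eq_one.2 hx
    rw [orderOf_eq_prime (hexp p1) hp11] at hd
    obtain ⟨d, rfl⟩ := hd
    rw [zpow_mul, zpow_natCast, hexp, one_zpow, one_mul]
    exact ha
  refine ⟨c, htr, (Subgroup.eq_bot_iff_forall _).2 fun x hx => inf_eq_bot hcc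
    (fun hle => hp1L (hle (hc ▸ Subgroup.mem_zpowers p1))) hx.1 hx.2, fun r s hrs => ?_⟩
  obtain ⟨h, hhG, hAh, k, hcomm, -⟩ := hdiag r s hrs
  have hconj : h * t * h⁻¹ = t ^ k := by rw [hcomm, mul_inv_cancel_right]
  refine ⟨h, hhG, hconj ▸ Subgroup.npow_mem_zpowers t k, hAh.1, fun x hx => ?_, fun x => ?_⟩
  · have hhp : h p1 ∈ c := by
      have h1 := DFunLike.congr_fun hcomm q
      rw [MulAut.mul_apply, MulAut.mul_apply, show t q = q * p1 by rw [hp1, mul_inv_cancel_left],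
        map_mul, htr.pow_apply] at h1
      rw [mul_left_cancel h1]
      exact c.pow_mem (htr.diff _) k
    have hd : (p1 ^ s)⁻¹ * h p1 = 1 := inf_eq_bot hcc
      (fun hle => hp1L (hle (hc ▸ Subgroup.mem_zpowers p1)))
      (c.mul_mem (c.inv_mem (c.zpow_mem (hc ▸ Subgroup.mem_zpowers p1) s)) hhp)
      (by rw [← hπeq, map_zpow, hAh.2.2, zpow_zero, one_mul])
    obtain ⟨i, rfl⟩ := Subgroup.mem_zpowers_iff.1 (hc ▸ hx)
    rw [map_zpow, (inv_mul_eq_one.1 hd).symm, ← zpow_mul, ← zpow_mul, mul_comm]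
  · obtain ⟨i, a, ha, rfl⟩ := hdec hPi hqP x
    obtain ⟨j, hj⟩ := hgenQ hPi hLP hp1P hp1L a ha
    have ha' : h a ∈ P := by
      have h1 : π (h a) = π (p1 ^ (s * j)) := by
        rw [hπf hAh.1 (y := p1 ^ j) (by rw [hj, map_zpow]), map_zpow h, map_zpow, hAh.2.2,
          zpow_zero, one_mul, ← zpow_mul, map_zpow]
      have h2 := P.mul_mem (P.zpow_mem hp1P (s * j)) (P.inv_mem (hLP (hπeq.1 h1)))
      convert h2 using 1
      group
    have hq' : (q ^ r)⁻¹ * h q ∈ P := hLP (by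
      rw [← hπeq, map_zpow, hAh.2.1, zpow_zero, mul_one])
    rw [map_mul, map_zpow, mul_zpow, mul_inv_rev, mul_comm ((a ^ r)⁻¹), ← zpow_mul, mul_comm i r,
      zpow_mul, mul_mul_mul_comm, ← inv_zpow, ← mul_zpow]
    exact P.mul_mem (P.zpow_mem hq' i) (P.mul_mem (P.inv_mem (P.zpow_mem ha r)) ha')

end CfsgLib.RankThree
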