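import Cfsg.Agent.Lib.Fusion.RankThree.Core
import Cfsg.Agent.Lib.Fusion.RankThree.Linear

/-!
A `p`-group extension of a transvection configuration with a torus has an elementary abelian
subgroup of order `p ^ 4`.
-/

set_option autoImplicit false
set_option linter.style.haveILetI false

namespace CfsgLib.RankThree

open scoped commutatorElement

variable {Y : Type*} [Group Y] [Finite Y] {p : ℕ} [hp : Fact p.Prime]

/-- A normal step of order `p` is central. -/
theorem comm_mem_of_step (hY : IsPGroup p Y) {A B : Subgroup Y} [A.Normal] [B.Normal] (hAB : A ≤ B)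
    (h : A.relIndex B = p) : ∀ b ∈ B, ∀ g : Y, ⁅b, g⁆ ∈ A := by
  classical
  obtain ⟨π, hπ⟩ : ∃ π : Y →* Y ⧸ A, π = QuotientGroup.mk' A := ⟨_, rfl⟩
  obtain ⟨B', hB'⟩ : ∃ B' : Subgroup (Y ⧸ A), B' = B.map π := ⟨_, rfl⟩
  haveI hB'n : B'.Normal := by
    rw [hB', hπ]
    exact Subgroup.Normal.map inferInstance _ (QuotientGroup.mk'_surjective A)
  have hcard : Nat.card B' = p := by
    have hi : B'.index = B.index := by
      rw [hB', hπ]
      exact Subgroup.index_map_eq _ (QuotientGroup.mk'_surjective A)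
        (by rw [QuotientGroup.ker_mk']; exact hAB)
    have h1 := B'.index_mul_card
    rw [hi, ← Subgroup.index_eq_card A] at h1
    rw [← Subgroup.relIndex_mul_index hAB, h, mul_comm p] at h1
    exact Nat.eq_of_mul_eq_mul_left (Nat.pos_of_ne_zero Subgroup.index_ne_zero_of_finite) h1
  haveI : Nontrivial B' := Finite.one_lt_card_iff_nontrivial.1 (hcard.symm ▸ hp.out.one_lt)
  obtain ⟨x, hx1, hxp, hxf⟩ := exists_fixed (MulAut.conjNormal : Y ⧸ A →* MulAut B')
    (hY.to_quotient A) ((hY.to_quotient A).to_subgroup B') inferInstance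
  intro b hb g
  have hgen : Subgroup.zpowers x = ⊤ := Subgroup.eq_top_of_card_eq _ (by
    rw [Nat.card_zpowers, orderOf_eq_prime hxp hx1, hcard])
  obtain ⟨i, hi⟩ := Subgroup.mem_zpowers_iff.1
    (hgen.ge (Subgroup.mem_top (⟨π b, hB' ▸ ⟨b, hb, rfl⟩⟩ : B')))
  have h2 : π g * π b * (π g)⁻¹ = π b := by
    have h3 := congrArg Subtype.val (show (MulAut.conjNormal (π g)) (x ^ i) = x ^ i by
      rw [map_zpow, hxf])
    rw [hi, MulAut.conjNormal_apply] at h3
    exact h3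
  rw [← (QuotientGroup.eq_one_iff (N := A) _), ← QuotientGroup.mk'_apply, ← hπ,
    map_commutatorElement, commutatorElement_eq_one_iff_mul_comm]
  exact (mul_inv_eq_iff_eq_mul.1 h2).symm

/-- The power formula for a coset of an element acting with a commutator. -/
theorem mul_pow_formula {a X d c : Y} (hXa : X * a = a * d * X) (hXd : X * d = d * X)
    (hda : d * a = a * d * c) (hXc : X * c = c * X) (hca : c * a = a * c) (hcd : c * d = d * c) :
    ∀ n : ℕ, (a * X) ^ n = a ^ n * d ^ n.choose 2 * c ^ n.choose 3 * X ^ n := by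
  have h1 : ∀ n : ℕ, X ^ n * a = a * d ^ n * X ^ n := by
    intro n
    induction n with
    | zero => simp
    | succ n ih =>
      calc X ^ (n + 1) * a = X * (X ^ n * a) := by rw [pow_succ']; group
        _ = X * a * d ^ n * X ^ n := by rw [ih]; group
        _ = a * d * (X * d ^ n) * X ^ n := by rw [hXa]; group
        _ = a * d * (d ^ n * X) * X ^ n := by rw [(Commute.pow_right hXd n).eq]
        _ = a * (d * d ^ n) * (X * X ^ n) := by group
        _ = _ := by rw [← pow_succ', ← pow_succ']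
  have h2 : ∀ T : ℕ, d ^ T * a = a * d ^ T * c ^ T := by
    intro T
    induction T with
    | zero => simp
    | succ T ih =>
      calc d ^ (T + 1) * a = d * (d ^ T * a) := by rw [pow_succ']; group
        _ = d * a * d ^ T * c ^ T := by rw [ih]; group
        _ = a * d * (c * d ^ T) * c ^ T := by rw [hda]; group
        _ = a * d * (d ^ T * c) * c ^ T := by rw [(Commute.pow_right hcd T).eq]
        _ = a * (d * d ^ T) * (c * c ^ T) := by group
        _ = _ := by rw [← pow_succ', ← pow_succ']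
  intro n
  induction n with
  | zero => simp
  | succ n ih =>
    have e1 := (Commute.pow_left hca (n.choose 3)).eq
    have e2 := (Commute.pow_pow hXc n (n.choose 2)).eq
    have e3 := (Commute.pow_pow hcd (n.choose 2 + n.choose 3) n).eq
    calc (a * X) ^ (n + 1) = (a * X) ^ n * (a * X) := pow_succ _ _
      _ = a ^ n * d ^ n.choose 2 * c ^ n.choose 3 * (X ^ n * a) * X := by rw [ih]; group
      _ = a ^ n * d ^ n.choose 2 * (c ^ n.choose 3 * a) * (d ^ n * X ^ n * X) := by rw [h1]; group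
      _ = a ^ n * (d ^ n.choose 2 * a) * c ^ n.choose 3 * (d ^ n * X ^ n * X) := by rw [e1]; group
      _ = a ^ n * a * d ^ n.choose 2 * (c ^ n.choose 2 * c ^ n.choose 3 * d ^ n) * (X ^ n * X) := by
          rw [h2]; group
      _ = a ^ n * a * (d ^ n.choose 2 * d ^ n) * (c ^ (n.choose 2 + n.choose 3)) * (X ^ n * X) := by
          rw [← pow_add c, e3]; group
      _ = _ := by
        rw [← pow_succ, ← pow_succ, ← pow_add,
          show (n + 1).choose 2 = n.choose 2 + n by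
            rw [Nat.choose_succ_succ', Nat.choose_one_right, add_comm],
          show (n + 1).choose 3 = n.choose 2 + n.choose 3 from Nat.choose_succ_succ' n 2]

/-- Powers of two elements with a commutator commuting with both. -/
theorem zpow_comm {G : Type*} [Group G] {x y z : G} (h : x * y = z * (y * x)) (hzx : Commute z x)
    (hzy : Commute z y) (i k : ℤ) : x ^ i * y ^ k = z ^ (i * k) * (y ^ k * x ^ i) := by
  have e1 : x * y * x⁻¹ = z * y := by rw [h]; group
  have e2 : x * y ^ k * x⁻¹ = z ^ k * y ^ k := by rw [← conj_zpow, e1, hzy.mul_zpow]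
  have e3 : y ^ k * x * (y ^ k)⁻¹ = z ^ (-k) * x := by
    calc y ^ k * x * (y ^ k)⁻¹ = z ^ (-k) * (z ^ k * y ^ k) * x * (y ^ k)⁻¹ := by group
      _ = z ^ (-k) * (x * y ^ k * x⁻¹) * x * (y ^ k)⁻¹ := by rw [e2]
      _ = _ := by group
  have e4 : y ^ k * x ^ i * (y ^ k)⁻¹ = z ^ (-k * i) * x ^ i := by
    rw [← conj_zpow, e3, (hzx.zpow_left (-k)).mul_zpow, ← zpow_mul]
  calc x ^ i * y ^ k = z ^ (i * k) * (z ^ (-k * i) * x ^ i) * y ^ k := by group
    _ = z ^ (i * k) * (y ^ k * x ^ i * (y ^ k)⁻¹) * y ^ k := by rw [e4]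
    _ = _ := by group

theorem commutator_zpow {G : Type*} [Group G] {x y z : G} (h : ⁅x, y⁆ = z) (hzx : Commute z x)
    (hzy : Commute z y) (i k : ℤ) : ⁅x ^ i, y ^ k⁆ = z ^ (i * k) := by
  have h1 : x * y = z * (y * x) := by rw [← h, commutatorElement_def]; group
  rw [commutatorElement_def, zpow_comm h1 hzx hzy i k]
  group

/-- The final configuration. -/
theorem endgame (hp5 : 5 ≤ p) (hY : IsPGroup p Y) {N V J : Subgroup Y} (hN : N.Normal)
    (hNi : N.index = p) (hVN : V ≤ N) (hVi : V.relIndex N = p)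
    (hVc : ∀ v ∈ V, ∀ w ∈ V, v * w = w * v) (hV : Nat.card V = p ^ 3) (hJV : J ≤ V)
    (hJi : J.relIndex V = p) (hJn : J.Normal) (hVnN : ∀ n ∈ N, ∀ v ∈ V, n * v * n⁻¹ ∈ V) (hJc : ∀ j ∈ J, ∀ n ∈ N, j * n = n * j)
    (hexp : ∀ n ∈ N, n ^ p = 1) (hVn : ∀ g, g ∉ N → ∃ v ∈ V, g * v * g⁻¹ ∉ V)
    (hrank : ∀ A : Subgroup Y, (∀ a ∈ A, ∀ b ∈ A, a * b = b * a) → (∀ a ∈ A, a ^ p = 1) →
      Nat.card A ≤ p ^ 3)
    (f : Y →* Y) {r s : ℤ} (hrs : ((r * s : ℤ) : ZMod p) = 1) (h2 : (s : ZMod p) ^ 2 ≠ 1)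
    (h3 : (s : ZMod p) ^ 3 ≠ 1) (h5 : (s : ZMod p) ^ 5 ≠ 1) (hfN : ∀ n ∈ N, f n ∈ N)
    (hfM : ∀ x ∈ J ⊔ ⁅N, (⊤ : Subgroup Y)⁆, f x ∈ J ⊔ ⁅N, (⊤ : Subgroup Y)⁆)
    (hfV : ∀ v ∈ V, (v ^ r)⁻¹ * f v ∈ J ⊔ ⁅N, (⊤ : Subgroup Y)⁆)
    (hfC : ∀ v ∈ V, ∀ n ∈ N, f ⁅v, n⁆ = ⁅v, n⁆ ^ s)
    (hfJ : ∀ j ∈ J, j⁻¹ * f j ∈ ⁅N, N⁆) : False := by
  classical
  haveI := hN
  haveI := hJn
  have hpp := hp.out
  push_cast at hrs
  have hNc : Nat.card N = p ^ 4 := by
    have := (V.subgroupOf N).index_mul_card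
    rw [show (V.subgroupOf N).index = p from hVi,
      Nat.card_congr (Subgroup.subgroupOfEquivOfLe hVN).toEquiv, hV, ← pow_succ'] at this
    exact this.symm
  have hJcard : Nat.card J = p ^ 2 := by
    have := (J.subgroupOf V).index_mul_card
    rw [show (J.subgroupOf V).index = p from hJi,
      Nat.card_congr (Subgroup.subgroupOfEquivOfLe hJV).toEquiv, hV, pow_succ' p 2] at this
    exact Nat.eq_of_mul_eq_mul_left hpp.pos this
  have hz : ∀ {g : Y}, g ^ p = 1 → ∀ {m n : ℤ}, (m : ZMod p) = n → g ^ m = g ^ n := by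
    intro g hg m n hmn
    obtain ⟨d, hd⟩ := (ZMod.intCast_eq_intCast_iff_dvd_sub m n p).1 hmn
    rw [show n = m + p * d by omega, zpow_add, zpow_mul, zpow_natCast, hg, one_zpow, mul_one]
  have hkill : ∀ {g : Y}, g ^ p = 1 → ∀ {A : Subgroup Y} {m : ℤ}, g ^ m ∈ A → (m : ZMod p) ≠ 0 →
      g ∈ A := by
    intro g hg A m hm hm0
    obtain ⟨i, hi⟩ := ZMod.intCast_surjective ((m : ZMod p)⁻¹)
    have := A.zpow_mem hm i
    rwa [← zpow_mul, hz hg (n := 1) (by rw [Int.cast_mul, hi, mul_inv_cancel₀ hm0, Int.cast_one]),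
      zpow_one] at this
  obtain ⟨a, haV, haJ⟩ : ∃ a ∈ V, a ∉ J := by
    by_contra h
    push Not at h
    have := Subgroup.card_le_of_le (fun x hx => h x hx : V ≤ J)
    rw [hV, hJcard] at this
    exact absurd this (not_le.2 (Nat.pow_lt_pow_right hpp.one_lt (by norm_num)))
  obtain ⟨y0, hy0⟩ : ∃ y, y ∉ N := by
    by_contra h
    push Not at h
    rw [(eq_top_iff.2 fun x _ => h x : N = ⊤), Subgroup.index_top] at hNi
    exact hpp.one_lt.ne hNi
  have haN : a ∈ N := hVN haV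
  have hVgen : ∀ v ∈ V, ∃ i : ℤ, ∃ j ∈ J, v = a ^ i * j := by
    intro v hv
    obtain ⟨e, he, w, hw, rfl⟩ := exists_decomp_of_prime hJV hJi
      (le_normalizer_of_conj fun n _ e he => hJn.conj_mem e he n) haV haJ
      (W := Subgroup.zpowers a) (Subgroup.zpowers_le.2 haV) (Subgroup.mem_zpowers a) v hv
    obtain ⟨i, rfl⟩ := Subgroup.mem_zpowers_iff.1 hw
    exact ⟨i, e, he, hJc e he _ (N.zpow_mem haN i)⟩
  obtain ⟨u, hu⟩ : ∃ u, u = ⁅a, y0⁆ := ⟨_, rfl⟩
  obtain ⟨M, hM⟩ : ∃ M : Subgroup Y, M = J ⊔ ⁅N, (⊤ : Subgroup Y)⁆ := ⟨_, rfl⟩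
  rw [← hM] at hfM hfV
  haveI hMn : M.Normal := by rw [hM]; infer_instance
  have huM : u ∈ M := hM ▸ Subgroup.mem_sup_right
    (hu ▸ Subgroup.commutator_mem_commutator haN (Subgroup.mem_top y0))
  have hMN : M ≤ N := hM ▸ sup_le (hJV.trans hVN) (Subgroup.commutator_le_left N ⊤)
  have hMlt : M ≠ N := by
    intro e
    haveI := (hY.to_quotient J).isNilpotent
    obtain ⟨π, hπ⟩ : ∃ π : Y →* Y ⧸ J, π = QuotientGroup.mk' J := ⟨_, rfl⟩
    have hpt : π.range = ⊤ := by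
      rw [hπ]; exact MonoidHom.range_eq_top.2 (QuotientGroup.mk'_surjective J)
    have hself : N.map π = ⁅N.map π, (⊤ : Subgroup (Y ⧸ J))⁆ := by
      conv_lhs => rw [← e, hM]
      rw [Subgroup.map_sup, (Subgroup.map_eq_bot_iff (f := π) J).2
        (by rw [hπ, QuotientGroup.ker_mk']), bot_sup_eq, Subgroup.map_commutator,
        Subgroup.map_top_of_surjective π (MonoidHom.range_eq_top.1 hpt)]
    have hle : ∀ k, N.map π ≤ (⊤ : Subgroup (Y ⧸ J)).lowerCentralSeries k := by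
      intro k
      induction k with
      | zero => rw [Subgroup.lowerCentralSeries_zero]; exact le_top
      | succ k ih =>
        rw [hself, Subgroup.lowerCentralSeries_succ]
        exact Subgroup.commutator_mono ih le_top
    obtain ⟨k, hk⟩ := (Subgroup.nilpotent_iff_lowerCentralSeries (G := Y ⧸ J)).1 inferInstance
    have h1 := hle k
    rw [hk, le_bot_iff, Subgroup.map_eq_bot_iff, hπ, QuotientGroup.ker_mk'] at h1
    exact haJ (h1 haN)
  have hconjV : ∀ g, g * a * g⁻¹ ∈ V → ∀ v ∈ V, g * v * g⁻¹ ∈ V := by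
    intro g hg v hv
    obtain ⟨i, j, hj, rfl⟩ := hVgen v hv
    rw [← conj_mul, ← conj_zpow]
    exact V.mul_mem (V.zpow_mem hg i) (hJV (hJn.conj_mem j hj g))
  have huV : u ∉ V := by
    intro h
    obtain ⟨v, hv, hvn⟩ := hVn y0 hy0
    refine hvn (hconjV y0 ?_ v hv)
    have h1 := V.inv_mem (V.mul_mem (V.inv_mem haV) h)
    rw [hu, commutatorElement_def] at h1
    convert h1 using 1
    group
  have huN : u ∈ N := hMN huM
  have hNgen : ∀ n ∈ N, ∃ v ∈ V, ∃ k : ℤ, n = v * u ^ k := by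
    intro n hn
    obtain ⟨e, he, w, hw, rfl⟩ := exists_decomp_of_prime hVN hVi
      (le_normalizer_of_conj hVnN) huN huV
      (W := Subgroup.zpowers u) (Subgroup.zpowers_le.2 huN) (Subgroup.mem_zpowers u) n hn
    obtain ⟨k, rfl⟩ := Subgroup.mem_zpowers_iff.1 hw
    exact ⟨e, he, k, rfl⟩
  -- `M = J⟨u⟩` and it is central modulo `J`
  have huJ : u ∉ J := fun h => huV (hJV h)
  have hJM : J ≤ M := hM ▸ le_sup_left
  have hMc : Nat.card M = p ^ 3 := by
    obtain ⟨k, hk⟩ := (hY.to_subgroup M).exists_card_eq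
    have h1 : Nat.card J < Nat.card M := lt_of_le_of_ne (Subgroup.card_le_of_le hJM) fun e =>
      huJ (Subgroup.eq_of_le_of_card_ge hJM e.ge ▸ huM)
    have h1' : Nat.card M < Nat.card N := lt_of_le_of_ne (Subgroup.card_le_of_le hMN) fun e =>
      hMlt (Subgroup.eq_of_le_of_card_ge hMN e.ge)
    rw [hJcard, hk, Nat.pow_lt_pow_iff_right hpp.one_lt] at h1
    rw [hk, hNc, Nat.pow_lt_pow_iff_right hpp.one_lt] at h1'
    rw [hk]
    congr 1
    omega
  have hJMi : J.relIndex M = p := by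
    have := (J.subgroupOf M).index_mul_card
    rw [Nat.card_congr (Subgroup.subgroupOfEquivOfLe hJM).toEquiv, hJcard, hMc, pow_succ' p 2] at this
    exact Nat.eq_of_mul_eq_mul_right (pow_pos hpp.pos 2) this
  have hMg : ∀ x ∈ M, ∃ k : ℤ, ∃ j ∈ J, x = u ^ k * j := by
    intro x hx
    obtain ⟨e, he, w, hw, rfl⟩ := exists_decomp_of_prime hJM hJMi
      (le_normalizer_of_conj fun n _ e he => hJn.conj_mem e he n) huM huJ
      (W := Subgroup.zpowers u) (Subgroup.zpowers_le.2 huM) (Subgroup.mem_zpowers u) x hx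
    obtain ⟨i, rfl⟩ := Subgroup.mem_zpowers_iff.1 hw
    exact ⟨i, e, he, hJc e he _ (N.zpow_mem huN i)⟩
  have hMV : ∀ x ∈ M, x ∈ V → x ∈ J := by
    intro x hx hxV
    obtain ⟨k, j, hj, rfl⟩ := hMg x hx
    refine J.mul_mem ?_ hj
    by_contra hc
    have hk : u ^ k ∈ V := by
      simpa using V.mul_mem hxV (V.inv_mem (hJV hj))
    by_cases hk0 : (k : ZMod p) = 0
    · rw [hz (hexp u huN) (n := 0) (by rw [hk0, Int.cast_zero]), zpow_zero] at hc
      exact hc J.one_mem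
    · exact huV (hkill (hexp u huN) hk hk0)
  -- the commutator subgroup of `N`
  obtain ⟨c, hc⟩ : ∃ c, c = ⁅a, u⁆ := ⟨_, rfl⟩
  have hcJ : c ∈ J := by
    refine hMV c ?_ ?_
    · rw [hc, commutatorElement_def]
      exact M.mul_mem (hMn.conj_mem u huM a) (M.inv_mem huM)
    · rw [hc, commutatorElement_def, mul_assoc, mul_assoc]
      exact V.mul_mem haV (by simpa [mul_assoc] using hVnN u huN _ (V.inv_mem haV))
  have hcN : c ∈ N := hVN (hJV hcJ)
  have hcp : c ^ p = 1 := hexp c hcN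
  have hcc : ∀ n ∈ N, Commute c n := fun n hn => hJc c hcJ n hn
  have hau : a * u = c * (u * a) := by rw [hc, commutatorElement_def]; group
  -- normal forms in `N`
  have hnf : ∀ n ∈ N, ∃ i k : ℤ, ∃ j ∈ J, n = a ^ i * u ^ k * j := by
    intro n hn
    obtain ⟨v, hv, k, rfl⟩ := hNgen n hn
    obtain ⟨i, j, hj, rfl⟩ := hVgen v hv
    exact ⟨i, k, j, hj, by rw [mul_assoc, hJc j hj _ (N.zpow_mem huN k), ← mul_assoc]⟩
  have hcm : ∀ (i k i' k' : ℤ) (j j' : Y), j ∈ J → j' ∈ J →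
      ⁅a ^ i * u ^ k * j, a ^ i' * u ^ k' * j'⁆ = c ^ (i * k' - i' * k) := by
    intro i k i' k' j j' hj hj'
    have hA : ∀ i : ℤ, a ^ i ∈ N := fun i => N.zpow_mem haN i
    have hU : ∀ k : ℤ, u ^ k ∈ N := fun k => N.zpow_mem huN k
    obtain ⟨x, hx⟩ : ∃ x, x = a ^ i * u ^ k := ⟨_, rfl⟩
    obtain ⟨z, hz'⟩ : ∃ z, z = a ^ i' * u ^ k' := ⟨_, rfl⟩
    have hxN : x ∈ N := hx ▸ N.mul_mem (hA i) (hU k)
    have hzN : z ∈ N := hz' ▸ N.mul_mem (hA i') (hU k')
    have h1 : ⁅x * j, z * j'⁆ = ⁅x, z⁆ := by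
      have c1 := hJc j hj (z * j') (N.mul_mem hzN (hVN (hJV hj')))
      have c2 := hJc j' hj' x hxN
      rw [commutatorElement_def, commutatorElement_def]
      calc x * j * (z * j') * (x * j)⁻¹ * (z * j')⁻¹
          = x * (j * (z * j')) * j⁻¹ * x⁻¹ * (z * j')⁻¹ := by group
        _ = x * (z * j' * j) * j⁻¹ * x⁻¹ * (z * j')⁻¹ := by rw [c1]
        _ = x * z * (j' * x⁻¹) * j'⁻¹ * z⁻¹ := by group
        _ = x * z * (x⁻¹ * j') * j'⁻¹ * z⁻¹ := by rw [hJc j' hj' x⁻¹ (N.inv_mem hxN)]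
        _ = _ := by group
    have p1 := zpow_comm hau (hcc a haN) (hcc u huN) i k'
    have p2 := zpow_comm hau (hcc a haN) (hcc u huN) i' k
    have hC : ∀ m : ℤ, ∀ n ∈ N, Commute (c ^ m) n := fun m n hn => (hcc n hn).zpow_left m
    have h2 : x * z = c ^ (i * k' - i' * k) * (z * x) := by
      rw [hx, hz']
      calc a ^ i * u ^ k * (a ^ i' * u ^ k')
          = a ^ i * (u ^ k * a ^ i') * u ^ k' := by group
        _ = a ^ i * (c ^ (-(i' * k)) * (c ^ (i' * k) * (u ^ k * a ^ i'))) * u ^ k' := by group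
        _ = a ^ i * (c ^ (-(i' * k)) * (a ^ i' * u ^ k)) * u ^ k' := by rw [← p2]
        _ = a ^ i * c ^ (-(i' * k)) * a ^ i' * (u ^ k * u ^ k') := by group
        _ = c ^ (-(i' * k)) * a ^ i * a ^ i' * (u ^ k' * u ^ k) := by
            rw [(hC _ _ (hA i)).symm.eq, (Commute.zpow_zpow_self u k k').eq]
        _ = c ^ (-(i' * k)) * a ^ i' * (a ^ i * u ^ k') * u ^ k := by group
        _ = c ^ (-(i' * k)) * a ^ i' * (c ^ (i * k') * (u ^ k' * a ^ i)) * u ^ k := by rw [p1]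
        _ = c ^ (-(i' * k)) * (a ^ i' * c ^ (i * k')) * u ^ k' * a ^ i * u ^ k := by group
        _ = c ^ (-(i' * k)) * (c ^ (i * k') * a ^ i') * u ^ k' * a ^ i * u ^ k := by
            rw [(hC _ _ (hA i')).symm.eq]
        _ = _ := by group
    rw [← hx, ← hz', h1, commutatorElement_def, h2]
    group
  obtain ⟨C, hC⟩ : ∃ C : Subgroup Y, C = Subgroup.zpowers c := ⟨_, rfl⟩
  have hNN : ∀ x ∈ N, ∀ y ∈ N, ⁅x, y⁆ ∈ C := by
    intro x hx y hy
    obtain ⟨i, k, j, hj, rfl⟩ := hnf x hx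
    obtain ⟨i', k', j', hj', rfl⟩ := hnf y hy
    rw [hcm i k i' k' j j' hj hj', hC]
    exact Subgroup.zpow_mem_zpowers c _
  have hc1 : c ≠ 1 := by
    intro e
    have hab : ∀ x ∈ N, ∀ y ∈ N, x * y = y * x := by
      intro x hx y hy
      have := hNN x hx y hy
      rwa [hC, e, Subgroup.zpowers_one_eq_bot, Subgroup.mem_bot,
        commutatorElement_eq_one_iff_mul_comm] at this
    have := hrank N hab hexp
    rw [hNc] at this
    exact absurd this (not_le.2 (Nat.pow_lt_pow_right hpp.one_lt (by norm_num)))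
  have hcinj : ∀ {m n : ℤ}, c ^ m = c ^ n → (m : ZMod p) = n := by
    intro m n h
    have h1 : c ^ (n - m) = 1 := by rw [zpow_sub, ← h, mul_inv_cancel]
    rw [← orderOf_dvd_iff_zpow_eq_one, orderOf_eq_prime hcp hc1] at h1
    exact (ZMod.intCast_eq_intCast_iff_dvd_sub m n p).2 h1
  haveI hCn : C.Normal := by
    refine ⟨fun x hx g => ?_⟩
    rw [hC] at hx
    obtain ⟨m, rfl⟩ := Subgroup.mem_zpowers_iff.1 hx
    rw [← conj_zpow]
    refine C.zpow_mem ?_ m
    have h1 : g * c * g⁻¹ = ⁅g * a * g⁻¹, g * u * g⁻¹⁆ := by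
      rw [hc, commutatorElement_def, commutatorElement_def]; group
    rw [h1]
    exact hNN _ (hN.conj_mem a haN g) _ (hN.conj_mem u huN g)
  have hCJ : C ≤ J := hC ▸ Subgroup.zpowers_le.2 hcJ
  have hCc : Nat.card C = p := by rw [hC, Nat.card_zpowers, orderOf_eq_prime hcp hc1]
  have hCJi : C.relIndex J = p := by
    have := (C.subgroupOf J).index_mul_card
    rw [Nat.card_congr (Subgroup.subgroupOfEquivOfLe hCJ).toEquiv, hCc, hJcard, sq] at this
    exact Nat.eq_of_mul_eq_mul_right hpp.pos this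
  haveI : (⊥ : Subgroup Y).Normal := inferInstance
  have hcY : ∀ g : Y, Commute c g := by
    intro g
    have := comm_mem_of_step hY (bot_le : ⊥ ≤ C) (by rw [Subgroup.relIndex_bot_left, hCc]) c
      (hC ▸ Subgroup.mem_zpowers c) g
    rwa [Subgroup.mem_bot, commutatorElement_eq_one_iff_mul_comm] at this
  have hMJ := comm_mem_of_step hY hJM hJMi
  have hJC := comm_mem_of_step hY hCJ hCJi
  have hNNC : ⁅N, N⁆ ≤ C := Subgroup.commutator_le.2 hNN
  -- quotient by `J`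
  obtain ⟨π, hπ⟩ : ∃ π : Y →* Y ⧸ J, π = QuotientGroup.mk' J := ⟨_, rfl⟩
  have hπ1 : ∀ x, π x = 1 ↔ x ∈ J := fun x => hπ ▸ QuotientGroup.eq_one_iff x
  have hπN : ∀ x ∈ N, ∀ y ∈ N, Commute (π x) (π y) := fun x hx y hy =>
    commutatorElement_eq_one_iff_mul_comm.1 (by
      rw [← map_commutatorElement, hπ1]; exact hCJ (hNN x hx y hy))
  have hπu : ∀ g, Commute (π u) (π g) := fun g =>
    commutatorElement_eq_one_iff_mul_comm.1 (by rw [← map_commutatorElement, hπ1]; exact hMJ u huM g)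
  have hπuinj : ∀ {m n : ℤ}, π u ^ m = π u ^ n → (m : ZMod p) = n := by
    intro m n h
    have h1 : u ^ (n - m) ∈ J := by
      rw [← hπ1, map_zpow, zpow_sub, ← h, mul_inv_cancel]
    by_contra hne
    refine huJ (hkill (hexp u huN) h1 ?_)
    rw [Int.cast_sub, sub_ne_zero]
    exact Ne.symm hne
  -- the parameters of `f`
  obtain ⟨lam, ju, hju, hfu⟩ := hMg (f u) (hfM u huM)
  obtain ⟨α0, ja, hja, hfa0⟩ := hMg _ (hfV a haV)
  have hfa : f a = a ^ r * u ^ α0 * ja := by rw [mul_assoc, ← hfa0, mul_inv_cancel_left]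
  have hlam : (lam : ZMod p) = (s : ZMod p) ^ 2 := by
    have h1 := hfC a haV u huN
    rw [map_commutatorElement, hfa, hfu, show u ^ lam * ju = a ^ (0 : ℤ) * u ^ lam * ju by group,
      hcm r α0 0 lam ja ju hja hju, ← hc] at h1
    have h2 := hcinj h1
    push_cast at h2
    linear_combination (s : ZMod p) * h2 - (lam : ZMod p) * hrs
  obtain ⟨n0, hn0, w0, hw0, hfy⟩ := exists_decomp_of_prime (le_top : N ≤ ⊤)
    (by rw [Subgroup.relIndex_top_right, hNi])
    (le_normalizer_of_conj fun n _ e he => hN.conj_mem e he n) (Subgroup.mem_top y0) hy0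
    (W := Subgroup.zpowers y0) le_top (Subgroup.mem_zpowers y0) (f y0) (Subgroup.mem_top _)
  obtain ⟨e, rfl⟩ := Subgroup.mem_zpowers_iff.1 hw0
  have hmul : ∀ {G : Type _} [Group G] (A n z : G), Commute A n → ⁅A, n * z⁆ = n * ⁅A, z⁆ * n⁻¹ := by
    intro G _ A n z h
    rw [commutatorElement_def, commutatorElement_def]
    calc A * (n * z) * A⁻¹ * (n * z)⁻¹ = (A * n) * z * A⁻¹ * z⁻¹ * n⁻¹ := by group
      _ = (n * A) * z * A⁻¹ * z⁻¹ * n⁻¹ := by rw [h.eq]
      _ = _ := by group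
  have hAB : ∀ {G : Type _} [Group G] (A B z : G), Commute B z → ⁅A * B, z⁆ = ⁅A, z⁆ := by
    intro G _ A B z h
    rw [commutatorElement_def, commutatorElement_def]
    calc A * B * z * (A * B)⁻¹ * z⁻¹ = A * (B * z) * B⁻¹ * A⁻¹ * z⁻¹ := by group
      _ = A * (z * B) * B⁻¹ * A⁻¹ * z⁻¹ := by rw [h.eq]
      _ = _ := by group
  have he' : (e : ZMod p) = (s : ZMod p) ^ 3 := by
    have h1 : π (f u) = π u ^ (r * e) := by
      rw [hu, map_commutatorElement, map_commutatorElement, hfa, hfy, map_mul, map_mul, map_mul,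
        (hπ1 ja).2 hja, mul_one, map_zpow, map_zpow, map_zpow]
      have hUy : Commute (π u ^ α0) (π n0 * π y0 ^ e) :=
        Commute.mul_right ((hπu n0).zpow_left _) ((hπu y0).zpow_zpow _ _)
      rw [hAB _ _ _ hUy, hmul _ _ _ ((hπN a haN n0 hn0).zpow_left r),
        commutator_zpow (z := π u) (by rw [← map_commutatorElement, hu]) (hπu a) (hπu y0) r e,
        ← ((hπu n0).zpow_left (r * e)).eq, mul_inv_cancel_right, ← hu]
    rw [hfu, map_mul, map_zpow, (hπ1 ju).2 hju, mul_one] at h1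
    have h2 := hπuinj h1
    push_cast at h2
    linear_combination (s : ZMod p) * hlam - (s : ZMod p) * h2 - (e : ZMod p) * hrs
  have hs0 : (s : ZMod p) ≠ 0 := fun h => by rw [h, mul_zero] at hrs; exact zero_ne_one hrs
  have hes : (e : ZMod p) ≠ (s : ZMod p) := by
    rw [he']
    intro h
    exact h2 (mul_right_cancel₀ hs0 (by linear_combination h))
  -- quotient by `C`
  obtain ⟨ρ, hρ⟩ : ∃ ρ : Y →* Y ⧸ C, ρ = QuotientGroup.mk' C := ⟨_, rfl⟩
  have hρ1 : ∀ x, ρ x = 1 ↔ x ∈ C := fun x => hρ ▸ QuotientGroup.eq_one_iff x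
  have hρJ : ∀ j ∈ J, ∀ g, Commute (ρ j) (ρ g) := fun j hj g =>
    commutatorElement_eq_one_iff_mul_comm.1 (by rw [← map_commutatorElement, hρ1]; exact hJC j hj g)
  have hρN : ∀ x ∈ N, ∀ y ∈ N, Commute (ρ x) (ρ y) := fun x hx y hy =>
    commutatorElement_eq_one_iff_mul_comm.1 (by
      rw [← map_commutatorElement, hρ1]; exact hNN x hx y hy)
  have hρf : ∀ j ∈ J, ρ (f j) = ρ j := by
    intro j hj
    have h := (hρ1 _).2 (hNNC (hfJ j hj))
    rw [map_mul, map_inv, inv_mul_eq_one] at h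
    exact h.symm
  have hCkill : ∀ {j : Y}, j ∈ J → ∀ {m : ℤ}, ρ j = ρ j ^ m → (m : ZMod p) ≠ 1 → j ∈ C := by
    intro j hj m h hm
    have h1 : j ^ (m - 1) ∈ C := by
      rw [← hρ1, map_zpow, zpow_sub, ← h, zpow_one, mul_inv_cancel]
    refine hkill (hexp j (hVN (hJV hj))) h1 ?_
    push_cast
    rwa [sub_ne_zero]
  have hzC : ⁅u, y0⁆ ∈ C := by
    obtain ⟨z, hz0⟩ : ∃ z, z = ⁅u, y0⁆ := ⟨_, rfl⟩
    have hzJ : z ∈ J := hz0 ▸ hMJ u huM y0
    rw [← hz0]
    refine hCkill hzJ (m := lam * e) ?_ ?_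
    · conv_lhs => rw [← hρf z hzJ, hz0, map_commutatorElement f, hfu, hfy]
      rw [map_commutatorElement, map_mul, map_mul, map_zpow, map_zpow,
        hAB _ _ _ (Commute.mul_right (hρJ ju hju n0) ((hρJ ju hju y0).zpow_right e)),
        hmul _ _ _ ((hρN u huN n0 hn0).zpow_left lam),
        commutator_zpow (z := ρ z) (by rw [← map_commutatorElement, hz0]) (hρJ z hzJ u)
          (hρJ z hzJ y0) lam e,
        ← ((hρJ z hzJ n0).zpow_left (lam * e)).eq, mul_inv_cancel_right]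
    · push_cast
      rw [hlam, he', ← pow_add]
      exact h5
  have hJy : ∀ j ∈ J, Commute j y0 := by
    intro j hj
    obtain ⟨φ, hφ⟩ := Subgroup.mem_zpowers_iff.1 (hC ▸ hJC j hj y0)
    have hfj : ∃ γ : ℤ, f j = j * c ^ γ := by
      obtain ⟨γ, hγ⟩ := Subgroup.mem_zpowers_iff.1 (hC ▸ hNNC (hfJ j hj))
      exact ⟨γ, by rw [hγ, mul_inv_cancel_left]⟩
    obtain ⟨γ, hγ⟩ := hfj
    have h1 := congrArg f hφ
    rw [map_commutatorElement, hγ, hfy, map_zpow, hc, hfC a haV u huN, ← hc, ← zpow_mul,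
      hAB _ _ _ ((hcY _).zpow_left γ), hmul _ _ _ (hJc j hj n0 hn0)] at h1
    have h7 := commutator_zpow hφ.symm ((hcY j).zpow_left φ) ((hcY y0).zpow_left φ) 1 e
    rw [zpow_one, one_mul, ← zpow_mul] at h7
    rw [h7, ← ((hcY n0).zpow_left (φ * e)).eq, mul_inv_cancel_right] at h1
    have h8 := hcinj h1
    push_cast at h8
    have : (φ : ZMod p) = 0 := by
      rcases mul_eq_mul_left_iff.1 (show (φ : ZMod p) * s = φ * e by linear_combination h8) with h | h
      · exact absurd h.symm hes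
      · exact h
    rw [hz hcp (n := 0) (by rw [this, Int.cast_zero]), zpow_zero] at hφ
    exact commutatorElement_eq_one_iff_mul_comm.1 hφ.symm
  -- correct `y0` to commute with `u`
  obtain ⟨k0, hk0⟩ := Subgroup.mem_zpowers_iff.1 (hC ▸ hzC)
  obtain ⟨y, hy⟩ : ∃ y, y = a ^ k0 * y0 := ⟨_, rfl⟩
  have hyN : y ∉ N := fun h => hy0 (by
    have := N.mul_mem (N.inv_mem (N.zpow_mem haN k0)) h
    rwa [hy, inv_mul_cancel_left] at this)
  have hyu : Commute y u := by
    have e1 : u * y0 = c ^ k0 * (y0 * u) := by rw [hk0, commutatorElement_def]; group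
    have e2 := zpow_comm hau (hcc a haN) (hcc u huN) k0 1
    rw [zpow_one, mul_one] at e2
    have e3 : u * a ^ k0 = c ^ (-k0) * (a ^ k0 * u) := by rw [e2]; group
    show y * u = u * y
    rw [hy]
    symm
    calc u * (a ^ k0 * y0) = (u * a ^ k0) * y0 := by group
      _ = c ^ (-k0) * a ^ k0 * (u * y0) := by rw [e3]; group
      _ = c ^ (-k0) * (a ^ k0 * c ^ k0) * (y0 * u) := by rw [e1]; group
      _ = c ^ (-k0) * (c ^ k0 * a ^ k0) * (y0 * u) := by rw [((hcY _).zpow_left k0).eq]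
      _ = _ := by group
  have hyJ : ∀ j ∈ J, Commute y j := fun j hj => by
    rw [hy]
    exact Commute.mul_left (hJc j hj _ (N.zpow_mem haN k0)).symm (hJy j hj).symm
  have hyM : ∀ x ∈ M, Commute y x := by
    intro x hx
    obtain ⟨k, j, hj, rfl⟩ := hMg x hx
    exact (hyu.zpow_right k).mul_right (hyJ j hj)
  -- its `p`-th power
  obtain ⟨w, hw⟩ : ∃ w, w = y ^ p := ⟨_, rfl⟩
  have hwN : w ∈ N := by
    rw [hw]
    have := N.pow_index_mem y
    rwa [hNi] at this
  obtain ⟨i, k, j, hj, hwe⟩ := hnf w hwN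
  have hai : a ^ i = 1 := by
    have hyw : Commute y w := hw ▸ Commute.self_pow y p
    have hya : Commute y (a ^ i) := by
      have h1 := hyw.mul_right (Commute.inv_right (hyM _ (M.mul_mem (M.zpow_mem huM k) (hJM hj))))
      rwa [hwe, mul_assoc (a ^ i), mul_inv_cancel_right] at h1
    have h2 : ⁅π a ^ i, π y⁆ = 1 := commutatorElement_eq_one_iff_mul_comm.2 (by
      rw [← map_zpow, ← map_mul, ← map_mul, hya.eq])
    rw [hy, map_mul, map_zpow, hmul _ _ _ ((Commute.refl (π a)).zpow_zpow i k0)] at h2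
    have h2' : ⁅π a ^ i, π y0 ^ (1 : ℤ)⁆ = 1 := by
      rw [zpow_one]
      exact conj_eq_one_iff.1 h2
    rw [commutator_zpow (z := π u) (by rw [← map_commutatorElement, hu]) (hπu a) (hπu y0) i 1,
      mul_one, ← zpow_zero (π u)] at h2'
    rw [hz (hexp a haN) (n := 0) (hπuinj h2'), zpow_zero]
  rw [hai, one_mul] at hwe
  -- the image of `y`
  obtain ⟨n1, hn1⟩ : ∃ n1, n1 = f y * (y ^ e)⁻¹ := ⟨_, rfl⟩
  have hn1N : n1 ∈ N := by
    rw [← QuotientGroup.eq_one_iff, ← QuotientGroup.mk'_apply, hn1, hy, map_mul f, hfy]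
    have ha1 : (QuotientGroup.mk' N) a = 1 := (QuotientGroup.eq_one_iff a).2 haN
    have hfa1 : (QuotientGroup.mk' N) (f (a ^ k0)) = 1 :=
      (QuotientGroup.eq_one_iff _).2 (hfN _ (N.zpow_mem haN k0))
    rw [map_mul, map_mul, hfa1, map_mul, map_inv, map_zpow _ (a ^ k0 * y0) e, map_mul, map_zpow _ a k0, ha1,
      (show (QuotientGroup.mk' N) n0 = 1 from (QuotientGroup.eq_one_iff n0).2 hn0)]
    simp
  obtain ⟨α, β, j1, hj1, hn1e⟩ := hnf n1 hn1N
  obtain ⟨X, hX⟩ : ∃ X, X = u ^ β * j1 * y ^ e := ⟨_, rfl⟩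
  have hfyX : f y = a ^ α * X := by
    rw [hX, ← mul_assoc, ← mul_assoc, ← hn1e, hn1, inv_mul_cancel_right]
  have hMM : ∀ x ∈ M, ∀ z ∈ M, Commute x z := by
    intro x hx z hz'
    obtain ⟨k, j, hj, rfl⟩ := hMg x hx
    obtain ⟨k', j', hj', rfl⟩ := hMg z hz'
    have cJ : ∀ j ∈ J, ∀ n ∈ N, Commute j n := hJc
    exact Commute.mul_left
      (Commute.mul_right (Commute.zpow_zpow_self u k k') (cJ j' hj' _ (N.zpow_mem huN k)).symm)
      (cJ j hj _ (N.mul_mem (N.zpow_mem huN k') (hVN (hJV hj'))))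
  have hβM : u ^ β * j1 ∈ M := M.mul_mem (M.zpow_mem huM β) (hJM hj1)
  have hXM : ∀ x ∈ M, Commute X x := fun x hx => hX ▸
    Commute.mul_left (hMM _ hβM x hx) ((hyM x hx).zpow_left e)
  obtain ⟨d, hd⟩ : ∃ d, d = ⁅(a ^ α)⁻¹, X⁆ := ⟨_, rfl⟩
  have hdM : d ∈ M := hM ▸ Subgroup.mem_sup_right
    (hd ▸ Subgroup.commutator_mem_commutator (N.inv_mem (N.zpow_mem haN α)) (Subgroup.mem_top X))
  obtain ⟨c', hc'⟩ : ∃ c', c' = ⁅d⁻¹, (a ^ α)⁻¹⁆ := ⟨_, rfl⟩
  have hc'C : c' ∈ C := hc' ▸ hNN _ (N.inv_mem (hMN hdM)) _ (N.inv_mem (N.zpow_mem haN α))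
  have hc'c : ∀ g, Commute c' g := fun g => by
    obtain ⟨m, hm⟩ := Subgroup.mem_zpowers_iff.1 (hC ▸ hc'C)
    exact hm ▸ (hcY g).zpow_left m
  have hpc : ∀ n, n ≠ 0 → n < p → p ∣ p.choose n := fun n h0 hn => hpp.dvd_choose_self h0 hn
  have hpow : f w = w ^ e := by
    have h1 := mul_pow_formula (a := a ^ α) (X := X) (d := d) (c := c')
      (by rw [hd, commutatorElement_def]; group) (hXM d hdM).eq
      (by rw [hc', commutatorElement_def]; group) (hc'c X).symm.eq (hc'c _).eq (hc'c d).eq p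
    have h2 : ∀ g ∈ N, ∀ q, p ∣ q → g ^ q = 1 := by
      rintro g hg q ⟨t, rfl⟩
      rw [pow_mul, hexp g hg, one_pow]
    rw [← hfyX, ← map_pow, ← hw, hexp _ (N.zpow_mem haN α),
      h2 d (hMN hdM) _ (hpc 2 (by norm_num) (by omega)),
      h2 c' (hVN (hJV (hCJ hc'C))) _ (hpc 3 (by norm_num) (by omega)), one_mul, one_mul, one_mul] at h1
    rw [h1, hX, ((hyM _ hβM).zpow_left e).symm.mul_pow, hexp _ (hMN hβM), one_mul, hw,
      ← zpow_natCast, ← zpow_natCast, ← zpow_mul, ← zpow_mul, mul_comm]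
  have hw1 : w = 1 := by
    rw [hwe, map_mul, map_zpow, hfu] at hpow
    have hk : (k : ZMod p) = 0 := by
      have h1 := congrArg π hpow
      rw [map_mul, map_zpow, map_mul, map_zpow, map_zpow π, map_mul π, map_zpow π,
        (hπ1 ju).2 hju, (hπ1 j).2 hj, (hπ1 (f j)).2 (by
          have := hCJ (hNNC (hfJ j hj))
          simpa using J.mul_mem hj this),
        mul_one, mul_one, mul_one, ← zpow_mul, ← zpow_mul] at h1
      have h4 := hπuinj h1
      push_cast at h4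
      rw [hlam, he'] at h4
      have h6 : (k : ZMod p) * ((s : ZMod p) ^ 2 * (1 - s)) = 0 := by linear_combination h4
      rcases mul_eq_zero.1 h6 with h | h
      · exact h
      · refine absurd ?_ h2
        have hs1 : (s : ZMod p) = 1 := (sub_eq_zero.1 ((mul_eq_zero.1 h).resolve_left
          (pow_ne_zero 2 hs0))).symm
        rw [hs1, one_pow]
    rw [hz (hexp u huN) (n := 0) (by rw [hk, Int.cast_zero]), zpow_zero, one_mul] at hwe
    rw [hwe]
    have hfw : f j = j ^ e := by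
      rw [hz (hexp u huN) (m := k) (n := 0) (by rw [hk, Int.cast_zero]), zpow_zero, one_mul,
        hz (g := u ^ lam * ju) (m := k) (hexp _ (N.mul_mem (N.zpow_mem huN lam) (hVN (hJV hju)))) (n := 0)
          (by rw [hk, Int.cast_zero]), zpow_zero, one_mul] at hpow
      exact hpow
    have hjC : j ∈ C := hCkill hj (m := e) (by rw [← map_zpow, ← hfw, hρf j hj]) (by rw [he']; exact h3)
    obtain ⟨γ, rfl⟩ := Subgroup.mem_zpowers_iff.1 (hC ▸ hjC)
    rw [map_zpow, hc, hfC a haV u huN, ← hc, ← zpow_mul, ← zpow_mul] at hfw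
    have h4 := hcinj hfw
    push_cast at h4
    have h6 : (γ : ZMod p) = 0 := by
      rcases mul_eq_mul_left_iff.1 (show (γ : ZMod p) * e = γ * s by linear_combination -h4) with h | h
      · exact absurd h hes
      · exact h
    rw [hz hcp (n := 0) (by rw [h6, Int.cast_zero]), zpow_zero]
  -- the elementary abelian subgroup
  obtain ⟨B, hB⟩ : ∃ B : Subgroup Y, B = Subgroup.closure (insert y (M : Set Y)) := ⟨_, rfl⟩
  have hBc : ∀ x ∈ B, ∀ z ∈ B, x * z = z * x := by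
    rw [hB]
    refine fun x hx z hz' => closure_comm ?_ hx hz'
    rintro x' (e1 | h1) z' (e2 | h2)
    exacts [by rw [e1, e2], by rw [e1]; exact (hyM z' h2).eq, by rw [e2]; exact (hyM x' h1).symm.eq,
      (hMM x' h1 z' h2).eq]
  have hBp : ∀ x ∈ B, x ^ p = 1 := by
    intro x hx
    rw [hB] at hx hBc
    induction hx using Subgroup.closure_induction with
    | mem x hx =>
      rcases hx with rfl | hx
      · rw [← hw, hw1]
      · exact hexp x (hMN hx)
    | one => exact one_pow p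
    | mul x z hx hz' ihx ihz => rw [Commute.mul_pow (hBc x hx z hz'), ihx, ihz, mul_one]
    | inv x _ ihx => rw [inv_pow, ihx, inv_one]
  have hlt : M < B := lt_of_le_of_ne (hB ▸ fun x hx => Subgroup.subset_closure (Or.inr hx))
    fun e' => hyN (hMN (e' ▸ hB ▸ Subgroup.subset_closure (Set.mem_insert y _)))
  have h9 := hrank B hBc hBp
  rw [← hMc] at h9
  exact hlt.ne (Subgroup.eq_of_le_of_card_ge hlt.le h9)

end CfsgLib.RankThree
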