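import Cfsg.Agent.Lib.Fusion.RankThree.Linear
import Cfsg.Agent.Lib.Fusion.RankTwoInversion
import Cfsg.Agent.Lib.OddOmega.Basic
import Cfsg.Agent.Lib.HSub.Fusion

/-!
An essential subgroup with Frattini quotient of order `p ^ 3`: the action on the quotient.
-/

set_option autoImplicit false
set_option linter.style.haveILetI false
set_option linter.unusedSectionVars false

namespace CfsgLib.RankThree

open Cfsg Cfsg.FusionSystem CfsgLib.Fusion CfsgLib.Fusion.Transvections CfsgLib.Fusion.EssentialFlag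

universe u

variable {Ω : Type u} [Group Ω] {S : Subgroup Ω} [Finite S] {F : FusionSystem S} {p : ℕ}
  [hp : Fact p.Prime] {E : Subgroup Ω} {V : Type u} [CommGroup V] [Finite V]
  {q : E →* V} {ρ : MulAut E →* MulAut V}

/-- An essential subgroup and its Frattini quotient, of order `p ^ 3`. -/
structure Ess (F : FusionSystem S) (p : ℕ) (E : Subgroup Ω) (q : E →* V)
    (ρ : MulAut E →* MulAut V) : Prop where
  pgroup : IsPGroup p S
  sat : F.IsSaturated p
  ess : F.IsEssential p E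
  card : Nat.card V = p ^ 3
  surj : Function.Surjective q
  ker : ∀ e, q e = 1 ↔ e ∈ frattini E
  nat : ∀ α e, ρ α (q e) = q (α e)

namespace Ess

variable (h : Ess F p E q ρ)

include h

theorem le : E ≤ S := h.ess.1.1

theorem pE : IsPGroup p E := h.pgroup.to_le h.le

theorem exp (x : V) : x ^ p = 1 := by
  haveI := finite_of_le h.le
  obtain ⟨e, rfl⟩ := h.surj x
  rw [← map_pow, h.ker]
  exact CfsgLib.OddOmega.pow_mem_frattini h.pE e

theorem pV : IsPGroup p V := fun x => ⟨1, by rw [pow_one, h.exp]⟩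

theorem ker_of_mem {α : MulAut E} {g : Ω} (hg : g ∈ E)
    (hv : ∀ x : E, (α x : Ω) = g * x * g⁻¹) : ρ α = 1 := by
  refine MulEquiv.ext fun x => ?_
  obtain ⟨e, rfl⟩ := h.surj x
  rw [h.nat, show α e = ⟨g, hg⟩ * e * ⟨g, hg⟩⁻¹ from Subtype.ext (hv e), map_mul, map_mul,
    map_inv, mul_comm (q ⟨g, hg⟩), mul_inv_cancel_right, MulAut.one_apply]

theorem mem_inn {α : MulAut E} (hα : α ∈ F.autGroup E) (h1 : ρ α = 1) :
    α ∈ autInducedBy E E := by
  haveI := finite_of_le h.le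
  haveI := finite_mulAut E
  have hker : IsPGroup p ρ.ker := by
    refine (isPGroup_ker_frattiniHom h.pE).to_le fun β hβ => MonoidHom.mem_ker.2 ?_
    refine MulEquiv.ext fun x => ?_
    obtain ⟨x, rfl⟩ := QuotientGroup.mk'_surjective (frattini E) x
    rw [QuotientGroup.mk'_apply, frattiniHom_mk, MulAut.one_apply, QuotientGroup.eq, ← h.ker,
      map_mul, map_inv, ← h.nat, MonoidHom.mem_ker.1 hβ, MulAut.one_apply, inv_mul_cancel]
  haveI hn : (ρ.ker.subgroupOf (F.autGroup E)).Normal := inferInstance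
  have hmem : (⟨α, hα⟩ : F.autGroup E) ∈ Cfsg.pCore p (F.autGroup E) :=
    CfsgLib.Fitting.le_pCore hn hker.comap_subtype (MonoidHom.mem_ker.2 h1)
  rw [← inn_eq_autInducedBy]
  exact (isRadical_of_isEssential h.pgroup h.ess).2.le ⟨_, hmem, rfl⟩

theorem inn_iff {α : MulAut E} (hα : α ∈ F.autGroup E) : ρ α = 1 ↔ α ∈ autInducedBy E E := by
  refine ⟨h.mem_inn hα, fun hm => ?_⟩
  obtain ⟨g, hg, hv⟩ := (mem_autInducedBy_iff E E α).1 hm
  exact h.ker_of_mem hg hv

theorem strong : ∃ H : Subgroup ((F.autGroup E).map ρ), Cfsg.IsStronglyPEmbedded p H := by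
  haveI := finite_of_le h.le
  haveI := finite_mulAut E
  haveI := TransvectionCube.finite_aut (V := V)
  obtain ⟨-, -, hn, H, hH⟩ := h.ess
  haveI := hn
  obtain ⟨θ, hθ⟩ : ∃ θ : F.autGroup E →* (F.autGroup E).map ρ, θ = ρ.subgroupMap (F.autGroup E) :=
    ⟨_, rfl⟩
  have hθs : Function.Surjective θ := hθ ▸ ρ.subgroupMap_surjective _
  have hker : θ.ker = (Cfsg.Inn E).subgroupOf (F.autGroup E) := by
    ext α
    rw [MonoidHom.mem_ker, Subgroup.mem_subgroupOf, inn_eq_autInducedBy, ← h.inn_iff α.2,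
      Subtype.ext_iff, hθ]
    rfl
  obtain ⟨e, -⟩ : ∃ e : (F.autGroup E ⧸ (Cfsg.Inn E).subgroupOf (F.autGroup E)) ≃*
      (F.autGroup E).map ρ, True :=
    ⟨(QuotientGroup.quotientMulEquivOfEq hker.symm).trans
      (QuotientGroup.quotientKerEquivOfSurjective θ hθs), trivial⟩
  obtain ⟨htop, hpH, hN⟩ := Strong.isStronglyPEmbedded_iff.1 hH
  refine ⟨H.map e.toMonoidHom, Strong.isStronglyPEmbedded_iff.2
    ⟨fun e1 => htop ?_, ?_, fun Q hQ hQH hne n hn' => ?_⟩⟩
  · exact Subgroup.map_injective e.injective (by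
      rw [e1, Subgroup.map_top_of_surjective _ e.surjective])
  · rwa [Subgroup.card_map_of_injective e.injective]
  · have hmem := hN (Q.map e.symm.toMonoidHom) (hQ.map _) (Subgroup.map_le_iff_le_comap.2 fun x hx => by
        obtain ⟨y, hy, rfl⟩ := hQH hx
        show e.symm (e y) ∈ H
        rwa [e.symm_apply_apply]) (fun e1 => hne ((Subgroup.map_eq_bot_iff_of_injective Q
        e.symm.injective).1 e1)) (show e.symm n ∈ _ from Subgroup.mem_normalizer_fintype (by
        rintro _ ⟨x, hx, rfl⟩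
        exact ⟨n * x * n⁻¹, (Subgroup.mem_normalizer_iff.1 hn' x).1 hx, by simp⟩))
    exact ⟨_, hmem, e.apply_symm_apply n⟩

theorem sylow {U : Subgroup (MulAut V)} (hU : U ≤ (F.autGroup E).map ρ) (hUp : IsPGroup p U) :
    Nat.card U ≤ p :=
  card_le_of_strong h.pV h.card _ h.strong U hU hUp

theorem T_le : (autInducedBy S E).map ρ ≤ (F.autGroup E).map ρ :=
  Subgroup.map_mono (autInducedBy_le_autGroup h.le)

theorem pT : IsPGroup p ((autInducedBy S E).map ρ) := (isPGroup_autInducedBy h.pgroup E).map _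

theorem mem_of_ker {g : Ω} (hg : g ∈ normalizerIn S E) (h1 : ρ (conjAut E hg.2) = 1) : g ∈ E := by
  haveI := finite_of_le h.le
  haveI := finite_mulAut E
  have hα : conjAut E hg.2 ∈ F.autGroup E :=
    autInducedBy_le_autGroup h.le (conjAut_mem_autInducedBy hg.2 hg.1)
  obtain ⟨e, he, hv⟩ := (mem_autInducedBy_iff E E _).1 (h.mem_inn hα h1)
  have hc : e⁻¹ * g ∈ centralizerIn S E :=
    ⟨S.mul_mem (S.inv_mem (h.le he)) hg.1, mem_centralizer_of_conj_eq fun x hx => by
      have := hv ⟨x, hx⟩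
      rw [conjAut_apply] at this
      rw [mul_inv_rev, inv_inv, show e⁻¹ * g * x * (g⁻¹ * e) = e⁻¹ * (g * x * g⁻¹) * e by group,
        this]
      group⟩
  have := E.mul_mem he (h.ess.1.2 E (isConj_refl h.le) hc)
  rwa [mul_inv_cancel_left] at this

theorem lt : E < normalizerIn S E :=
  lt_normalizerIn h.pgroup h.le (ne_of_isEssential h.pgroup h.sat h.ess)

theorem T_card : Nat.card ((autInducedBy S E).map ρ) = p := by
  haveI := TransvectionCube.finite_aut (V := V)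
  refine le_antisymm (h.sylow h.T_le h.pT) ?_
  have hne : Nontrivial ((autInducedBy S E).map ρ) := by
    obtain ⟨g, hg, hgE⟩ := SetLike.exists_of_lt h.lt
    refine (Subgroup.nontrivial_iff_ne_bot _).2 fun e => hgE (h.mem_of_ker hg ?_)
    exact Subgroup.mem_bot.1 (e.le ⟨_, conjAut_mem_autInducedBy hg.2 hg.1, rfl⟩)
  obtain ⟨k, hk, hk'⟩ := h.pT.nontrivial_iff_card.1 hne
  rw [hk']
  exact Nat.le_self_pow hk.ne' p

theorem eq_T {U : Subgroup (MulAut V)} (hU : U ≤ (F.autGroup E).map ρ) (hUp : IsPGroup p U)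
    (hTU : (autInducedBy S E).map ρ ≤ U) : U = (autInducedBy S E).map ρ := by
  haveI := TransvectionCube.finite_aut (V := V)
  exact (Subgroup.eq_of_le_of_card_ge hTU (h.T_card ▸ h.sylow hU hUp)).symm

theorem mem_auto {α : MulAut E} (hα : α ∈ F.autGroup E)
    (h1 : ρ α ∈ (autInducedBy S E).map ρ) : α ∈ autInducedBy S E := by
  obtain ⟨β, hβ, he⟩ := h1
  have hm : β⁻¹ * α ∈ autInducedBy E E := by
    refine h.mem_inn ((F.autGroup E).mul_mem ((F.autGroup E).inv_mem
      (autInducedBy_le_autGroup h.le hβ)) hα) ?_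
    rw [map_mul, map_inv, he, inv_mul_cancel]
  have := (autInducedBy S E).mul_mem hβ (autInducedBy_mono h.le E hm)
  rwa [mul_inv_cancel_left] at this

theorem relIndex : E.relIndex (normalizerIn S E) = p := by
  haveI := TransvectionCube.finite_aut (V := V)
  haveI : Finite (normalizerIn S E) := finite_of_le inf_le_left
  obtain ⟨κ, hκ⟩ : ∃ κ : normalizerIn S E →* MulAut E, ∀ g (hg : g ∈ normalizerIn S E),
      κ ⟨g, hg⟩ = conjAut E hg.2 := by
    refine ⟨MonoidHom.mk' (fun g => conjAut E g.2.2) fun a b => MulEquiv.ext fun x => Subtype.ext ?_,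
      fun g hg => rfl⟩
    rw [MulAut.mul_apply, conjAut_apply, conjAut_apply, conjAut_apply, Subgroup.coe_mul]
    group
  have hker : (ρ.comp κ).ker = E.subgroupOf (normalizerIn S E) := by
    ext ⟨g, hg⟩
    rw [MonoidHom.mem_ker, MonoidHom.comp_apply, hκ, Subgroup.mem_subgroupOf]
    exact ⟨h.mem_of_ker hg, fun hgE => h.ker_of_mem hgE fun x => conjAut_apply E hg.2 x⟩
  have hr : (ρ.comp κ).range = (autInducedBy S E).map ρ := by
    ext x
    refine ⟨?_, ?_⟩
    · rintro ⟨⟨g, hg⟩, rfl⟩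
      exact ⟨_, conjAut_mem_autInducedBy hg.2 hg.1, by rw [MonoidHom.comp_apply, hκ]⟩
    · rintro ⟨β, hβ, rfl⟩
      obtain ⟨g, hg, hv⟩ := (mem_autInducedBy_iff S E β).1 hβ
      have hgN := mem_normalizerIn_of_induces h.le hg hv
      refine ⟨⟨g, hgN⟩, ?_⟩
      rw [MonoidHom.comp_apply, hκ]
      congr 1
      exact MulEquiv.ext fun y => Subtype.ext (by rw [conjAut_apply, hv])
  show (E.subgroupOf (normalizerIn S E)).index = p
  rw [← hker, Subgroup.index_ker, hr, h.T_card]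

theorem T_eq_zpowers {g : Ω} (hg : g ∈ normalizerIn S E) (hgE : g ∉ E) :
    (autInducedBy S E).map ρ = Subgroup.zpowers (ρ (conjAut E hg.2)) := by
  haveI := TransvectionCube.finite_aut (V := V)
  have hm : ρ (conjAut E hg.2) ∈ (autInducedBy S E).map ρ :=
    ⟨_, conjAut_mem_autInducedBy hg.2 hg.1, rfl⟩
  refine (Subgroup.eq_of_le_of_card_ge (Subgroup.zpowers_le.2 hm) ?_).symm
  rw [h.T_card, Nat.card_zpowers]
  rcases (Nat.dvd_prime hp.out).1 (h.T_card ▸ Subgroup.orderOf_dvd_natCard _ hm) with e | e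
  · exact absurd (orderOf_eq_one_iff.1 e) fun e' => hgE (h.mem_of_ker hg e')
  · exact e.ge

theorem not_normal {U : Subgroup (MulAut V)} (hU : U ≤ (F.autGroup E).map ρ) (hUp : IsPGroup p U)
    (hUn : ∀ g ∈ (F.autGroup E).map ρ, ∀ u ∈ U, g * u * g⁻¹ ∈ U)
    (hTU : (autInducedBy S E).map ρ ≤ U) : False := by
  haveI := finite_of_le h.le
  haveI := finite_mulAut E
  refine false_of_normal h.pgroup (ne_of_isEssential h.pgroup h.sat h.ess) h.ess
    ((U.comap ρ).subgroupOf (F.autGroup E)) ?_ ?_ fun α hα => hTU ⟨_, hα, rfl⟩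
  · refine ⟨fun a ha g => ?_⟩
    show ρ ((g : MulAut E) * (a : MulAut E) * (g : MulAut E)⁻¹) ∈ U
    rw [map_mul, map_mul, map_inv]
    exact hUn _ ⟨_, g.2, rfl⟩ _ ha
  · intro a
    obtain ⟨k, hk⟩ := hUp ⟨ρ (a : F.autGroup E), a.2⟩
    have h1 : ((a : F.autGroup E) : MulAut E) ^ p ^ k ∈ autInducedBy E E :=
      h.mem_inn ((F.autGroup E).pow_mem a.1.2 _) (by
        rw [map_pow]
        exact congrArg Subtype.val hk)
    obtain ⟨j, hj⟩ := isPGroup_autInducedBy h.pE E ⟨_, h1⟩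
    refine ⟨k + j, Subtype.ext (Subtype.ext ?_)⟩
    rw [pow_add, pow_mul]
    simpa using congrArg Subtype.val hj

theorem step {K C : Subgroup V} (hKC : K ≤ C) (hc : Nat.card C ≤ p * Nat.card K)
    {u : MulAut V} (hu : u ∈ (autInducedBy S E).map ρ)
    (hK : ∀ x ∈ K, u x ∈ K) (hC : ∀ x ∈ C, u x ∈ C) : ∀ y ∈ C, y⁻¹ * u y ∈ K := by
  haveI := TransvectionCube.finite_aut (V := V)
  rcases eq_or_lt_of_le hKC with rfl | hlt
  · exact fun y hy => K.mul_mem (K.inv_mem hy) (hK y hy)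
  have hKi : K.relIndex C = p := by
    have h1 : Nat.card C = K.relIndex C * Nat.card K := by
      have := (K.subgroupOf C).index_mul_card
      rw [Nat.card_congr (Subgroup.subgroupOfEquivOfLe hKC).toEquiv] at this
      exact this.symm
    obtain ⟨j, hj⟩ := (h.pV.to_subgroup C).index (K.subgroupOf C)
    have hj' : K.relIndex C = p ^ j := hj
    have hle : K.relIndex C ≤ p := Nat.le_of_mul_le_mul_right (h1 ▸ hc) Nat.card_pos
    have hj0 : j ≠ 0 := fun e => hlt.not_ge (Subgroup.relIndex_eq_one.1 (by rw [hj', e, pow_zero]))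
    rw [hj'] at hle ⊢
    have hj1 : j ≤ 1 := (Nat.pow_le_pow_iff_right hp.out.one_lt).1 (by rwa [pow_one])
    rw [show j = 1 by omega, pow_one]
  obtain ⟨k, hk⟩ := h.pT ⟨u, hu⟩
  exact step_stabilised (smallStep_of_relIndex hp.out hKC hKi) hK hC (congrArg Subtype.val hk)

theorem inv_T {C : Subgroup V} (hC : ∀ g ∈ (F.autGroup E).map ρ, ∀ x ∈ C, g x ∈ C)
    {u : MulAut V} (hu : u ∈ (autInducedBy S E).map ρ) : ∀ x ∈ C, u x ∈ C :=
  hC u (h.T_le hu)

theorem fix_small {C : Subgroup V} (hC : ∀ g ∈ (F.autGroup E).map ρ, ∀ x ∈ C, g x ∈ C)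
    (hc : Nat.card C ≤ p) {u : MulAut V} (hu : u ∈ (autInducedBy S E).map ρ) :
    ∀ x ∈ C, u x = x := fun x hx => by
  have := h.step bot_le (C := C) (by rwa [Subgroup.card_bot, mul_one]) hu
    (fun y hy => by rw [Subgroup.mem_bot.1 hy, map_one]; exact one_mem _) (h.inv_T hC hu) x hx
  exact (inv_mul_eq_one.1 (Subgroup.mem_bot.1 this)).symm

/-- No invariant flag is stabilised by the automorphisms induced from `S`. -/
theorem flag {C₁ C₂ : Subgroup V} (hle : C₁ ≤ C₂)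
    (h1 : ∀ g ∈ (F.autGroup E).map ρ, ∀ x ∈ C₁, g x ∈ C₁)
    (h2 : ∀ g ∈ (F.autGroup E).map ρ, ∀ x ∈ C₂, g x ∈ C₂)
    (ht : ∀ u ∈ (autInducedBy S E).map ρ, u ∈ seriesStab C₁ C₂ hle) : False := by
  haveI := TransvectionCube.finite_aut (V := V)
  refine h.not_normal (U := (F.autGroup E).map ρ ⊓ seriesStab C₁ C₂ hle) inf_le_left
    ((isPGroup_seriesStab h.pV _ _ hle).to_le inf_le_right) (fun g hg u hu => ?_)
    fun u hu => ⟨h.T_le hu, ht u hu⟩
  obtain ⟨huG, hus⟩ := hu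
  obtain ⟨a1, a2, a3⟩ := mem_seriesStab.1 hus
  have hgi : g⁻¹ ∈ (F.autGroup E).map ρ := Subgroup.inv_mem _ hg
  refine ⟨Subgroup.mul_mem _ (Subgroup.mul_mem _ hg huG) hgi, mem_seriesStab.2 ⟨fun x hx => ?_, fun x hx => ?_,
    fun x => ?_⟩⟩
  · show g (u (g⁻¹ x)) = x
    rw [a1 _ (h1 _ hgi x hx), MulAut.apply_inv_self]
  · obtain ⟨y, rfl⟩ := g.surjective x
    show (g y)⁻¹ * g (u (g⁻¹ (g y))) ∈ C₁
    rw [MulAut.inv_apply_self, ← map_inv, ← map_mul]
    exact h1 g hg _ (a2 y (by simpa using h2 _ hgi _ hx))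
  · obtain ⟨y, rfl⟩ := g.surjective x
    show (g y)⁻¹ * g (u (g⁻¹ (g y))) ∈ C₂
    rw [MulAut.inv_apply_self, ← map_inv, ← map_mul]
    exact h2 g hg _ (a3 y)

theorem exists_conj_notMem {U : Subgroup (MulAut V)} (hU : U ≤ (F.autGroup E).map ρ)
    (hUp : IsPGroup p U) (hTU : (autInducedBy S E).map ρ ≤ U) :
    ∃ g ∈ (F.autGroup E).map ρ, ∃ u ∈ (autInducedBy S E).map ρ, g * u * g⁻¹ ∉ U := by
  by_contra hc
  push Not at hc
  refine h.not_normal hU hUp (fun g hg u hu => ?_) hTU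
  exact hc g hg u ((h.eq_T hU hUp hTU).le hu)

end Ess

end CfsgLib.RankThree
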