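import Cfsg.Agent.Lib.Fusion.RankThree.Power
import Cfsg.Agent.Lib.Fusion.AgreeCentric

/-!
An essential subgroup with Frattini quotient of order `p ^ 3` is normal in a Sylow group of
sectional rank three, `p ≥ 5`.
-/

set_option autoImplicit false
set_option linter.style.haveILetI false
set_option linter.unusedSectionVars false

namespace CfsgLib.RankThree

open Cfsg Cfsg.FusionSystem CfsgLib.Fusion CfsgLib.Fusion.Transvections
open scoped commutatorElement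

universe u

/-- A unit of `ZMod p` avoiding the small roots of unity. -/
theorem exists_scalar {p : ℕ} [hp : Fact p.Prime] (hp5 : 5 ≤ p) :
    ∃ (r : ℤ) (s : ℕ), ((r * s : ℤ) : ZMod p) = 1 ∧ (s : ZMod p) ^ 2 ≠ 1 ∧
      (s : ZMod p) ^ 3 ≠ 1 ∧ (s : ZMod p) ^ 5 ≠ 1 := by
  obtain ⟨g, hg⟩ := IsCyclic.exists_ofOrder_eq_natCard (α := (ZMod p)ˣ)
  have hord : orderOf g = p - 1 := by
    rw [hg, Nat.card_eq_fintype_card, ZMod.card_units_eq_totient, Nat.totient_prime hp.out]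
  have hne : ∀ n : ℕ, ¬ p - 1 ∣ n → (g : ZMod p) ^ n ≠ 1 := fun n hn e => hn (hord ▸
    orderOf_dvd_of_pow_eq_one (Units.ext (by rw [Units.val_pow_eq_pow_val, e, Units.val_one])))
  have hodd : Odd p := hp.out.odd_of_ne_two (by omega)
  refine ⟨(((g⁻¹ : (ZMod p)ˣ) : ZMod p).val : ℤ), (g : ZMod p).val, ?_, ?_, ?_, ?_⟩
  · push_cast
    rw [ZMod.natCast_zmod_val, ZMod.natCast_zmod_val]
    exact inv_mul_cancel₀ g.ne_zero
  all_goals rw [ZMod.natCast_zmod_val]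
  · exact hne 2 fun h => by have := Nat.le_of_dvd (by norm_num) h; omega
  · exact hne 3 fun h => by have := Nat.le_of_dvd (by norm_num) h; omega
  · refine hne 5 fun h => ?_
    obtain ⟨a, ha⟩ := hodd
    rcases (Nat.dvd_prime Nat.prime_five).1 h with e | e <;> omega

variable {Ω : Type u} [Group Ω] {S : Subgroup Ω} [Finite S] {F : FusionSystem S} {p : ℕ}
  [hp : Fact p.Prime] {E : Subgroup Ω} {V : Type u} [CommGroup V] [Finite V]
  {q : E →* V} {ρ : MulAut E →* MulAut V}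

theorem exists_step (hS : IsPGroup p S) {N : Subgroup Ω} (hNS : N ≤ S) (hne : N ≠ S) :
    ∃ x ∈ normalizerIn S N, x ∉ N ∧ x ^ p ∈ N := by
  classical
  obtain ⟨g, hg, hgN⟩ := SetLike.exists_of_lt (lt_normalizerIn hS hNS hne)
  have hex : ∃ j : ℕ, g ^ p ^ j ∈ N := by
    obtain ⟨j, hj⟩ := hS ⟨g, hg.1⟩
    have hj' : g ^ p ^ j = 1 := congrArg Subtype.val hj
    exact ⟨j, hj' ▸ N.one_mem⟩
  obtain ⟨i, hi⟩ : ∃ i, Nat.find hex = i + 1 := by
    refine ⟨Nat.find hex - 1, (Nat.sub_add_cancel ?_).symm⟩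
    rw [Nat.one_le_iff_ne_zero]
    intro e
    have := Nat.find_spec hex
    rw [e, pow_zero, pow_one] at this
    exact hgN this
  refine ⟨g ^ p ^ i, Subgroup.pow_mem _ hg _, Nat.find_min hex (by omega), ?_⟩
  rw [← pow_mul, ← pow_succ, ← hi]
  exact Nat.find_spec hex

/-- An essential subgroup with Frattini quotient of order `p ^ 3` is normal in `S`. -/
theorem Ess.normal_in_S (h : Ess F p E q ρ) (hp5 : 5 ≤ p)
    (hsr : Cfsg.SectionalPRankLE p 3 S) : S ≤ Subgroup.normalizer (E : Set Ω) := by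
  classical
  by_contra hnn
  have hp2 : p ≠ 2 := by omega
  have hpp := hp.out
  haveI := TransvectionCube.finite_aut (V := V)
  haveI := finite_of_le h.le
  haveI := finite_mulAut E
  obtain ⟨N, hN⟩ : ∃ N, N = normalizerIn S E := ⟨_, rfl⟩
  have hNS : N ≤ S := hN ▸ inf_le_left
  have hneS : N ≠ S := fun e => hnn (e.ge.trans (hN ▸ inf_le_right))
  obtain ⟨x, hx, hxN, hxp⟩ := exists_step h.pgroup hNS hneS
  obtain ⟨r, s, hrs, hs2, hs3, hs5⟩ := exists_scalar (p := p) hp5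
  rw [hN] at hx hxN hxp
  obtain ⟨u, K, L, P, c, t, hA⟩ := h.amalgam hp2 hsr hx hxN hxp
  obtain ⟨k, α, f, hl⟩ := hA.lift h hp2 hrs (by exact_mod_cast hs2)
  rw [← hN] at hx hxN hxp
  have hrs' : (r : ZMod p) * (s : ZMod p) = 1 := by exact_mod_cast hrs
  have hEN : E ≤ N := hN ▸ le_normalizerIn h.le
  have hfN : IsIso F N N f := hN ▸ hl.iso
  haveI : Finite N := finite_of_le hNS
  obtain ⟨X, hX⟩ : ∃ X, X = N ⊔ Subgroup.zpowers x := ⟨_, rfl⟩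
  have hNX : N ≤ X := hX ▸ le_sup_left
  have hEX : E ≤ X := hEN.trans hNX
  have hXS : X ≤ S := hX ▸ sup_le hNS (Subgroup.zpowers_le.2 hx.1)
  haveI : Finite X := finite_of_le hXS
  have hxX : x ∈ X := hX ▸ Subgroup.mem_sup_right (Subgroup.mem_zpowers x)
  have hNid := index_of_generated hx.2 hxN hxp
  rw [← hX] at hNid
  haveI hNn := hNid.1
  have hNi := hNid.2
  have hXN : ∀ g ∈ X, ∀ n ∈ N, g * n * g⁻¹ ∈ N := fun g hg n hn =>
    hNn.conj_mem ⟨n, hNX hn⟩ hn ⟨g, hg⟩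
  -- the kernel of the quotient
  obtain ⟨A, hAdef⟩ : ∃ A, A = pre q (⊥ : Subgroup V) := ⟨_, rfl⟩
  have hAE : A ≤ E := hAdef ▸ pre_le
  have hmemA : ∀ {e : E}, (e : Ω) ∈ A ↔ q e = 1 := fun {e} => by
    rw [hAdef, mem_pre, Subgroup.mem_bot]
  have hpcN : powComm p N ≤ pre q c := by
    refine (Subgroup.closure_le _).2 ?_
    rintro z (⟨n, hn, rfl⟩ | ⟨n, hn, n', hn', rfl⟩)
    · exact pre_mono bot_le (hl.powA n (hN ▸ hn))
    · exact hA.comm_mem h (hN ▸ hn) (hN ▸ hn')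
  have hAeq : ∀ z, z ∈ A ↔ z ∈ K ∧ z ∈ powComm p N := by
    refine fun z => ⟨fun hz => ?_, fun ⟨hzK, hzP⟩ => ?_⟩
    · have hzq : q ⟨z, hAE hz⟩ = 1 := hmemA.1 hz
      exact ⟨hA.Kker _ hzq, powComm_mono p hEN (le_powComm_of_frattini ((h.ker _).1 hzq))⟩
    · have hzE : z ∈ E := hA.Kle hzK
      refine (hmemA (e := ⟨z, hzE⟩)).2 ?_
      have : q ⟨z, hzE⟩ ∈ c ⊓ L := ⟨(mem_pre' hzE).1 (hpcN hzP), hA.KL ⟨z, hzE⟩ hzK⟩
      rw [hA.cL] at this
      exact Subgroup.mem_bot.1 this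
  have hAn : ∀ g ∈ X, ∀ z ∈ A, g * z * g⁻¹ ∈ A := fun g hg z hz => by
    obtain ⟨h1, h2⟩ := (hAeq z).1 hz
    exact (hAeq _).2 ⟨hA.Kn g (hN ▸ hX ▸ hg) z h1, conj_mem_powComm (hXN g hg) z h2⟩
  haveI hAXn : (A.subgroupOf X).Normal := normal_subgroupOf hAn
  obtain ⟨π, hπ⟩ : ∃ π : X →* X ⧸ A.subgroupOf X, π = QuotientGroup.mk' (A.subgroupOf X) :=
    ⟨_, rfl⟩
  have hπs : Function.Surjective π := hπ ▸ QuotientGroup.mk'_surjective _
  have hπ1 : ∀ g : X, π g = 1 ↔ (g : Ω) ∈ A := fun g => hπ ▸ QuotientGroup.eq_one_iff g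
  -- the images
  obtain ⟨φ, hφ⟩ : ∃ φ : E →* X ⧸ A.subgroupOf X, ∀ e : E, φ e = π ⟨e, hEX e.2⟩ :=
    ⟨π.comp (Subgroup.inclusion hEX), fun _ => rfl⟩
  have hφker : φ.ker = q.ker := by
    ext e
    rw [MonoidHom.mem_ker, MonoidHom.mem_ker, hφ, hπ1]
    exact hmemA
  have hφq : ∀ {e e' : E}, φ e = φ e' ↔ q e = q e' := fun {e e'} => by
    rw [MonoidHom.eq_iff, MonoidHom.eq_iff, hφker]
  obtain ⟨im, him⟩ : ∃ im : Subgroup V → Subgroup (X ⧸ A.subgroupOf X),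
      ∀ R, im R = (R.comap q).map φ := ⟨_, fun _ => rfl⟩
  have hmim : ∀ {R : Subgroup V} (g : X), π g ∈ im R ↔ (g : Ω) ∈ pre q R := by
    intro R g
    rw [him]
    refine ⟨fun ⟨e, he, hg⟩ => ?_, fun ⟨e, he, hg⟩ => ⟨e, he, ?_⟩⟩
    · rw [hφ, hπ, QuotientGroup.mk'_apply, QuotientGroup.mk'_apply, QuotientGroup.eq] at hg
      have h1 : (e : Ω)⁻¹ * g ∈ pre q R := pre_mono bot_le (hAdef ▸ hg : _ ∈ pre q (⊥ : Subgroup V))
      have h2 := (pre q R).mul_mem ((mem_pre (e := e)).2 he) h1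
      rwa [mul_inv_cancel_left] at h2
    · rw [hφ]
      congr 1
      exact Subtype.ext hg
  have himc : ∀ R, Nat.card (im R) = Nat.card R := by
    intro R
    rw [him, ← Subgroup.relIndex_ker, hφker, Subgroup.relIndex_ker,
      Subgroup.map_comap_eq_self_of_surjective h.surj R]
  have himmono : ∀ {R R' : Subgroup V}, R ≤ R' → im R ≤ im R' := fun {R R'} hle => by
    rw [him, him]; exact Subgroup.map_mono (Subgroup.comap_mono hle)
  have hmtop : ∀ g : X, π g ∈ im ⊤ ↔ (g : Ω) ∈ E := fun g => by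
    rw [hmim]
    exact ⟨fun hh => pre_le hh, fun hh => (mem_pre' hh).2 (Subgroup.mem_top _)⟩
  obtain ⟨Nb, hNb⟩ : ∃ Nb, Nb = (N.subgroupOf X).map π := ⟨_, rfl⟩
  have hmN : ∀ g : X, π g ∈ Nb ↔ (g : Ω) ∈ N := fun g => by
    rw [hNb, hπ]; exact mem_map_iff (hAE.trans hEN) g
  have hNbn : Nb.Normal := hNb ▸ Subgroup.Normal.map inferInstance _ hπs
  haveI := hNbn
  have hY : IsPGroup p (X ⧸ A.subgroupOf X) := (h.pgroup.to_le hXS).to_quotient _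
  have hkerN : π.ker ≤ N.subgroupOf X := by
    rw [hπ, QuotientGroup.ker_mk']; exact fun g hg => hEN (hAE hg)
  have hNbi : Nb.index = p := by rw [hNb, Subgroup.index_map_eq _ hπs hkerN, hNi]
  obtain ⟨Vb, hVb⟩ : ∃ Vb, Vb = im ⊤ := ⟨_, rfl⟩
  obtain ⟨Jb, hJb⟩ : ∃ Jb, Jb = im P := ⟨_, rfl⟩
  obtain ⟨Cb, hCb⟩ : ∃ Cb, Cb = im c := ⟨_, rfl⟩
  have hmV : ∀ g : X, π g ∈ Vb ↔ (g : Ω) ∈ E := fun g => hVb ▸ hmtop g
  have hmJ : ∀ g : X, π g ∈ Jb ↔ (g : Ω) ∈ pre q P := fun g => hJb ▸ hmim g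
  have hmC : ∀ g : X, π g ∈ Cb ↔ (g : Ω) ∈ pre q c := fun g => hCb ▸ hmim g
  have hVN : Vb ≤ Nb := fun z hz => by
    obtain ⟨g, rfl⟩ := hπs z; exact (hmN g).2 (hEN ((hmV g).1 hz))
  have hVbeq : Vb = (E.subgroupOf X).map π := by
    ext z
    obtain ⟨g, rfl⟩ := hπs z
    rw [hmV, hπ, mem_map_iff hAE]
  have hVc3 : Nat.card Vb = p ^ 3 := by rw [hVb, himc, Subgroup.card_top, h.card]
  have hVrel : Vb.relIndex Nb = p := by
    rw [hVbeq, hNb, Subgroup.relIndex_map_map, hπ, QuotientGroup.ker_mk', sup_eq_left.2,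
      sup_eq_left.2, Subgroup.relIndex_subgroupOf hNX, hN, h.relIndex]
    · exact fun g hg => hEN (hAE hg)
    · exact fun g hg => hAE hg
  have hNc4 : Nat.card Nb = p ^ 4 := by
    have h1 := (Vb.subgroupOf Nb).index_mul_card
    rw [show (Vb.subgroupOf Nb).index = p from hVrel,
      Nat.card_congr (Subgroup.subgroupOfEquivOfLe hVN).toEquiv, hVc3, ← pow_succ'] at h1
    exact h1.symm
  have hPc : Nat.card P = p ^ 2 := by
    have h1 := P.index_mul_card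
    rw [hA.tr.index, h.card, pow_succ'] at h1
    exact Nat.eq_of_mul_eq_mul_left hpp.pos h1
  have hJc2 : Nat.card Jb = p ^ 2 := by rw [hJb, himc, hPc]
  have hJV : Jb ≤ Vb := hJb ▸ hVb ▸ himmono le_top
  have hexp : ∀ z ∈ Nb, z ^ p = 1 := by
    intro z hz
    obtain ⟨g, rfl⟩ := hπs z
    rw [← map_pow, hπ1]
    rw [hAdef]
    simpa using hl.powA _ (hN ▸ (hmN g).1 hz)
  have hJcom : ∀ j ∈ Jb, ∀ n ∈ Nb, j * n = n * j := by
    intro j hj n hn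
    obtain ⟨g, rfl⟩ := hπs j
    obtain ⟨m, rfl⟩ := hπs n
    have hgP := (hmJ g).1 hj
    have hgE : (g : Ω) ∈ E := pre_le hgP
    have hmn : (m : Ω) ∈ normalizerIn S E := hN ▸ (hmN m).1 hn
    have h1 : φ (conjAut E hmn.2 ⟨g, hgE⟩) = φ ⟨g, hgE⟩ := by
      rw [hφq, ← h.nat, hA.fixP h hmn ((mem_pre' hgE).1 hgP)]
    rw [hφ, hφ] at h1
    rw [eq_comm, ← mul_inv_eq_iff_eq_mul, ← map_inv, ← map_mul, ← map_mul]
    refine Eq.trans (congrArg π (Subtype.ext ?_)) h1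
    rw [conjAut_apply]
    rfl
  have hJn : Jb.Normal := by
    refine ⟨fun j hj y => ?_⟩
    have hjN : y * j * y⁻¹ ∈ Nb := hNbn.conj_mem j (hVN (hJV hj)) y
    have hcen : ∀ n ∈ Nb, Commute (y * j * y⁻¹) n := fun n hn => by
      have h1 : Commute j (y⁻¹ * n * y⁻¹⁻¹) := hJcom j hj _ (hNbn.conj_mem n hn y⁻¹)
      have h2 := h1.map (MulAut.conj y).toMonoidHom
      simpa [mul_assoc] using h2
    obtain ⟨g, hg⟩ := hπs (y * j * y⁻¹)
    rw [← hg] at hjN hcen ⊢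
    have hgn : (g : Ω) ∈ normalizerIn S E := hN ▸ (hmN g).1 hjN
    have hconj : ∀ (n : X) (hn : (n : Ω) ∈ normalizerIn S E) (e : E), Commute (π n) (φ e) →
        ρ (conjAut E hn.2) (q e) = q e := fun n hn e hc => by
      rw [h.nat, ← hφq, hφ]
      refine Eq.trans (congrArg π (Subtype.ext ?_) : _ = π (n * ⟨e, hEX e.2⟩ * n⁻¹)) ?_
      · rw [conjAut_apply]; rfl
      · rw [map_mul, map_mul, map_inv, ← hφ, hc.eq, mul_inv_cancel_right]
    have hgE : (g : Ω) ∈ E := by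
      refine h.mem_of_ker hgn (MulEquiv.ext fun w => ?_)
      obtain ⟨e, rfl⟩ := h.surj w
      refine hconj g hgn e (hcen _ ?_)
      rw [hφ]
      exact (hmN _).2 (hEN e.2)
    rw [hmJ, mem_pre' hgE, ← hA.tr.fix, ← hA.teq]
    refine hconj ⟨u, hNX (hN ▸ hA.hu)⟩ hA.hu ⟨g, hgE⟩ ?_
    rw [hφ]
    exact (hcen _ ((hmN _).2 (hN ▸ hA.hu))).symm
  obtain ⟨xb, hxb⟩ : ∃ xb, xb = π ⟨x, hxX⟩ := ⟨_, rfl⟩
  have hxbN : xb ∉ Nb := fun hh => hxN ((hmN _).1 (hxb ▸ hh))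
  have hVn : ∀ y, y ∉ Nb → ∃ v ∈ Vb, y * v * y⁻¹ ∉ Vb := by
    intro y hy
    by_contra hc
    push Not at hc
    obtain ⟨g, rfl⟩ := hπs y
    refine hy ((hmN g).2 (hN ▸ ⟨hXS g.2, mem_normalizer_of_conj_mem h.le fun e he => ?_⟩))
    have h1 := hc _ ((hmV ⟨e, hEX he⟩).2 he)
    rw [← map_inv, ← map_mul, ← map_mul, hmV] at h1
    exact h1
  obtain ⟨hMn, hMN, hMc, hMV, hWconj⟩ :=
    frame hY hNbn hNbi hNc4 hVN hVc3 hJV hJc2 hJn hexp hxbN hVn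
  obtain ⟨M, hM⟩ : ∃ M, M = Jb ⊔ ⁅Nb, (⊤ : Subgroup (X ⧸ A.subgroupOf X))⁆ := ⟨_, rfl⟩
  rw [← hM] at hMn hMN hMc hMV hWconj
  haveI := hMn
  haveI := hJn
  have hJM : Jb ≤ M := hM ▸ le_sup_left
  obtain ⟨M0, hM0⟩ : ∃ M0, M0 = (M.comap π).map X.subtype := ⟨_, rfl⟩
  have hmM : ∀ g : X, (g : Ω) ∈ M0 ↔ π g ∈ M := fun g => by
    rw [hM0]
    exact ⟨fun ⟨g', hg', he⟩ => (Subtype.ext he : g' = g) ▸ hg', fun hg => ⟨g, hg, rfl⟩⟩
  have hM0N : M0 ≤ N := by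
    rw [hM0]
    rintro _ ⟨g, hg, rfl⟩
    exact (hmN g).1 (hMN hg)
  have hAM0 : A ≤ M0 := fun z hz => (hmM ⟨z, hNX (hEN (hAE hz))⟩).2 (by
    rw [(hπ1 _).2 hz]; exact M.one_mem)
  -- the torus preserves the preimages
  have hr0 : ((r : ℤ) : ZMod p) ≠ 0 := fun e => by
    rw [e, zero_mul] at hrs'; exact zero_ne_one hrs'
  have hzpow : ∀ (y : V) (a b : ℤ), (a : ZMod p) = b → y ^ a = y ^ b := fun y a b hab => by
    obtain ⟨d, hd⟩ := (ZMod.intCast_eq_intCast_iff_dvd_sub a b p).1 hab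
    rw [show b = a + p * d by omega, zpow_add, zpow_mul, zpow_natCast, h.exp, one_zpow, mul_one]
  have hkP : ∀ y, k y ∈ P ↔ y ∈ P := by
    intro y
    have h1 := hl.modP y
    refine ⟨fun hy => ?_, fun hy => ?_⟩
    · have h2 : y ^ r ∈ P := by
        have := P.mul_mem hy (P.inv_mem h1)
        rwa [mul_inv_rev, inv_inv, mul_inv_cancel_left] at this
      have h3 := P.zpow_mem h2 (s : ℤ)
      rwa [← zpow_mul, hzpow y _ 1 (by push_cast; exact hrs'), zpow_one] at h3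
    · have := P.mul_mem (P.zpow_mem hy r) h1
      rwa [mul_inv_cancel_left] at this
  have hkc : ∀ y, k y ∈ c ↔ y ∈ c := by
    intro y
    refine ⟨fun hy => ?_, fun hy => ?_⟩
    · have h1 : k ((k y) ^ r) = k y := by
        rw [map_zpow, hl.onc _ hy, ← zpow_mul, hzpow _ _ 1 (by
          push_cast; rw [mul_comm]; exact hrs'), zpow_one]
      rw [← k.injective h1]
      exact c.zpow_mem hy r
    · rw [hl.onc y hy]; exact c.zpow_mem hy _
  have hfR : ∀ {R : Subgroup V}, (∀ y, k y ∈ R ↔ y ∈ R) → ∀ z ∈ N,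
      (f z ∈ pre q R ↔ z ∈ pre q R) := by
    intro R hR z hz
    refine ⟨fun hfz => ?_, fun hz' => ?_⟩
    · obtain ⟨e', he'⟩ : ∃ e' : E, (e' : Ω) = f z := ⟨⟨f z, pre_le hfz⟩, rfl⟩
      obtain ⟨e, rfl⟩ : ∃ e : E, α e = e' := ⟨α.symm e', α.apply_symm_apply e'⟩
      rw [← hl.ext] at he'
      have hze : (e : Ω) = z := hfN.isMap.injOn (hEN e.2) hz he'
      rw [← hze] at hfz ⊢
      rw [hl.ext, mem_pre, hl.act, hR] at hfz
      exact mem_pre.2 hfz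
    · obtain ⟨e, he⟩ : ∃ e : E, (e : Ω) = z := ⟨⟨z, pre_le hz'⟩, rfl⟩
      rw [← he] at hz' ⊢
      rw [hl.ext, mem_pre, hl.act, hR]
      exact mem_pre.1 hz'
  have hkbot : ∀ y : V, k y ∈ (⊥ : Subgroup V) ↔ y ∈ (⊥ : Subgroup V) := fun y => by
    simp [Subgroup.mem_bot]
  -- the middle subgroup is invariant
  obtain ⟨W0, hW0⟩ := (hfN.isMap.mono hM0N).exists_iso
  have hW0N : W0 ≤ N := fun z hz => by
    obtain ⟨y, hy, rfl⟩ := hW0.surj hz
    exact hfN.mem (hM0N hy)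
  have hWJ : ∀ z ∈ pre q P, z ∈ W0 := by
    intro z hz
    obtain ⟨y, hy, rfl⟩ := hfN.surj (hEN (pre_le hz))
    refine hW0.mem ((hmM ⟨y, hNX hy⟩).2 (hJM ((hmJ _).2 ?_)))
    exact (hfR hkP y hy).1 hz
  have hAW : A ≤ W0 := fun z hz => hWJ z (pre_mono bot_le (hAdef ▸ hz))
  haveI : Finite A := finite_of_le (hAE.trans h.le)
  have hidx : ∀ {R : Subgroup Ω}, A ≤ R → R ≤ X →
      Nat.card ((R.subgroupOf X).map π) * Nat.card A = Nat.card R := by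
    intro R hAR hRX
    have h1 := (A.subgroupOf R).index_mul_card
    rw [Nat.card_congr (Subgroup.subgroupOfEquivOfLe hAR).toEquiv] at h1
    rw [← Subgroup.relIndex_ker, hπ, QuotientGroup.ker_mk', Subgroup.relIndex_subgroupOf hRX]
    exact h1
  have hM0X : (M0.subgroupOf X).map π = M := by
    ext z
    obtain ⟨g, rfl⟩ := hπs z
    rw [hπ, mem_map_iff hAM0, hmM, hπ]
  have hcardM0 : Nat.card M0 = Nat.card E := by
    rw [← hidx hAM0 (hM0N.trans hNX), hM0X, hMc, ← hidx hAE hEX, ← hVbeq, hVc3]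
  have hW0M : W0 = M0 := by
    by_contra hne
    obtain ⟨Wb, hWb⟩ : ∃ Wb, Wb = (W0.subgroupOf X).map π := ⟨_, rfl⟩
    have hmW : ∀ g : X, π g ∈ Wb ↔ (g : Ω) ∈ W0 := fun g => by
      rw [hWb, hπ]; exact mem_map_iff hAW g
    have hWc : Nat.card Wb = p ^ 3 := by
      have h1 := hidx hAW (hW0N.trans hNX)
      rw [← hWb, hW0.card_eq, hcardM0, ← hidx hAE hEX, ← hVbeq, hVc3] at h1
      exact Nat.eq_of_mul_eq_mul_right Nat.card_pos h1
    obtain ⟨i, hi⟩ := hWconj Wb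
      (fun z hz => by obtain ⟨g, rfl⟩ := hπs z; exact (hmN g).2 (hW0N ((hmW g).1 hz)))
      (fun z hz => by
        obtain ⟨g, rfl⟩ := hπs z
        exact (hmW g).2 (hWJ _ ((hmJ g).1 hz)))
      hWc (fun e => hne (by
        ext z
        refine ⟨fun hz => ?_, fun hz => ?_⟩
        · exact (hmM ⟨z, hNX (hW0N hz)⟩).2 (e ▸ (hmW _).2 hz)
        · exact (hmW ⟨z, hNX (hM0N hz)⟩).1 (e.symm ▸ (hmM _).1 hz)))
    have hconj : IsMap F E fun z => x ^ i * z * (x ^ i)⁻¹ :=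
      isMap_conj h.le (S.pow_mem hx.1 i)
    haveI : Finite W0 := finite_of_le hW0.le_right
    have hconjW : IsIso F E W0 fun z => x ^ i * z * (x ^ i)⁻¹ := by
      refine hconj.isIso_of_card_le (fun z hz => ?_) (by rw [hW0.card_eq, hcardM0])
      have h1 := hi _ ((hmV ⟨z, hEX hz⟩).2 hz)
      rw [hxb, ← map_pow, ← map_inv, ← map_mul, ← map_mul, hmW] at h1
      simpa using h1
    have hMconj := isConj_trans hconjW.isConj (isConj_symm hW0.isConj)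
    haveI : Finite (normalizerIn S M0) := finite_of_le inf_le_left
    have hXM : X ≤ normalizerIn S M0 := fun g hg =>
      ⟨hXS hg, mem_normalizer_of_conj_mem (hM0N.trans hNS) fun z hz => by
        have h1 := hMn.conj_mem _ ((hmM ⟨z, hNX (hM0N hz)⟩).1 hz) (π ⟨g, hg⟩)
        rw [← map_inv, ← map_mul, ← map_mul, ← hmM] at h1
        exact h1⟩
    have h1 := (Subgroup.card_le_of_le hXM).trans (h.ess.2.1.2 M0 hMconj)
    exact hxN ((Subgroup.eq_of_le_of_card_ge hNX (hN ▸ h1)).ge hxX)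
  have hfM0 : ∀ z ∈ M0, f z ∈ M0 := fun z hz => hW0M.le (hW0.mem hz)
  -- the congruence modulo `J`
  obtain ⟨ψ, hψ⟩ : ∃ ψ : X →* (X ⧸ A.subgroupOf X) ⧸ Jb, ψ = (QuotientGroup.mk' Jb).comp π :=
    ⟨_, rfl⟩
  have hψ1 : ∀ g : X, ψ g = 1 ↔ (g : Ω) ∈ pre q P := fun g => by
    rw [hψ, MonoidHom.comp_apply, QuotientGroup.mk'_apply, QuotientGroup.eq_one_iff, hmJ]
  have hψeq : ∀ {a b : X}, ψ a = ψ b ↔ (a : Ω)⁻¹ * b ∈ pre q P := fun {a b} => by
    rw [← inv_mul_eq_one, ← map_inv, ← map_mul, hψ1]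
    simp
  have hMV0 : ∀ g : X, π g ∈ M → (g : Ω) ∈ E → (g : Ω) ∈ pre q P := fun g hg hgE =>
    (hmJ g).1 (hMV _ hg ((hmV g).2 hgE))
  have hψM : ∀ g : X, (g : Ω) ∈ M0 → ∃ hg : f g ∈ X, ψ ⟨_, hg⟩ = ψ g ^ (s ^ 2) ∧ ψ g ^ p = 1 := by
    intro g hg
    have hgN := hM0N hg
    refine ⟨hNX (hfN.mem hgN), ?_, ?_⟩
    · obtain ⟨m, hm, hme⟩ := hl.expn _ (hN ▸ hgN)
      have hψp : ψ g ^ p = 1 := by
        rw [← map_pow, hψ1]
        simpa using pre_mono bot_le (hl.powA _ (hN ▸ hgN))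
      have hms : ψ g ^ m = ψ g ^ (s ^ 2) := by
        refine pow_eq_pow_iff_modEq.2 (Nat.ModEq.of_dvd (orderOf_dvd_of_pow_eq_one hψp) ?_)
        rw [← ZMod.natCast_eq_natCast_iff]
        push_cast
        exact_mod_cast hm
      rw [← hms, ← map_pow, eq_comm, hψeq]
      have hgm : ((g ^ m : X) : Ω) ∈ M0 := by simpa using M0.pow_mem hg m
      simpa using hMV0 ⟨_, hEX hme⟩
        ((hmM ⟨_, hEX hme⟩).1 (M0.mul_mem (M0.inv_mem (M0.pow_mem hg m)) (hfM0 _ hg))) hme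
    · rw [← map_pow, hψ1]
      simpa using pre_mono bot_le (hl.powA _ (hN ▸ hgN))
  -- the commutator subgroup
  have hCN : Cb = ⁅Nb, Nb⁆ := by
    refine le_antisymm (fun z hz => ?_) ?_
    · obtain ⟨g, rfl⟩ := hπs z
      have hgc := (hmC g).1 hz
      have hgE : (g : Ω) ∈ E := pre_le hgc
      obtain ⟨v, hv⟩ : ∃ v, v ∉ P := by
        by_contra hc
        push Not at hc
        exact hA.tr.ne_top (eq_top_iff.2 fun y _ => hc y)
      obtain ⟨e, rfl⟩ := h.surj v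
      obtain ⟨i, hi⟩ := Subgroup.mem_zpowers_iff.1 ((hA.cgen h hv).le ((mem_pre' hgE).1 hgc))
      obtain ⟨d, hd⟩ : ∃ d : E, d = e⁻¹ * conjAut E hA.hu.2 e := ⟨_, rfl⟩
      have hqd : q d = (q e)⁻¹ * t (q e) := by rw [hd, map_mul, map_inv, ← h.nat, hA.teq]
      have h1 : π g = φ d ^ i := by
        rw [← map_zpow, ← (hφq.2 (by rw [map_zpow, hqd, hi] : q ⟨g, hgE⟩ = q (d ^ i))), hφ]
      rw [h1]
      refine Subgroup.zpow_mem _ ?_ i
      have huX : u ∈ X := hNX (hN ▸ hA.hu)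
      rw [hφ, show (⟨(d : Ω), hEX d.2⟩ : X) = ⁅(⟨e, hEX e.2⟩⁻¹ : X), ⟨u, huX⟩⁆ from Subtype.ext (by
        show (d : Ω) = _
        rw [hd, Subgroup.coe_mul, Subgroup.coe_inv, conjAut_apply]
        simp [commutatorElement_def, mul_assoc]), map_commutatorElement]
      exact Subgroup.commutator_mem_commutator ((hmN _).2 (N.inv_mem (hEN e.2)))
        ((hmN _).2 (hN ▸ hA.hu))
    · rw [Subgroup.commutator_le]
      intro a ha b hb
      obtain ⟨g, rfl⟩ := hπs a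
      obtain ⟨g', rfl⟩ := hπs b
      rw [← map_commutatorElement, hmC]
      simpa [commutatorElement_def] using
        hA.comm_mem h (hN ▸ (hmN g).1 ha) (hN ▸ (hmN g').1 hb)
  have hCn : Cb.Normal := hCN ▸ inferInstance
  haveI := hCn
  have hCJ : Cb ≤ Jb := hJb ▸ hCb ▸ himmono (hA.cP h)
  have hCcard : Nat.card Cb = p := by rw [hCb, himc, hA.tr.cardc]
  have hCrel : (⊥ : Subgroup (X ⧸ A.subgroupOf X)).relIndex Cb = p := by
    rw [Subgroup.relIndex_bot_left, hCcard]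
  have hJCrel : Cb.relIndex Jb = p := by
    have h1 := (Cb.subgroupOf Jb).index_mul_card
    rw [Nat.card_congr (Subgroup.subgroupOfEquivOfLe hCJ).toEquiv, hCcard, hJc2, pow_two] at h1
    exact Nat.eq_of_mul_eq_mul_right hpp.pos h1
  have hJMrel : Jb.relIndex M = p := by
    have h1 := (Jb.subgroupOf M).index_mul_card
    rw [Nat.card_congr (Subgroup.subgroupOfEquivOfLe hJM).toEquiv, hMc, hJc2, pow_succ' p 2] at h1
    exact Nat.eq_of_mul_eq_mul_right (pow_pos hpp.pos 2) h1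
  -- the commutator of `f` and `x`
  obtain ⟨fi, hfi, hfi1, hfi2⟩ := hfN.exists_symm
  obtain ⟨w, hw⟩ : ∃ w, w = x ^ (s ^ 3) := ⟨_, rfl⟩
  have hwX : w ∈ X := hw ▸ X.pow_mem hxX _
  obtain ⟨δ, hδ⟩ : ∃ δ : Ω → Ω, ∀ y, δ y = w⁻¹ * f (x * fi y * x⁻¹) * w⁻¹⁻¹ :=
    ⟨fun y => w⁻¹ * f (x * fi y * x⁻¹) * w⁻¹⁻¹, fun _ => rfl⟩
  have hδmap : IsIso F N N δ := by
    have h1 : IsMap F N (fun z => x * z * x⁻¹) := isMap_conj hNS hx.1
    have h2 : IsMap F N (fun z => w⁻¹ * z * w⁻¹⁻¹) :=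
      isMap_conj hNS (S.inv_mem (hXS hwX))
    have h3 := ((hfi.isMap.comp h1 fun y hy => hfi.mem hy).comp hfN.isMap
      fun y hy => hXN x hxX _ (hfi.mem hy)).comp h2
      fun y hy => hfN.mem (hXN x hxX _ (hfi.mem hy))
    exact (h3.congr fun y hy => (hδ y).symm).isIso_of_card_le (fun y hy => by
      rw [hδ]; exact hXN _ (X.inv_mem hwX) _ (hfN.mem (hXN x hxX _ (hfi.mem hy)))) le_rfl
  have hδX : ∀ (y : Ω) (hy : y ∈ N) (θ : Type u) [Group θ] (Ψ : X →* θ),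
      Ψ ⟨δ y, hNX (hδmap.mem hy)⟩ =
        (Ψ ⟨w, hwX⟩)⁻¹ * Ψ ⟨_, hNX (hfN.mem (hXN x hxX _ (hfi.mem hy)))⟩ * Ψ ⟨w, hwX⟩ := by
    intro y hy θ _ Ψ
    rw [← map_inv, ← map_mul, ← map_mul]
    congr 1
    refine Subtype.ext ?_
    show δ y = _
    rw [hδ, inv_inv]
    rfl
  have hfiE : ∀ a : E, ∃ b : E, fi a = b ∧ (f (b : Ω) = a) ∧ q a = k (q b) := by
    intro a
    refine ⟨α.symm a, ?_, ?_, ?_⟩
    · have h1 := hfi1 _ (hEN (α.symm a).2)
      rwa [hl.ext, α.apply_symm_apply] at h1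
    · rw [hl.ext, α.apply_symm_apply]
    · rw [← hl.act, α.apply_symm_apply]
  have hδV : ∀ a : E, ψ ⟨δ a, hNX (hδmap.mem (hEN a.2))⟩ = ψ ⟨a, hEX a.2⟩ := by
    intro a
    obtain ⟨b, hb, hfb, hqb⟩ := hfiE a
    obtain ⟨a', ha'⟩ : ∃ a' : X, a' = ⟨a, hEX a.2⟩ := ⟨_, rfl⟩
    obtain ⟨b', hb'⟩ : ∃ b' : X, b' = ⟨b, hEX b.2⟩ := ⟨_, rfl⟩
    obtain ⟨x', hx'⟩ : ∃ x' : X, x' = ⟨x, hxX⟩ := ⟨_, rfl⟩
    have hba : ψ b' = ψ a' ^ s := by
      rw [← map_pow, hψeq, hb', ha']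
      show (b : Ω)⁻¹ * (((⟨a, hEX a.2⟩ : X) ^ s : X) : Ω) ∈ pre q P
      rw [show (b : Ω)⁻¹ * (((⟨a, hEX a.2⟩ : X) ^ s : X) : Ω) = ((b⁻¹ * a ^ s : E) : Ω) by simp,
        mem_pre, map_mul, map_inv, map_pow, hqb,
        show k (q b) = q b ^ r * ((q b ^ r)⁻¹ * k (q b)) by rw [mul_inv_cancel_left], mul_pow,
        ← zpow_natCast (q b ^ r), ← zpow_mul, hzpow _ _ 1 (by push_cast; exact hrs'), zpow_one,
        inv_mul_cancel_left]
      exact P.pow_mem (hl.modP _) s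
    have hcomm : ∀ z : X, (z : Ω) ∈ N → ∀ z' : X, (z' : Ω) ∈ N → Commute (ψ z) (ψ z') := by
      intro z hz z' hz'
      rw [← commutatorElement_eq_one_iff_commute, ← map_commutatorElement, hψ1]
      refine pre_mono (hA.cP h) ?_
      simpa [commutatorElement_def] using hA.comm_mem h (hN ▸ hz) (hN ▸ hz')
    obtain ⟨va, hva⟩ : ∃ va : X, va = ⁅x', a'⁆ := ⟨_, rfl⟩
    have hvaM : (va : Ω) ∈ M0 := by
      rw [hmM, hva, ← commutatorElement_inv a' x', map_inv, map_commutatorElement]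
      exact M.inv_mem (hM ▸ Subgroup.mem_sup_right (Subgroup.commutator_mem_commutator
        ((hmN a').2 (ha' ▸ hEN a.2)) (Subgroup.mem_top _)))
    have hxa : ψ x' * ψ a' * (ψ x')⁻¹ = ψ va * ψ a' := by
      rw [hva, map_commutatorElement, commutatorElement_def, inv_mul_cancel_right]
    have hxv : Commute (ψ va) (ψ x') := by
      rw [← commutatorElement_eq_one_iff_commute, ← map_commutatorElement, hψ1, ← hmJ,
        map_commutatorElement]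
      exact comm_mem_of_step hY hJM hJMrel _ ((hmM va).1 hvaM) _
    have hva' : Commute (ψ va) (ψ a') :=
      hcomm va (hM0N hvaM) a' (ha' ▸ hEN a.2)
    obtain ⟨vb, hvb⟩ : ∃ vb : X, vb = ⁅x', b'⁆ := ⟨_, rfl⟩
    have hvbM : (vb : Ω) ∈ M0 := by
      rw [hmM, hvb, ← commutatorElement_inv b' x', map_inv, map_commutatorElement]
      exact M.inv_mem (hM ▸ Subgroup.mem_sup_right (Subgroup.commutator_mem_commutator
        ((hmN b').2 (hb' ▸ hEN b.2)) (Subgroup.mem_top _)))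
    have hvbv : ψ vb = ψ va ^ s := by
      rw [hvb, map_commutatorElement, commutatorElement_def, hba, ← conj_pow, hxa,
        hva'.mul_pow, mul_inv_cancel_right]
    obtain ⟨hfvb, hfvb1, -⟩ := hψM vb hvbM
    obtain ⟨z, hz⟩ : ∃ z : X, z = ⟨_, hNX (hfN.mem (hXN x hxX _ (hfi.mem (hEN a.2))))⟩ :=
      ⟨_, rfl⟩
    have hψz : ψ z = ψ va ^ (s ^ 3) * ψ a' := by
      rw [show z = ⟨f vb, hfvb⟩ * a' from Subtype.ext (by
        rw [hz, ha', Subgroup.coe_mul]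
        show f (x * fi a * x⁻¹) = f (vb : Ω) * (a : Ω)
        rw [hb, ← hfb, ← hfN.isMap.map_mul (hM0N hvbM) (hEN b.2)]
        congr 1
        simp [hvb, hx', hb', commutatorElement_def]), map_mul, hfvb1, hvbv, ← pow_mul,
        show s * s ^ 2 = s ^ 3 by ring]
    have hxe : ∀ i : ℕ, ψ x' ^ i * ψ a' * (ψ x' ^ i)⁻¹ = ψ va ^ i * ψ a' := by
      intro i
      induction i with
      | zero => simp
      | succ i ih =>
        rw [pow_succ', mul_inv_rev,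
          show ψ x' * ψ x' ^ i * ψ a' * ((ψ x' ^ i)⁻¹ * (ψ x')⁻¹) =
            ψ x' * (ψ x' ^ i * ψ a' * (ψ x' ^ i)⁻¹) * (ψ x')⁻¹ by group, ih, ← conj_mul,
          ← conj_pow, hxv.symm.mul_inv_cancel, hxa, ← mul_assoc, ← pow_succ]
    rw [hδX a (hEN a.2) _ ψ, ← hz, hψz, ← hxe, show (⟨w, hwX⟩ : X) = x' ^ (s ^ 3) from
      Subtype.ext (by simp [hw, hx']), map_pow, ← ha']
    group
  -- one level down
  have hδlow : ∀ (D : Subgroup (X ⧸ A.subgroupOf X)) [D.Normal],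
      (∀ g : X, (g : Ω) ∈ N → π g ∈ D → ∀ hg : f g ∈ X, π ⟨_, hg⟩ ∈ D) →
      ∀ a : E, (∀ y, ⁅φ a, y⁆ ∈ D) → (∀ b : E, f (b : Ω) = a → ∀ y, ⁅φ b, y⁆ ∈ D) →
      (φ a)⁻¹ * π ⟨δ a, hNX (hδmap.mem (hEN a.2))⟩ ∈ D := by
    intro D _ hD a ha hb'
    obtain ⟨b, hb, hfb, -⟩ := hfiE a
    obtain ⟨θ, hθ⟩ : ∃ θ : X →* (X ⧸ A.subgroupOf X) ⧸ D, θ = (QuotientGroup.mk' D).comp π :=
      ⟨_, rfl⟩
    have hθ1 : ∀ g : X, θ g = 1 ↔ π g ∈ D := fun g => by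
      rw [hθ, MonoidHom.comp_apply, QuotientGroup.mk'_apply, QuotientGroup.eq_one_iff]
    have hcb : Commute (θ ⟨b, hEX b.2⟩) (θ ⟨x, hxX⟩) := by
      rw [← commutatorElement_eq_one_iff_commute, ← map_commutatorElement, hθ1,
        map_commutatorElement, ← hφ]
      exact hb' b hfb _
    obtain ⟨cb, hcbe⟩ : ∃ cb : X, cb = ⟨x * b * x⁻¹ * (b : Ω)⁻¹,
      X.mul_mem (hNX (hXN x hxX _ (hEN b.2))) (X.inv_mem (hEX b.2))⟩ := ⟨_, rfl⟩
    have hcbN : (cb : Ω) ∈ N := hcbe ▸ N.mul_mem (hXN x hxX _ (hEN b.2)) (N.inv_mem (hEN b.2))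
    have hcbD : π cb ∈ D := by
      rw [← hθ1, show cb = ⟨x, hxX⟩ * ⟨b, hEX b.2⟩ * ⟨x, hxX⟩⁻¹ * (⟨b, hEX b.2⟩ : X)⁻¹ from
        Subtype.ext (by simp [hcbe]), map_mul, map_mul, map_mul, map_inv, map_inv, ← hcb.eq,
        mul_inv_cancel_right, mul_inv_cancel]
    have hz : θ ⟨_, hNX (hfN.mem (hXN x hxX _ (hfi.mem (hEN a.2))))⟩ = θ ⟨a, hEX a.2⟩ := by
      rw [show (⟨_, hNX (hfN.mem (hXN x hxX _ (hfi.mem (hEN a.2))))⟩ : X) =
        ⟨f cb, hNX (hfN.mem hcbN)⟩ * ⟨a, hEX a.2⟩ from Subtype.ext (by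
          show f (x * fi a * x⁻¹) = f (cb : Ω) * (a : Ω)
          rw [hb, ← hfb, ← hfN.isMap.map_mul hcbN (hEN b.2)]
          congr 1
          simp [hcbe]), map_mul, (hθ1 _).2 (hD cb hcbN hcbD _), one_mul]
    have hca : Commute (θ ⟨a, hEX a.2⟩) (θ ⟨w, hwX⟩) := by
      rw [← commutatorElement_eq_one_iff_commute, ← map_commutatorElement, hθ1,
        map_commutatorElement, ← hφ]
      exact ha _
    rw [hφ, ← map_inv, ← map_mul, ← hθ1, map_mul, map_inv, inv_mul_eq_one, hδX a (hEN a.2) _ θ,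
      hz, mul_assoc, hca.eq, inv_mul_cancel_left]
  have hδE : ∀ a : E, ∃ hm : δ a ∈ E, (q a)⁻¹ * q ⟨δ a, hm⟩ ∈ P := by
    intro a
    have h1 := hψeq.1 (hδV a).symm
    have h2 : δ a ∈ E := by
      have := E.mul_mem a.2 (pre_le h1)
      rwa [mul_inv_cancel_left] at this
    refine ⟨h2, ?_⟩
    rw [← map_inv, ← map_mul]
    exact (mem_pre' (E.mul_mem (E.inv_mem a.2) h2)).1 h1
  have hδEE : IsIso F E E δ :=
    (hδmap.isMap.mono hEN).isIso_of_card_le (fun z hz => (hδE ⟨z, hz⟩).1) le_rfl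
  obtain ⟨β, hβ, hβv⟩ := exists_mem_autGroup hδEE
  have hβs : ρ β ∈ seriesStab c P (hA.cP h) := by
    have hβφ : ∀ e : E, φ (β e) = π ⟨δ e, hNX (hδmap.mem (hEN e.2))⟩ := fun e => by
      rw [hφ]; congr 1; exact Subtype.ext (hβv e)
    have hfD : ∀ {R : Subgroup V} (D : Subgroup (X ⧸ A.subgroupOf X)),
        (∀ g : X, π g ∈ D ↔ (g : Ω) ∈ pre q R) → (∀ y, k y ∈ R ↔ y ∈ R) →
        ∀ g : X, (g : Ω) ∈ N → π g ∈ D → ∀ hg : f g ∈ X, π ⟨_, hg⟩ ∈ D :=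
      fun D hD hR g hgN hg hfg => (hD _).2 ((hfR hR _ hgN).2 ((hD g).1 hg))
    have hkk : ∀ {R : Subgroup V}, (∀ y, k y ∈ R ↔ y ∈ R) → ∀ (b : E) (a : E),
        f (b : Ω) = a → q a ∈ R → q b ∈ R := fun {R} hR b a hba ha => by
      rw [← hR, ← hl.act, show α b = a from Subtype.ext ((hl.ext b).symm.trans hba)]
      exact ha
    refine mem_seriesStab.2 ⟨fun y hy => ?_, fun y hy => ?_, fun y => ?_⟩
    all_goals obtain ⟨e, rfl⟩ := h.surj y
    · have hcen : ∀ e : E, q e ∈ c → ∀ z, ⁅φ e, z⁆ ∈ (⊥ : Subgroup (X ⧸ A.subgroupOf X)) :=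
        fun e he z => comm_mem_of_step hY bot_le hCrel _ (by
          rw [hφ]; exact (hmC _).2 (mem_pre.2 he)) z
      have h1 := hδlow ⊥ (hfD ⊥ (fun g => by rw [Subgroup.mem_bot, hπ1, hAdef]) hkbot) e
        (hcen e hy) fun b hb => hcen b (hkk hkc b e hb hy)
      rw [← hβφ, Subgroup.mem_bot, inv_mul_eq_one, hφq] at h1
      rw [h.nat, ← h1]
    · have hcen : ∀ e : E, q e ∈ P → ∀ z, ⁅φ e, z⁆ ∈ Cb :=
        fun e he z => comm_mem_of_step hY hCJ hJCrel _ (by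
          rw [hφ]; exact (hmJ _).2 (mem_pre.2 he)) z
      have h1 := hδlow Cb (hfD Cb hmC hkc) e (hcen e hy) fun b hb => hcen b (hkk hkP b e hb hy)
      rw [← hβφ, ← map_inv, ← map_mul, hφ, hmC] at h1
      rw [h.nat, ← map_inv, ← map_mul]
      exact mem_pre.1 h1
    · obtain ⟨hm, h1⟩ := hδE e
      rw [h.nat, show β e = ⟨δ e, hm⟩ from Subtype.ext (hβv e)]
      exact h1
  have hβT : ρ β ∈ (autInducedBy S E).map ρ := by
    rw [← h.eq_T (U := (F.autGroup E).map ρ ⊓ seriesStab c P (hA.cP h)) inf_le_left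
      ((isPGroup_seriesStab h.pV _ _ _).to_le inf_le_right)]
    · exact Subgroup.mem_inf.2 ⟨⟨β, hβ, rfl⟩, hβs⟩
    · rw [hA.Teq h, Subgroup.zpowers_le]
      refine Subgroup.mem_inf.2 ⟨h.T_le ((hA.Teq h).ge (Subgroup.mem_zpowers t)),
        mem_seriesStab.2 ⟨fun y hy => (hA.tr.fix y).2 (hA.cP h hy), fun y _ => hA.tr.diff y,
          fun y => hA.cP h (hA.tr.diff y)⟩⟩
  obtain ⟨n0, hn0, hn0v⟩ := (mem_autInducedBy_iff S E β).1 (h.mem_auto hβ hβT)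
  have hn0N : n0 ∈ N := hN ▸ mem_normalizerIn_of_induces h.le hn0 hn0v
  obtain ⟨δ', hδ'⟩ : ∃ δ' : Ω → Ω, ∀ y, δ' y = n0⁻¹ * δ y * n0⁻¹⁻¹ :=
    ⟨fun y => n0⁻¹ * δ y * n0⁻¹⁻¹, fun _ => rfl⟩
  have hδ'iso : IsIso F N N δ' := by
    have h1 := hδmap.isMap.comp (isMap_conj (g := n0⁻¹) hNS (S.inv_mem hn0)) fun y hy =>
      hδmap.mem hy
    exact (h1.congr fun y hy => (hδ' y).symm).isIso_of_card_le (fun y hy => by
      rw [hδ']; exact hXN _ (hNX (N.inv_mem hn0N)) _ (hδmap.mem hy)) le_rfl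
  have hfix : ∀ y ∈ E, δ' y = y := by
    intro y hy
    have h1 := hn0v ⟨y, hy⟩
    rw [hβv] at h1
    rw [hδ', show δ y = n0 * y * n0⁻¹ from h1]
    group
  have hmod : ∀ y ∈ N, y⁻¹ * δ' y ∈ E := by
    intro y hy
    refine h.ess.1.2 E (isConj_refl h.le) ⟨hNS (N.mul_mem (N.inv_mem hy) (hδ'iso.mem hy)),
      mem_centralizer_of_conj_eq fun e he => ?_⟩
    have hye : y * e * y⁻¹ ∈ E := conj_mem_of_mem_normalizer (hN ▸ hy : y ∈ normalizerIn S E).2 he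
    have h1 := hδ'iso.isMap.map_conj hy (hEN he)
    rw [hfix _ hye, hfix e he] at h1
    calc y⁻¹ * δ' y * e * (y⁻¹ * δ' y)⁻¹ = y⁻¹ * (δ' y * e * (δ' y)⁻¹) * y := by group
      _ = e := by rw [← h1]; group
  obtain ⟨z, hz, -, hzv⟩ := exists_conj_of_fix_centric h.pgroup h.sat hEN (hN ▸ inf_le_right)
    h.ess.1 hδ'iso hfix hmod
  obtain ⟨g, hg⟩ : ∃ g, g = w * (n0 * z) := ⟨_, rfl⟩
  have hgX : g ∈ X := hg ▸ X.mul_mem hwX (hNX (N.mul_mem hn0N (hEN hz)))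
  have hfx : ∀ y ∈ N, f (x * y * x⁻¹) = g * f y * g⁻¹ := by
    intro y hy
    have h1 := hzv _ (hfN.mem hy)
    rw [hδ', hδ, hfi1 y hy] at h1
    rw [hg]
    calc f (x * y * x⁻¹) = w * n0 * (n0⁻¹ * (w⁻¹ * f (x * y * x⁻¹) * w⁻¹⁻¹) * n0⁻¹⁻¹) *
          (w * n0)⁻¹ := by group
      _ = _ := by rw [h1]; group
  -- extend to `X`
  have hNcen : F.IsCentric N := isCentric_of_le h.ess.1 hEN hNS
  obtain ⟨f1, hf1, hf1v⟩ := (isReceptive_iff.1 (isReceptive_of_isFullyCentralized h.pgroup h.sat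
    (isFullyCentralized_of_isCentric hNcen))).2 N _ hfN
  have hXn : X ≤ nPhi S N f := by
    rw [hX]
    exact sup_le (le_nPhi hfN.isMap) (Subgroup.zpowers_le.2
      ⟨hx.1, hx.2, g, hXS hgX, hfx⟩)
  have hf1X := hf1.mono hXn
  have hf1x : f1 x ∈ X := by
    have h1 : g⁻¹ * f1 x ∈ N := hNcen.2 N (isConj_refl hNS)
      ⟨S.mul_mem (S.inv_mem (hXS hgX)) (hf1X.mem hxX), mem_centralizer_of_conj_eq fun y hy => by
        obtain ⟨y, hy', rfl⟩ := hfN.surj hy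
        have h2 := hf1X.map_conj hxX (hNX hy')
        rw [hf1v _ (hXN x hxX y hy'), hf1v y hy', hfx y hy'] at h2
        calc g⁻¹ * f1 x * f y * (g⁻¹ * f1 x)⁻¹ = g⁻¹ * (f1 x * f y * (f1 x)⁻¹) * g := by group
          _ = f y := by rw [← h2]; group⟩
    have := X.mul_mem hgX (hNX h1)
    rwa [mul_inv_cancel_left] at this
  obtain ⟨ψ1, -, hψ1v⟩ := hf1X.exists_hom
  have hψX : ∀ y : X, ψ1 y ∈ X := by
    have htop : X.comap ψ1 = ⊤ := by
      have h1 : N.subgroupOf X ≤ X.comap ψ1 := fun y hy => by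
        rw [Subgroup.mem_comap, hψ1v, hf1v (y : Ω) hy]
        exact hNX (hfN.mem hy)
      refine eq_of_prime_index hNi h1 (g := ⟨x, hxX⟩) ?_ hxN
      rw [Subgroup.mem_comap, hψ1v]
      exact hf1x
    exact fun y => htop.ge (Subgroup.mem_top y)
  obtain ⟨G0, hG0⟩ : ∃ G0 : X →* X, ∀ y : X, (G0 y : Ω) = f1 y :=
    ⟨ψ1.codRestrict X hψX, fun y => hψ1v y⟩
  obtain ⟨G, hG⟩ : ∃ G : X ⧸ A.subgroupOf X →* X ⧸ A.subgroupOf X, ∀ y, G (π y) = π (G0 y) :=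
    ⟨QuotientGroup.map _ _ G0 (fun y hy => by
      rw [Subgroup.mem_comap, Subgroup.mem_subgroupOf, hG0, hf1v (y : Ω) (hEN (hAE hy)), hAdef]
      exact (hfR hkbot _ (hEN (hAE hy))).2 (hAdef ▸ hy)),
    fun y => by rw [hπ]; rfl⟩
  have hGN : ∀ (y : X) (hy : (y : Ω) ∈ N), G (π y) = π ⟨f y, hNX (hfN.mem hy)⟩ := fun y hy => by
    rw [hG]; congr 1; exact Subtype.ext (by rw [hG0, hf1v _ hy])
  have hGE : ∀ e : E, G (φ e) = φ (α e) := fun e => by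
    rw [hφ, hGN _ (hEN e.2), hφ]; congr 1; exact Subtype.ext (hl.ext e)
  have hmemφ : ∀ v ∈ Vb, ∃ e : E, φ e = v := fun v hv => by
    rw [hVb, him] at hv
    obtain ⟨e, -, he⟩ := hv
    exact ⟨e, he⟩
  have hphiR : ∀ {R : Subgroup V} {e : E}, φ e ∈ im R → q e ∈ R := fun {R e} he => by
    rw [him] at he
    obtain ⟨e', he', h1⟩ := he
    rw [hφq] at h1
    exact h1 ▸ he'
  refine endgame hp5 hY hNbn hNbi hVN hVrel ?_ hVc3 hJV ?_ hJn ?_ hJcom hexp hVn ?_ G hrs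
    (by exact_mod_cast hs2) (by exact_mod_cast hs3) (by exact_mod_cast hs5) ?_ ?_ ?_ ?_ ?_
  · intro a ha b hb
    obtain ⟨e, rfl⟩ := hmemφ a ha
    obtain ⟨e', rfl⟩ := hmemφ b hb
    rw [← map_mul, ← map_mul, hφq, map_mul, map_mul, mul_comm]
  · have h1 := (Jb.subgroupOf Vb).index_mul_card
    rw [Nat.card_congr (Subgroup.subgroupOfEquivOfLe hJV).toEquiv, hVc3, hJc2, pow_succ' p 2] at h1
    exact Nat.eq_of_mul_eq_mul_right (pow_pos hpp.pos 2) h1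
  · intro n hn v hv
    obtain ⟨m, rfl⟩ := hπs n
    obtain ⟨g, rfl⟩ := hπs v
    rw [← map_inv, ← map_mul, ← map_mul, hmV]
    exact conj_mem_of_mem_normalizer (hN ▸ (hmN m).1 hn : (m : Ω) ∈ normalizerIn S E).2
      ((hmV g).1 hv)
  · intro B hB1 hB2
    obtain ⟨e, -⟩ : ∃ e : X.subgroupOf S ≃* X, True :=
      ⟨Subgroup.subgroupOfEquivOfLe hXS, trivial⟩
    exact rank_of_section hsr (φ := π.comp e.toMonoidHom) (hπs.comp e.surjective) B hB1 hB2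
  · intro n hn
    obtain ⟨g, rfl⟩ := hπs n
    rw [hGN g ((hmN g).1 hn), hmN]
    exact hfN.mem ((hmN g).1 hn)
  · intro y hy
    rw [← hM] at hy ⊢
    obtain ⟨g, rfl⟩ := hπs y
    have hgM := (hmM g).2 hy
    rw [hGN g (hM0N hgM), ← hmM]
    exact hfM0 _ hgM
  · intro v hv
    obtain ⟨e, rfl⟩ := hmemφ v hv
    rw [hGE, ← map_zpow, ← map_inv, ← map_mul]
    refine Subgroup.mem_sup_left ?_
    rw [hφ, hmJ, mem_pre, map_mul, map_inv, map_zpow, hl.act]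
    exact hl.modP _
  · intro v hv n hn
    have h1 : ⁅v, n⁆ ∈ im c := by
      rw [← hCb, hCN]
      exact Subgroup.commutator_mem_commutator (hVN hv) hn
    rw [him] at h1
    obtain ⟨e, he, h2⟩ := h1
    rw [← h2, hGE, ← map_zpow, hφq, hl.act, map_zpow]
    exact hl.onc _ he
  · intro j hj
    obtain ⟨e, rfl⟩ := hmemφ j (hJV hj)
    rw [← hCN, hGE, ← map_inv, ← map_mul, hφ, hmC, mem_pre, map_mul, map_inv, hl.act]
    have hqe : q e ∈ L ⊔ c := by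
      have hle : L ⊔ c ≤ P := sup_le hA.LP (hA.cP h)
      have heq : L ⊔ c = P := by
        refine Subgroup.eq_of_le_of_card_ge hle ?_
        obtain ⟨i, hi⟩ := (h.pV.to_subgroup (L ⊔ c)).exists_card_eq
        rw [hi, hPc]
        refine Nat.pow_le_pow_right hpp.pos ?_
        by_contra hlt
        have hL : L = L ⊔ c := Subgroup.eq_of_le_of_card_ge le_sup_left (by
          rw [hi, hA.Lcard]
          calc p ^ i ≤ p ^ 1 := Nat.pow_le_pow_right hpp.pos (by omega)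
            _ = p := pow_one p)
        have hcL : c ⊓ L = c := inf_eq_left.2 (le_sup_right.trans hL.ge)
        rw [hA.cL] at hcL
        have := hA.tr.cardc
        rw [← hcL, Subgroup.card_bot] at this
        exact hpp.ne_one this.symm
      rw [heq]
      exact hphiR (hJb ▸ hj)
    obtain ⟨l, hlL, y, hy, hly⟩ := Subgroup.mem_sup.1 hqe
    rw [← hly, map_mul, hl.fixL l hlL, hl.onc y hy, mul_inv, mul_mul_mul_comm, inv_mul_cancel,
      one_mul]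
    exact c.mul_mem (c.inv_mem hy) (c.zpow_mem hy _)

end CfsgLib.RankThree
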