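import Cfsg.Agent.Lib.Fusion.RankThree.Amalgam

/-!
Powers and commutators in the normalizer, and the extension of the torus.
-/

set_option autoImplicit false
set_option linter.style.haveILetI false
set_option linter.unusedSectionVars false

namespace CfsgLib.RankThree

open Cfsg Cfsg.FusionSystem CfsgLib.Fusion CfsgLib.Fusion.Transvections
open scoped commutatorElement

universe u

variable {Ω : Type u} [Group Ω] {S : Subgroup Ω} [Finite S] {F : FusionSystem S} {p : ℕ}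
  [hp : Fact p.Prime] {E : Subgroup Ω} {V : Type u} [CommGroup V] [Finite V]
  {q : E →* V} {ρ : MulAut E →* MulAut V} {x u : Ω} {K : Subgroup Ω} {L P c : Subgroup V}
  {t : MulAut V}

/-- The preimage in `E` of a subgroup of the Frattini quotient. -/
def pre (q : E →* V) (R : Subgroup V) : Subgroup Ω := (R.comap q).map E.subtype

theorem mem_pre {R : Subgroup V} {e : E} : (e : Ω) ∈ pre q R ↔ q e ∈ R :=
  ⟨fun ⟨_, hz, he⟩ => (Subtype.ext he : _ = e) ▸ hz, fun h => ⟨e, h, rfl⟩⟩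

theorem mem_pre' {R : Subgroup V} {z : Ω} (hz : z ∈ E) : z ∈ pre q R ↔ q ⟨z, hz⟩ ∈ R :=
  mem_pre (e := ⟨z, hz⟩)

theorem pre_le {R : Subgroup V} : pre q R ≤ E := by
  rintro _ ⟨e, -, rfl⟩
  exact e.2

theorem pre_mono {R R' : Subgroup V} (h : R ≤ R') : pre q R ≤ pre q R' :=
  Subgroup.map_mono (Subgroup.comap_mono h)

/-- The action on the Frattini quotient of the normalizer. -/
theorem exists_act (ρ : MulAut E →* MulAut V) (N : Subgroup Ω)
    (hN : ∀ g ∈ N, g ∈ Subgroup.normalizer (E : Set Ω)) :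
    ∃ κ : N →* MulAut V, ∀ (g : Ω) (hg : g ∈ N), κ ⟨g, hg⟩ = ρ (conjAut E (hN g hg)) := by
  obtain ⟨κ, hκ⟩ : ∃ κ : N →* MulAut E, ∀ g (hg : g ∈ N), κ ⟨g, hg⟩ = conjAut E (hN g hg) := by
    refine ⟨MonoidHom.mk' (fun g => conjAut E (hN g g.2)) fun a b =>
      MulEquiv.ext fun y => Subtype.ext ?_, fun g hg => rfl⟩
    rw [MulAut.mul_apply, conjAut_apply, conjAut_apply, conjAut_apply, Subgroup.coe_mul]
    group
  exact ⟨ρ.comp κ, fun g hg => by rw [MonoidHom.comp_apply, hκ]⟩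

namespace Amalgam

variable (hA : Amalgam F p E q ρ x u K L P c t) (h : Ess F p E q ρ)

include hA h

theorem Teq : (autInducedBy S E).map ρ = Subgroup.zpowers t := by
  rw [h.T_eq_zpowers hA.hu hA.huE, hA.teq]

theorem cP : c ≤ P := hA.tr.le

theorem cgen {y : V} (hy : y ∉ P) : c = Subgroup.zpowers (y⁻¹ * t y) :=
  (TransvectionCube.zpowers_eq hA.tr.cardc (hA.tr.diff y) (hA.tr.diff_ne hy)).symm

theorem act {g : Ω} (hg : g ∈ normalizerIn S E) :
    ∃ i : ℕ, ∀ y, ρ (conjAut E hg.2) y = y * (y⁻¹ * t y) ^ i := by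
  haveI := TransvectionCube.finite_aut (V := V)
  have hm : ρ (conjAut E hg.2) ∈ Subgroup.zpowers t := by
    rw [← hA.Teq h]
    exact ⟨_, conjAut_mem_autInducedBy hg.2 hg.1, rfl⟩
  rw [← mem_powers_iff_mem_zpowers] at hm
  obtain ⟨i, hi⟩ := hm
  exact ⟨i, fun y => by rw [← hi]; exact hA.tr.pow_apply i y⟩

theorem fixP {g : Ω} (hg : g ∈ normalizerIn S E) {y : V} (hy : y ∈ P) :
    ρ (conjAut E hg.2) y = y := by
  obtain ⟨i, hi⟩ := hA.act h hg
  rw [hi, (hA.tr.fix y).2 hy, inv_mul_cancel, one_pow, mul_one]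

theorem diff {g : Ω} (hg : g ∈ normalizerIn S E) (y : V) :
    y⁻¹ * ρ (conjAut E hg.2) y ∈ c := by
  obtain ⟨i, hi⟩ := hA.act h hg
  rw [hi, inv_mul_cancel_left]
  exact c.pow_mem (hA.tr.diff y) i

theorem decomp {n : Ω} (hn : n ∈ normalizerIn S E) :
    ∃ (k : ℕ) (e : E), n = u ^ k * e := by
  obtain ⟨N, hN⟩ : ∃ N, N = normalizerIn S E := ⟨_, rfl⟩
  haveI : Finite N := hN ▸ finite_of_le inf_le_left
  have hu := hA.hu
  have hEN : E ≤ normalizerIn S E := le_normalizerIn h.le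
  rw [← hN] at hn hu hEN
  have hnor : N ≤ Subgroup.normalizer (E : Set Ω) := hN ▸ inf_le_right
  have hrel : E.relIndex N = p := hN ▸ h.relIndex
  obtain ⟨e', he', z, hz, hd⟩ := exists_decomp_of_prime (Y := N) (p := p) (N := ⊤)
    (E := E.subgroupOf N) le_top (by rw [Subgroup.relIndex_top_right]; exact hrel)
    (le_normalizer_of_conj fun a _ b hb =>
      conj_mem_of_mem_normalizer (P := E) (x := (b : Ω)) (hnor a.2) hb)
    (w := ⟨u, hu⟩) (Subgroup.mem_top _) (fun hh => hA.huE hh) (W := Subgroup.zpowers ⟨u, hu⟩)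
    le_top (Subgroup.mem_zpowers _) ⟨n, hn⟩ (Subgroup.mem_top _)
  obtain ⟨i, rfl⟩ := Subgroup.mem_zpowers_iff.1 hz
  have hd' : n = (e' : Ω) * u ^ i := by
    have := congrArg Subtype.val hd
    simpa using this
  have hp0 : (p : ℤ) ≠ 0 := by exact_mod_cast hp.out.ne_zero
  obtain ⟨k, hk⟩ : ∃ k : ℕ, (k : ℤ) = i % p :=
    ⟨(i % p).toNat, Int.toNat_of_nonneg (Int.emod_nonneg _ hp0)⟩
  have hui : u ^ i = u ^ k * (u ^ p) ^ (i / p) := by
    rw [← zpow_natCast u k, hk, ← zpow_natCast u p, ← zpow_mul, ← zpow_add,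
      Int.emod_add_mul_ediv]
  refine ⟨k, ⟨(u ^ k)⁻¹ * n, ?_⟩, by simp⟩
  rw [hd', hui, show (u ^ k)⁻¹ * ((e' : Ω) * (u ^ k * (u ^ p) ^ (i / p))) =
    (u ^ k)⁻¹ * (e' : Ω) * (u ^ k)⁻¹⁻¹ * (u ^ p) ^ (i / p) by group]
  exact E.mul_mem (conj_mem_of_mem_normalizer
    (hnor (N.inv_mem (N.pow_mem hu k))) he') (E.zpow_mem (hA.Kle hA.hup) _)

theorem pow_coset (hp2 : p ≠ 2) {n : Ω} (hn : n ∈ normalizerIn S E) (e : E) (hnp : n ^ p ∈ E) :
    ∃ hm : (n * e) ^ p ∈ E, q ⟨(n * e) ^ p, hm⟩ = q ⟨n ^ p, hnp⟩ := by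
  obtain ⟨y, hy⟩ : ∃ y, y = q e := ⟨_, rfl⟩
  obtain ⟨d, hd⟩ : ∃ d, d = y⁻¹ * ρ (conjAut E hn.2) y := ⟨_, rfl⟩
  have hdP : d ∈ P := hA.cP h (hd ▸ hA.diff h hn y)
  have hτy : ρ (conjAut E hn.2) y = y * d := by rw [hd, mul_inv_cancel_left]
  have key : ∀ j : ℕ, ∃ Ej ej : E, (n * e) ^ j = (Ej : Ω) * n ^ j ∧
      (ej : Ω) = n ^ j * e * (n ^ j)⁻¹ ∧ q ej = y * d ^ j ∧
      q Ej = y ^ j * d ^ (j + 1).choose 2 := by
    intro j
    induction j with
    | zero => exact ⟨1, e, by simp, by simp, by simp [hy], by simp⟩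
    | succ j ih =>
      obtain ⟨Ej, ej, h1, h2, h3, h4⟩ := ih
      refine ⟨Ej * conjAut E hn.2 ej, conjAut E hn.2 ej, ?_, ?_, ?_, ?_⟩
      · rw [pow_succ, h1, Subgroup.coe_mul, conjAut_apply, h2, pow_succ]
        group
      · rw [conjAut_apply, h2, pow_succ']
        group
      · rw [← h.nat, h3, map_mul, map_pow, hτy, hA.fixP h hn hdP, mul_assoc, ← pow_succ']
      · rw [map_mul, h4, ← h.nat, h3, map_mul, map_pow, hτy, hA.fixP h hn hdP,
          show y * d * d ^ j = y * d ^ (j + 1) by rw [mul_assoc, ← pow_succ'],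
          mul_mul_mul_comm, ← pow_succ, ← pow_add]
        congr 2
        rw [Nat.choose_succ_succ' (j + 1) 1, Nat.choose_one_right, add_comm]
  obtain ⟨Ep, _, h1, -, -, h4⟩ := key p
  have hdvd : p ∣ (p + 1).choose 2 := by
    rw [Nat.choose_succ_succ' p 1, Nat.choose_one_right]
    exact Nat.dvd_add dvd_rfl (hp.out.dvd_choose_self (by norm_num)
      (by have := hp.out.two_le; omega))
  have h5 : q Ep = 1 := by
    obtain ⟨m, hm⟩ := hdvd
    rw [h4, h.exp, hm, pow_mul, h.exp, one_pow, one_mul]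
  refine ⟨h1 ▸ E.mul_mem Ep.2 hnp, ?_⟩
  rw [show (⟨(n * e) ^ p, _⟩ : E) = Ep * ⟨n ^ p, hnp⟩ from Subtype.ext h1, map_mul, h5, one_mul]

theorem comm_mem {n n' : Ω} (hn : n ∈ normalizerIn S E) (hn' : n' ∈ normalizerIn S E) :
    ⁅n, n'⁆ ∈ pre q c := by
  obtain ⟨i, e, rfl⟩ := hA.decomp h hn
  obtain ⟨j, e', rfl⟩ := hA.decomp h hn'
  have ha : u ^ i ∈ normalizerIn S E := Subgroup.pow_mem _ hA.hu i
  have hb : u ^ j ∈ normalizerIn S E := Subgroup.pow_mem _ hA.hu j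
  have hab : u ^ i * u ^ j ∈ normalizerIn S E := Subgroup.mul_mem _ ha hb
  obtain ⟨z, hz⟩ : ∃ z : E, z = conjAut E ha.2 e * (conjAut E hab.2 e' * conjAut E hab.2 e⁻¹) *
      (conjAut E hb.2 e')⁻¹ := ⟨_, rfl⟩
  have hzv : (z : Ω) = ⁅u ^ i * e, u ^ j * e'⁆ := by
    rw [hz, Subgroup.coe_mul, Subgroup.coe_mul, Subgroup.coe_mul, Subgroup.coe_inv, conjAut_apply,
      conjAut_apply, conjAut_apply, conjAut_apply, Subgroup.coe_inv, commutatorElement_def]
    group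
  rw [← hzv, mem_pre, ← QuotientGroup.eq_one_iff (N := c), ← QuotientGroup.mk'_apply]
  have key : ∀ {g : Ω} (hg : g ∈ normalizerIn S E) (w : V),
      QuotientGroup.mk' c (ρ (conjAut E hg.2) w) = QuotientGroup.mk' c w := fun hg w => by
    rw [QuotientGroup.mk'_apply, QuotientGroup.mk'_apply, eq_comm, QuotientGroup.eq]
    exact hA.diff h hg w
  rw [hz]
  simp only [map_mul, map_inv, ← h.nat, key ha, key hb, key hab]
  rw [mul_comm (QuotientGroup.mk' c (q e')) _, mul_inv_cancel_left, mul_inv_cancel]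

end Amalgam

/-- The extended torus element. -/
structure Lifted (F : FusionSystem S) (p : ℕ) (E : Subgroup Ω) (q : E →* V)
    (ρ : MulAut E →* MulAut V) (u : Ω) (P c L : Subgroup V) (r s : ℤ) (k : MulAut V)
    (α : MulAut E) (f : Ω → Ω) : Prop where
  iso : IsIso F (normalizerIn S E) (normalizerIn S E) f
  mem : α ∈ F.autGroup E
  ext : ∀ e : E, f (e : Ω) = (α e : Ω)
  act : ∀ e, q (α e) = k (q e)
  fixL : ∀ l ∈ L, k l = l
  onc : ∀ y ∈ c, k y = y ^ s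
  modP : ∀ y, (y ^ r)⁻¹ * k y ∈ P
  expn : ∀ n ∈ normalizerIn S E, ∃ m : ℕ, (m : ZMod p) = (s : ZMod p) ^ 2 ∧
    (n ^ m)⁻¹ * f n ∈ E
  powA : ∀ n ∈ normalizerIn S E, n ^ p ∈ pre q ⊥

theorem Amalgam.lift (hA : Amalgam F p E q ρ x u K L P c t) (h : Ess F p E q ρ) (hp2 : p ≠ 2)
    {r s : ℤ} (hrs : ((r * s : ℤ) : ZMod p) = 1) (hs2 : (s : ZMod p) ^ 2 ≠ 1) :
    ∃ k α f, Lifted F p E q ρ u P c L r s k α f := by
  classical
  haveI := TransvectionCube.finite_aut (V := V)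
  haveI := finite_of_le h.le
  haveI := finite_mulAut E
  haveI : Finite (normalizerIn S E) := finite_of_le inf_le_left
  obtain ⟨k, hkG, hkt, hkL, hkc, hkP⟩ := hA.torus r s hrs
  obtain ⟨α, hα, hαk⟩ := hkG
  have hnat : ∀ e, q (α e) = k (q e) := fun e => by rw [← hαk, h.nat]
  have hEN : E ≤ normalizerIn S E := le_normalizerIn h.le
  have hnorm : ∀ β ∈ autInducedBy S E, α * β * α⁻¹ ∈ autInducedBy S E := by
    intro β hβ
    refine h.mem_auto (Subgroup.mul_mem _ (Subgroup.mul_mem _ hα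
      (autInducedBy_le_autGroup h.le hβ)) (Subgroup.inv_mem _ hα)) ?_
    rw [hA.Teq h, map_mul, map_mul, map_inv, hαk]
    obtain ⟨i, hi⟩ := Subgroup.mem_zpowers_iff.1 ((hA.Teq h).le ⟨β, hβ, rfl⟩)
    rw [← hi, ← conj_zpow]
    exact Subgroup.zpow_mem _ hkt i
  have hiso := (mem_autGroup_iff h.le α).1 hα
  obtain ⟨f, hf, hfv⟩ := (isReceptive_iff.1
    (isReceptive_of_isFullyNormalized h.pgroup h.sat h.ess.2.1)).2 E _ hiso
  have hnPhi : normalizerIn S E ≤ nPhi S E (autFun α) := by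
    intro g hg
    obtain ⟨k', hk', hkv⟩ := (mem_autInducedBy_iff S E _).1
      (hnorm _ (conjAut_mem_autInducedBy hg.2 hg.1))
    refine ⟨hg.1, hg.2, k', hk', fun y hy => ?_⟩
    have e := hkv (α ⟨y, hy⟩)
    rw [MulAut.mul_apply, MulAut.mul_apply, MulAut.inv_apply_self] at e
    rw [autFun_apply α (conj_mem_of_mem_normalizer hg.2 hy), autFun_apply α hy]
    exact e
  have hfN := hf.mono hnPhi
  have hext : ∀ e : E, f (e : Ω) = (α e : Ω) := fun e => by rw [hfv _ e.2, autFun_coe]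
  have hEE : IsIso F E E f := hiso.congr fun y hy => (hfv y hy).symm
  have hfi : IsIso F (normalizerIn S E) (normalizerIn S E) f :=
    hfN.isIso_of_card_le (fun g hg => hfN.mem_normalizerIn hEN hEE hg hg.2) le_rfl
  obtain ⟨m, em, hum⟩ := hA.decomp h (hfi.mem hA.hu)
  have hum' : u ^ m ∈ normalizerIn S E := Subgroup.pow_mem _ hA.hu m
  -- the exponent on the outer automorphisms
  obtain ⟨κ, hκ⟩ := exists_act ρ (normalizerIn S E) fun g hg => hg.2
  have hκu : κ ⟨u, hA.hu⟩ = t := by rw [hκ, hA.teq]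
  have hκe : κ ⟨_, hEN em.2⟩ = 1 := by
    rw [hκ]; exact h.ker_of_mem em.2 fun z => conjAut_apply E _ z
  have hκfu : κ ⟨f u, hfi.mem hA.hu⟩ = k * t * k⁻¹ := by
    rw [hκ]
    refine Eq.trans ?_ (congrArg (fun z => k * z * k⁻¹) hA.teq)
    show _ = k * ρ _ * k⁻¹
    rw [← hαk, ← map_inv, ← map_mul, ← map_mul]
    congr 1
    refine MulEquiv.ext fun z => Subtype.ext ?_
    obtain ⟨z, rfl⟩ := α.surjective z
    rw [conjAut_apply, MulAut.mul_apply, MulAut.mul_apply, MulAut.inv_apply_self, ← hext, ← hext,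
      conjAut_apply, hfi.isMap.map_conj hA.hu (hEN z.2)]
  have hkm : k * t = t ^ m * k := by
    have h1 : κ ⟨f u, hfi.mem hA.hu⟩ = t ^ m := by
      rw [show (⟨f u, hfi.mem hA.hu⟩ : normalizerIn S E) = ⟨u, hA.hu⟩ ^ m * ⟨_, hEN em.2⟩ from
        Subtype.ext (by simpa using hum), map_mul, map_pow, hκu, hκe, mul_one]
    rw [← h1, hκfu, inv_mul_cancel_right]
  obtain ⟨v, hv⟩ : ∃ v, v ∉ P := by
    by_contra hc
    push Not at hc
    exact hA.tr.ne_top (eq_top_iff.2 fun y _ => hc y)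
  obtain ⟨d, hd⟩ : ∃ d, d = v⁻¹ * t v := ⟨_, rfl⟩
  have hd1 : d ≠ 1 := hd ▸ hA.tr.diff_ne hv
  have hdc : d ∈ c := hd ▸ hA.tr.diff v
  have hkv : (k v)⁻¹ * t (k v) = d ^ r := by
    obtain ⟨δ, hδ⟩ : ∃ δ : V →* V, ∀ y, δ y = y⁻¹ * t y :=
      ⟨MonoidHom.mk' (fun y => y⁻¹ * t y) fun a b => by
        rw [map_mul, mul_inv, mul_mul_mul_comm], fun y => rfl⟩
    rw [← hδ, show k v = v ^ r * ((v ^ r)⁻¹ * k v) by rw [mul_inv_cancel_left], map_mul δ,
      map_zpow, hδ, hδ, (hA.tr.fix _).2 (hkP v), inv_mul_cancel, mul_one, ← hd]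
  have hm : (m : ZMod p) = (s : ZMod p) ^ 2 := by
    have h1 : d ^ s = d ^ (r * m) := by
      have h2 := DFunLike.congr_fun hkm v
      rw [MulAut.mul_apply, MulAut.mul_apply, hA.tr.pow_apply, hkv,
        show t v = v * d by rw [hd, mul_inv_cancel_left], map_mul, hkc d hdc] at h2
      rw [zpow_mul, zpow_natCast]
      exact mul_left_cancel h2
    have h3 : (s : ZMod p) = (r : ZMod p) * m := by
      rw [zpow_eq_zpow_iff_modEq, orderOf_eq_prime (h.exp d) hd1,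
        ← ZMod.intCast_eq_intCast_iff] at h1
      simpa using h1
    push_cast at hrs
    linear_combination (m : ZMod p) * hrs.symm - (s : ZMod p) * h3
  have hupE : u ^ p ∈ E := hA.Kle hA.hup
  have humE : ∀ i : ℕ, (u ^ i) ^ p ∈ E := fun i => by
    rw [← pow_mul, mul_comm, pow_mul]; exact E.pow_mem hupE i
  have hw : q ⟨u ^ p, hupE⟩ = 1 := by
    obtain ⟨w, hw⟩ : ∃ w, w = q ⟨u ^ p, hupE⟩ := ⟨_, rfl⟩
    obtain ⟨hmem, hq⟩ := hA.pow_coset h hp2 hum' em (humE m)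
    have h1 : q (α ⟨u ^ p, hupE⟩) = w ^ m := by
      rw [hw, ← map_pow, show α ⟨u ^ p, hupE⟩ = ⟨_, hmem⟩ from Subtype.ext (by
        rw [← hext]
        show f (u ^ p) = (u ^ m * (em : Ω)) ^ p
        rw [← zpow_natCast, hfi.isMap.map_zpow hA.hu, hum, zpow_natCast]), hq]
      congr 1
      exact Subtype.ext (by simp [← pow_mul, mul_comm])
    rw [hnat, ← hw, hkL w (hw ▸ hA.KL _ hA.hup)] at h1
    by_contra hne
    rw [← hw] at hne
    have h2 : (m : ZMod p) = 1 := by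
      have h3 : w ^ m = w ^ 1 := by rw [pow_one, ← h1]
      rw [pow_eq_pow_iff_modEq, orderOf_eq_prime (h.exp w) hne,
        ← ZMod.natCast_eq_natCast_iff] at h3
      simpa using h3
    exact hs2 (hm ▸ h2)
  refine ⟨k, α, f, hfi, hα, hext, hnat, hkL, hkc, hkP, fun n hn => ?_, fun n hn => ?_⟩
  · obtain ⟨i, e, rfl⟩ := hA.decomp h hn
    refine ⟨m, hm, ?_⟩
    obtain ⟨θN, hθN⟩ : ∃ θ, θ = E.subgroupOf (normalizerIn S E) := ⟨_, rfl⟩
    haveI : θN.Normal := hθN ▸ normal_subgroupOf fun g hg z hz =>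
      conj_mem_of_mem_normalizer hg.2 hz
    have key : ((⟨u ^ i * e, hn⟩ : normalizerIn S E) ^ m)⁻¹ * ⟨_, hfi.mem hn⟩ ∈ θN := by
      have e1 : (⟨u ^ i * e, hn⟩ : normalizerIn S E) = ⟨u, hA.hu⟩ ^ i * ⟨_, hEN e.2⟩ :=
        Subtype.ext (by simp)
      have e2 : (⟨f (u ^ i * e), hfi.mem hn⟩ : normalizerIn S E) =
          (⟨u, hA.hu⟩ ^ m * ⟨_, hEN em.2⟩) ^ i * ⟨_, hEN (α e).2⟩ := by
        have e3 : f (u ^ i * e) = (u ^ m * (em : Ω)) ^ i * (α e : Ω) := by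
          rw [hfi.isMap.map_mul (Subgroup.pow_mem _ hA.hu i) (hEN e.2), ← zpow_natCast,
            hfi.isMap.map_zpow hA.hu, hum, hext, zpow_natCast]
        exact Subtype.ext (e3.trans (by simp))
      have hE1 : ∀ z (hz : z ∈ E), QuotientGroup.mk' θN ⟨z, hEN hz⟩ = 1 := fun z hz =>
        (QuotientGroup.eq_one_iff _).2 (hθN ▸ hz)
      rw [← QuotientGroup.eq_one_iff, ← QuotientGroup.mk'_apply, e1, e2, map_mul, map_inv, map_pow,
        map_mul, map_pow, hE1 _ e.2, mul_one, map_mul, map_pow, map_mul, map_pow, hE1 _ em.2,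
        mul_one, hE1 _ (α e).2, mul_one, ← pow_mul, ← pow_mul, mul_comm i m, inv_mul_cancel]
    rw [hθN] at key
    simpa [Subgroup.mem_subgroupOf] using key
  · obtain ⟨i, e, rfl⟩ := hA.decomp h hn
    obtain ⟨hmem, hq⟩ := hA.pow_coset h hp2 (Subgroup.pow_mem _ hA.hu i) e (humE i)
    rw [mem_pre' hmem, Subgroup.mem_bot, hq,
      show (⟨(u ^ i) ^ p, humE i⟩ : E) = ⟨u ^ p, hupE⟩ ^ i from
        Subtype.ext (by simp [← pow_mul, mul_comm]), map_pow, hw, one_pow]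

end CfsgLib.RankThree
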